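import Cfsg.Agent.A8Rec.Pairs
import Cfsg.Agent.Invol.IsolatedApps

/-!
The centralizer of a pair outside the class of the centre: modulo the pair an element fixed by the
stabilizer in `N(A)` is isolated.
-/

set_option autoImplicit false
set_option linter.unusedSectionVars false
set_option linter.style.haveILetI false
set_option maxRecDepth 100000

namespace CfsgLib.A8Rec

open Subgroup CfsgLib.SylL34
open CfsgLib.A8Three

theorem base_fix : ∀ x y : T, x.p = 0 → x * y = y * x → sh y.p x.a = x.a := by decide +kernel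

theorem fix_four : ∀ q : Fin 4, q ≠ 0 → ∀ a b : Fin 16, sh q a = a → sh q b = b → a ≠ 0 → b ≠ 0 → a ≠ b →
    a = 15 ∨ b = 15 ∨ a ^^^ b = 15 := by decide +kernel

theorem coset2_count : ∀ p : Fin 4, p ≠ 0 → elems.countP (fun x : T => decide (x.p = 0 ∨ x.p = p)) = 32 := by
  decide +kernel

theorem Ep_comm : ∀ p : Fin 4, p ≠ 0 → ∀ x : T, (x.p = 0 ∨ x.p = p) → sh p x.a = x.a →
    x * ⟨0, p⟩ = ⟨0, p⟩ * x ∧ x * ⟨pe p, 0⟩ = ⟨pe p, 0⟩ * x := by decide +kernel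

theorem pe_out : ∀ p : Fin 4, p ≠ 0 → ty ⟨pe p, p⟩ = 3 ∧ (⟨pe p, 0⟩ : T) * ⟨0, p⟩ = ⟨pe p, p⟩ := by decide +kernel

theorem xor_ne : ∀ a b : Fin 16, a ≠ b → a ^^^ b ≠ 0 := by decide +kernel

variable {G : Type*} [Group G] [Finite G] {S : Sylow 2 G} {el : T →* G}

namespace Rec

variable (D : Rec S el)
include D

theorem card_S : Nat.card (S : Subgroup G) = 64 := by
  rw [← D.range, ← Nat.card_congr (MonoidHom.ofInjective D.inj).toEquiv, card_T]

theorem card_coset2 {p : Fin 4} (hp : p ≠ 0) : Nat.card ((coset2 p hp).map el) = 32 := by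
  rw [card_map_of_injective D.inj, ← coset2_count p hp, ← card_filter]
  exact Nat.card_congr (Equiv.subtypeEquivRight fun x => Iff.rfl)

/-- The base is a Sylow subgroup of the centralizer of a four group avoiding the class. -/
theorem sylow_pair {a b : Fin 16} (ha : a ≠ 0) (hb : b ≠ 0) (hab : a ≠ b) (hA : ¬ Cls el a) (hB : ¬ Cls el b)
    (hAB : ¬ Cls el (a ^^^ b)) {R : Subgroup G} (hR : IsPGroup 2 R) (hAR : base.map el ≤ R)
    (hRC : R ≤ centralizer ({el ⟨a, 0⟩} : Set G) ⊓ centralizer ({el ⟨b, 0⟩} : Set G)) : R ≤ base.map el := by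
  haveI : Fact (Nat.Prime 2) := ⟨Nat.prime_two⟩
  obtain ⟨d, hd⟩ := exists_cj_le S hR
  have hdA : cj d (base.map el) = base.map el := D.unique ((map_mono hAR).trans hd)
    (by rintro _ ⟨x, hx, rfl⟩; exact conj_sq _ _ (D.base_sq x hx)) (by rw [card_cj, D.card_base])
  have hdN : d ∈ normalizer (base.map el : Set G) := mem_normalizer_of_cj hdA
  intro r hr
  obtain ⟨y, hy⟩ := D.exists_el (hd (conj_mem_cj.2 hr))
  by_cases hyp : y.p = 0
  · have h1 := conj_mem_of_normalizer (inv_mem hdN) (hy ▸ D.el_mem_base.2 hyp)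
    rwa [show d⁻¹ * (d * r * d⁻¹) * d⁻¹⁻¹ = r by group] at h1
  exfalso
  obtain ⟨a', ha'⟩ := D.exists_vec (conj_mem_of_normalizer hdN (D.mem_A a))
  obtain ⟨b', hb'⟩ := D.exists_vec (conj_mem_of_normalizer hdN (D.mem_A b))
  have hc : ∀ c c' : Fin 16, el ⟨c', 0⟩ = d * el ⟨c, 0⟩ * d⁻¹ → r * el ⟨c, 0⟩ = el ⟨c, 0⟩ * r → sh y.p c' = c' := by
    intro c c' hc' hrc
    refine base_fix ⟨c', 0⟩ y rfl (D.inj ?_)
    rw [map_mul, map_mul, hc', hy, show d * el ⟨c, 0⟩ * d⁻¹ * (d * r * d⁻¹) = d * (el ⟨c, 0⟩ * r) * d⁻¹ by group,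
      ← hrc]
    group
  have h1 := hc a a' ha' (mem_centralizer_singleton_iff.1 (hRC hr).1)
  have h2 := hc b b' hb' (mem_centralizer_singleton_iff.1 (hRC hr).2)
  have oa : Orb el (base.map el) a a' := ⟨d, hdN, ha'.symm⟩
  have ob : Orb el (base.map el) b b' := ⟨d, hdN, hb'.symm⟩
  have oab : Orb el (base.map el) (a ^^^ b) (a' ^^^ b') := ⟨d, hdN, by
    rw [← vec_mul a, map_mul, ← vec_mul a', map_mul, ha', hb']; group⟩
  have hne : ∀ {c c' : Fin 16}, Orb el (base.map el) c c' → c ≠ 0 → c' ≠ 0 := by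
    rintro c _ ⟨m, -, e⟩ hc0 rfl
    rw [show (⟨0, 0⟩ : T) = 1 from rfl, map_one, conj_eq_one_iff, D.el_eq_one] at e
    exact hc0 (congrArg T.a e)
  rcases fix_four y.p hyp a' b' h1 h2 (hne oa ha) (hne ob hb) (fun e => hab (D.vec_inj (by
    have h := ha'.symm.trans ((congrArg (fun c => el ⟨c, 0⟩) e).trans hb')
    exact mul_left_cancel (mul_right_cancel h)))) with e | e | e
  · exact hA ((D.cls_congr oa).2 (e ▸ D.cls_15))
  · exact hB ((D.cls_congr ob).2 (e ▸ D.cls_15))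
  · exact hAB ((D.cls_congr oab).2 (e ▸ D.cls_15))

/-- A Sylow subgroup of the centralizer of a pair outside the class. -/
theorem cb_sylow {p : Fin 4} (hp : p ≠ 0) (hP : ¬ Cls el (pe p)) :
    ∃ P : Sylow 2 (centralizer ({el ⟨pe p, 0⟩} : Set G)),
      (P : Subgroup _) = ((coset2 p hp).map el).subgroupOf (centralizer ({el ⟨pe p, 0⟩} : Set G)) := by
  haveI : Fact (Nat.Prime 2) := ⟨Nat.prime_two⟩
  have hle : (coset2 p hp).map el ≤ centralizer ({el ⟨pe p, 0⟩} : Set G) := by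
    rintro _ ⟨x, hx, rfl⟩
    exact mem_centralizer_singleton_iff.2 (by rw [← map_mul, ← map_mul, (pe_cent p hp x).2 hx])
  refine exists_sylow_eq hle (S.2.to_le (by rintro _ ⟨x, -, rfl⟩; exact D.mem_S x)) fun R hR hPR hRC => ?_
  obtain ⟨d, hd⟩ := exists_cj_le S hR
  by_contra hcon
  have hlt : 32 < Nat.card R := by
    by_contra h
    exact hcon (eq_of_le_of_card_ge hPR (by rw [D.card_coset2 hp]; omega)).ge
  have hdvd : Nat.card (cj d R) ∣ 64 := D.card_S ▸ card_dvd_of_le hd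
  have h64 : Nat.card (cj d R) = 64 := by
    obtain ⟨k, hk⟩ := hdvd
    rw [card_cj] at hk ⊢
    have hk2 : k < 2 := by
      by_contra h
      have := Nat.mul_le_mul (Nat.succ_le_of_lt hlt) (not_lt.1 h)
      omega
    interval_cases k <;> omega
  have heq : cj d R = (S : Subgroup G) := eq_of_le_of_card_ge hd (by rw [h64, D.card_S])
  have hbR : el ⟨pe p, 0⟩ ∈ R := hPR (mem_map_of_mem el (show (⟨pe p, 0⟩ : T) ∈ coset2 p hp from Or.inl rfl))
  obtain ⟨y, hy⟩ := D.exists_el (hd (conj_mem_cj.2 hbR))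
  have hy' : el y = d * el ⟨pe p, 0⟩ * d⁻¹ := hy
  rcases center_zz y (fun x => D.inj (by
    obtain ⟨r, hr, hre⟩ := (heq.symm ▸ D.mem_S x : el x ∈ cj d R)
    have hre' : d * r * d⁻¹ = el x := hre
    rw [map_mul, map_mul, hy', ← hre', show d * el ⟨pe p, 0⟩ * d⁻¹ * (d * r * d⁻¹) = d * (el ⟨pe p, 0⟩ * r) * d⁻¹ by group,
      ← mem_centralizer_singleton_iff.1 (hRC hr)]
    group)) with e | e
  · rw [e, map_one, eq_comm, conj_eq_one_iff, D.el_eq_one] at hy'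
    exact (pe_six p hp).2.1 (congrArg T.a hy')
  · exact hP (IsConj.symm (isConj_iff.2 ⟨d, hy'.symm.trans (congrArg el e)⟩))

/-- The translation of a pair outside the class is not fused into the base in its centralizer. -/
theorem out_not_A {p : Fin 4} (hp : p ≠ 0) (hP : ¬ Cls el (pe p)) {g : G}
    (hg : g ∈ centralizer ({el ⟨pe p, 0⟩} : Set G)) : g * el ⟨0, p⟩ * g⁻¹ ∉ base.map el := by
  haveI : Fact (Nat.Prime 2) := ⟨Nat.prime_two⟩
  intro hA
  obtain ⟨a, ha⟩ := D.exists_vec hA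
  set b := el ⟨pe p, 0⟩
  have hgb : g * b * g⁻¹ = b := by rw [mem_centralizer_singleton_iff.1 hg, mul_inv_cancel_right]
  have ha0 : a ≠ 0 := by
    intro e
    rw [e, show (⟨0, 0⟩ : T) = 1 from rfl, map_one, eq_comm, conj_eq_one_iff, D.el_eq_one] at ha
    exact hp (congrArg T.p ha)
  have hap : a ≠ pe p := by
    intro e
    rw [e] at ha
    exact hp (congrArg T.p (D.inj (mul_left_cancel (mul_right_cancel (hgb.trans ha)))).symm)
  have hnA : ¬ Cls el a := fun h => hP (D.out_zclass hp ((isConj_iff.2 ⟨g, ha.symm⟩).trans h.symm))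
  have hnAB : ¬ Cls el (a ^^^ pe p) := fun h => by
    obtain ⟨c, hc⟩ := out_conj _ (pe_out p hp).1
    have e1 : IsConj (el ⟨0, p⟩) (el ⟨pe p, p⟩) := isConj_iff.2 ⟨el ⟨c, 0⟩, by rw [← map_inv, ← map_mul, ← map_mul, hc]⟩
    have e2 : IsConj (el ⟨pe p, p⟩) (el ⟨a ^^^ pe p, 0⟩) := isConj_iff.2 ⟨g, by
      rw [← (pe_out p hp).2, map_mul, ← vec_mul, map_mul, ha,
        D.base_comm hA (D.mem_A (pe p))]
      change _ = b * _
      conv_rhs => rw [← hgb]
      simp only [b]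
      group⟩
    exact hP (D.out_zclass hp ((e1.trans e2).trans h.symm))
  set X := centralizer ({el ⟨a, 0⟩} : Set G) ⊓ centralizer ({b} : Set G)
  have hAX : base.map el ≤ X := fun x hx =>
    ⟨mem_centralizer_singleton_iff.2 (D.base_comm hx (D.mem_A a)), mem_centralizer_singleton_iff.2 (D.base_comm hx (D.mem_A _))⟩
  obtain ⟨Q, hQ⟩ := exists_sylow_eq hAX (isPGroup_of_sq D.base_sq) fun R hR hAR hRX =>
    D.sylow_pair ha0 (pe_six p hp).2.1 hap hnA hP hnAB hR hAR hRX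
  set E := (Ep p).map el
  have hEX : cj g E ≤ X := by
    rintro _ ⟨_, ⟨x, hx, rfl⟩, rfl⟩
    obtain ⟨e1, e2⟩ := Ep_comm p hp x hx.1 hx.2
    refine ⟨mem_centralizer_singleton_iff.2 ?_, mem_centralizer_singleton_iff.2 ?_⟩
    · show g * el x * g⁻¹ * el ⟨a, 0⟩ = el ⟨a, 0⟩ * (g * el x * g⁻¹)
      rw [ha, show g * el x * g⁻¹ * (g * el ⟨0, p⟩ * g⁻¹) = g * (el x * el ⟨0, p⟩) * g⁻¹ by group, ← map_mul, e1, map_mul]
      group
    · show g * el x * g⁻¹ * b = b * (g * el x * g⁻¹)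
      rw [← hgb, show g * el x * g⁻¹ * (g * b * g⁻¹) = g * (el x * el ⟨pe p, 0⟩) * g⁻¹ by simp only [b]; group,
        ← map_mul, e2, map_mul]
      simp only [b]
      group
  obtain ⟨c, hc⟩ := exists_cj_le Q (P := (cj g E).subgroupOf X)
    (((IsPGroup.to_le S.2 (by rintro _ ⟨x, -, rfl⟩; exact D.mem_S x)).map _).comap_subtype)
  have hin : ∀ x ∈ Ep p, (c : G) * g * el x * ((c : G) * g)⁻¹ ∈ base.map el := fun x hx => by
    have hm : (⟨g * el x * g⁻¹, hEX (conj_mem_cj.2 (mem_map_of_mem el hx))⟩ : X) ∈ (cj g E).subgroupOf X :=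
      conj_mem_cj.2 (mem_map_of_mem el hx)
    have := hc ((conj_mem_cj (g := c)).2 hm)
    rw [hQ, mem_subgroupOf] at this
    simpa [mul_assoc] using this
  exact D.no_E hp ((c : G) * g) fun e he => ⟨hin _ ⟨Or.inl rfl, he⟩, hin _ ⟨Or.inr rfl, he⟩⟩

/-- No involution of the coset is fused into the base in the centralizer of its pair. -/
theorem out_not_A' {p : Fin 4} (hp : p ≠ 0) (hP : ¬ Cls el (pe p)) {y : T} (hyp : y.p = p) (hy : ty y = 3) {g : G}
    (hg : g ∈ centralizer ({el ⟨pe p, 0⟩} : Set G)) : g * el y * g⁻¹ ∉ base.map el := by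
  obtain ⟨c, hc⟩ := out_conj y hy
  rw [hyp] at hc
  have h := D.out_not_A hp hP (g := g * el ⟨c, 0⟩)
    (mul_mem hg (mem_centralizer_singleton_iff.2 (D.base_comm (D.mem_A c) (D.mem_A _))))
  rwa [show g * el ⟨c, 0⟩ * el ⟨0, p⟩ * (g * el ⟨c, 0⟩)⁻¹ = g * (el ⟨c, 0⟩ * el ⟨0, p⟩ * (el ⟨c, 0⟩)⁻¹) * g⁻¹ by group,
    ← map_inv, ← map_mul, ← map_mul, hc] at h

/-- Modulo the pair, an element fixed by the stabilizer is isolated. -/
theorem iso_split {p : Fin 4} (hp : p ≠ 0) (hP : ¬ Cls el (pe p)) {u : Fin 16} (hu0 : u ≠ 0) (hup : u ≠ pe p)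
    (hst : ∀ n ∈ normalizer (base.map el : Set G), n * el ⟨pe p, 0⟩ * n⁻¹ = el ⟨pe p, 0⟩ →
      n * el ⟨u, 0⟩ * n⁻¹ = el ⟨u, 0⟩ ∨ n * el ⟨u, 0⟩ * n⁻¹ = el ⟨u ^^^ pe p, 0⟩) :
    ∀ g ∈ centralizer ({el ⟨pe p, 0⟩} : Set G), ∃ o ∈ Oc (el ⟨pe p, 0⟩),
      ∃ k ∈ centralizer ({el ⟨pe p, 0⟩} : Set G),
        (k * el ⟨u, 0⟩ * k⁻¹ = el ⟨u, 0⟩ ∨ k * el ⟨u, 0⟩ * k⁻¹ = el ⟨u ^^^ pe p, 0⟩) ∧ g = o * k := by
  haveI : Fact (Nat.Prime 2) := ⟨Nat.prime_two⟩
  set b := el ⟨pe p, 0⟩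
  set C := centralizer ({b} : Set G)
  have hAC : base.map el ≤ C := fun x hx => mem_centralizer_singleton_iff.2 (D.base_comm hx (D.mem_A _))
  obtain ⟨P, hP'⟩ := D.cb_sylow hp hP
  set bC : C := ⟨b, hAC (D.mem_A _)⟩
  set uC : C := ⟨el ⟨u, 0⟩, hAC (D.mem_A _)⟩
  have hbcen : ∀ g : C, g * bC = bC * g := fun g => Subtype.ext (mem_centralizer_singleton_iff.1 g.2)
  have hbsq : bC * bC = 1 := Subtype.ext (D.base_sq _ (D.mem_A _))
  haveI : (zpowers bC).Normal := by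
    refine ⟨fun x hx g => ?_⟩
    obtain ⟨i, rfl⟩ := mem_zpowers_iff.1 hx
    rwa [((show Commute g bC from hbcen g).zpow_right i).eq, mul_inv_cancel_right]
  set f := QuotientGroup.mk' (zpowers bC)
  have hf : Function.Surjective f := QuotientGroup.mk'_surjective _
  have hfb : f bC = 1 := (QuotientGroup.eq_one_iff bC).2 (mem_zpowers bC)
  have hfeq : ∀ x y : C, f x = f y → x = y ∨ x = y * bC := by
    intro x y e
    obtain ⟨i, hi⟩ := mem_zpowers_iff.1 ((QuotientGroup.eq_one_iff (y⁻¹ * x)).1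
      (show f (y⁻¹ * x) = 1 by rw [map_mul, map_inv, e, inv_mul_cancel]))
    rcases Int.even_or_odd i with ⟨j, rfl⟩ | ⟨j, rfl⟩
    · rw [zpow_add, ← (Commute.refl bC).mul_zpow, hbsq, one_zpow, eq_comm, inv_mul_eq_one] at hi
      exact Or.inl hi.symm
    · rw [zpow_add, two_mul, zpow_add, ← (Commute.refl bC).mul_zpow, hbsq, one_zpow, one_mul, zpow_one] at hi
      exact Or.inr (by rw [hi, mul_inv_cancel_left])
  have hiso : Cfsg.IsIsolatedInvolution (f uC) := by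
    refine Invol.isolated_of_sylow (P.mapSurjective hf) (order_two ?_ ?_) fun g hg => ?_
    · rw [← map_mul, show uC * uC = 1 from Subtype.ext (D.base_sq _ (D.mem_A _)), map_one]
    · intro e
      rcases hfeq uC 1 (e.trans (map_one f).symm) with e | e
      · exact hu0 (congrArg T.a (D.el_eq_one.1 (congrArg Subtype.val e)))
      · rw [one_mul] at e
        exact hup (D.vec_inj (congrArg Subtype.val e))
    obtain ⟨g, rfl⟩ := hf g
    rw [← map_inv, ← map_mul, ← map_mul] at hg ⊢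
    obtain ⟨q, hq, hqe⟩ := hg
    rw [hP'] at hq
    obtain ⟨y, hy, hye⟩ : (g : G) * el ⟨u, 0⟩ * (g : G)⁻¹ ∈ (coset2 p hp).map el := by
      have hbP : b ∈ (coset2 p hp).map el := mem_map_of_mem el (show (⟨pe p, 0⟩ : T) ∈ coset2 p hp from Or.inl rfl)
      rcases hfeq _ _ hqe with e | e <;> have e' := congrArg Subtype.val e
      · rw [show (g : G) * el ⟨u, 0⟩ * (g : G)⁻¹ = (q : G) from e'.symm]; exact hq
      · change (q : G) = (g : G) * el ⟨u, 0⟩ * (g : G)⁻¹ * b at e'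
        rw [show (g : G) * el ⟨u, 0⟩ * (g : G)⁻¹ = (q : G) * b⁻¹ by rw [e', mul_inv_cancel_right]]
        exact mul_mem hq (inv_mem hbP)
    by_cases hy0 : y.p = 0
    · obtain ⟨n, hnC, hn, hne⟩ := D.fus_base hAC g.2 (D.mem_A u) (D.el_mem_base.2 hy0) hye.symm
      rcases hst n hn (by rw [mem_centralizer_singleton_iff.1 hnC, mul_inv_cancel_right]) with e | e
      · exact congrArg f (Subtype.ext (hye.symm.trans (hne.symm.trans e)))
      · have h1 : g * uC * g⁻¹ = uC * bC := Subtype.ext (hye.symm.trans (hne.symm.trans (e.trans (by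
          rw [← vec_mul, map_mul]; rfl))))
        rw [h1, map_mul, hfb, mul_one]
    · exfalso
      have hyy : y * y = 1 := D.inj (by rw [map_mul, map_one, hye]; exact conj_sq _ _ (D.base_sq _ (D.mem_A u)))
      refine D.out_not_A' hp hP (hy.resolve_left hy0) (D.out_ty hy0 hyy) (g := (g : G)⁻¹) (inv_mem g.2) ?_
      rw [hye, show (g : G)⁻¹ * ((g : G) * el ⟨u, 0⟩ * (g : G)⁻¹) * (g : G)⁻¹⁻¹ = el ⟨u, 0⟩ by group]
      exact D.mem_A u
  intro g hg
  obtain ⟨o, ho, c, hc, e⟩ := IsoApps.exists_mul hiso (f ⟨g, hg⟩)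
  obtain ⟨o, rfl⟩ := hf o
  obtain ⟨c, rfl⟩ := hf c
  obtain ⟨o', ho', c, hc, e⟩ : ∃ o' ∈ Cfsg.oddCore C, ∃ c : C, f c * f uC = f uC * f c ∧ (⟨g, hg⟩ : C) = o' * c := by
    rw [← map_mul] at e
    have hc' : f c * f uC = f uC * f c := mem_centralizer_singleton_iff.1 hc
    rcases hfeq _ _ e with e | e <;> rcases core_lift hbsq hbcen ho with h' | h'
    · exact ⟨o, h', c, hc', e⟩
    · exact ⟨o * bC, h', bC * c, by rw [map_mul, hfb, one_mul]; exact hc', by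
        rw [e, mul_assoc, ← mul_assoc bC, hbsq, one_mul]⟩
    · exact ⟨o, h', c * bC, by rw [map_mul, hfb, mul_one]; exact hc', by rw [e, mul_assoc]⟩
    · exact ⟨o * bC, h', c, hc', by rw [e, mul_assoc o bC, ← hbcen, mul_assoc]⟩
  refine ⟨o', mem_Oc_of ho', c, c.2, ?_, congrArg Subtype.val e⟩
  rcases hfeq (c * uC * c⁻¹) uC (by rw [map_mul, map_mul, map_inv, hc, mul_inv_cancel_right]) with e' | e'
  · exact Or.inl (congrArg Subtype.val e')
  · refine Or.inr ((congrArg Subtype.val e').trans ?_)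
    rw [← vec_mul, map_mul]; rfl

/-- The centralizer of a pair is `O(C)` times the centralizer of the fixed element, up to the translation. -/
theorem cb_split {p : Fin 4} (hp : p ≠ 0) (hP : ¬ Cls el (pe p)) {u : Fin 16} (hu0 : u ≠ 0) (hup : u ≠ pe p)
    (hsh : sh p u = u ∨ sh p u = u ^^^ pe p) (hcl : sh p u = u → Cls el u)
    (hst : ∀ n ∈ normalizer (base.map el : Set G), n * el ⟨pe p, 0⟩ * n⁻¹ = el ⟨pe p, 0⟩ →
      n * el ⟨u, 0⟩ * n⁻¹ = el ⟨u, 0⟩ ∨ n * el ⟨u, 0⟩ * n⁻¹ = el ⟨u ^^^ pe p, 0⟩) :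
    ∀ g ∈ centralizer ({el ⟨pe p, 0⟩} : Set G), ∃ o ∈ Oc (el ⟨pe p, 0⟩),
      ∃ k ∈ centralizer ({el ⟨pe p, 0⟩} : Set G), k * el ⟨u, 0⟩ = el ⟨u, 0⟩ * k ∧
        (g = o * k ∨ (sh p u = u ^^^ pe p ∧ g = o * ((el ⟨0, p⟩)⁻¹ * k))) := by
  intro g hg
  obtain ⟨o, ho, k, hk, hku, e⟩ := D.iso_split hp hP hu0 hup hst g hg
  rcases hku with hku | hku
  · exact ⟨o, ho, k, hk, mul_inv_eq_iff_eq_mul.1 hku, Or.inl e⟩
  rcases hsh with hs | hs
  · exfalso
    have hub : Cls el (u ^^^ pe p) := (hcl hs).trans (isConj_iff.2 ⟨k, hku⟩)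
    rcases (fix_cases p hp u).1 hs with h | h | h | h
    · exact hu0 h
    · subst h
      have h15 : (15 : Fin 16) ^^^ pe p = pe p ^^^ 15 := by
        have : ∀ x : Fin 16, (15 : Fin 16) ^^^ x = x ^^^ 15 := by decide +kernel
        exact this _
      rw [h15] at hub
      exact hP ((D.cls_congr (D.orb_flip hp)).2 hub)
    · exact hup h
    · subst h
      exact hP ((D.cls_congr (D.orb_flip hp)).2 (hcl hs))
  · set τ := el ⟨0, p⟩
    have hτ : τ ∈ centralizer ({el ⟨pe p, 0⟩} : Set G) := mem_centralizer_singleton_iff.2 (by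
      rw [← map_mul, ← map_mul, pe_comm p])
    refine ⟨o, ho, τ * k, mul_mem hτ hk, ?_, Or.inr ⟨hs, by rw [inv_mul_cancel_left, e]⟩⟩
    refine mul_inv_eq_iff_eq_mul.1 ?_
    rw [show τ * k * el ⟨u, 0⟩ * (τ * k)⁻¹ = τ * (k * el ⟨u, 0⟩ * k⁻¹) * τ⁻¹ by group, hku, ← map_inv, ← map_mul,
      ← map_mul, conj_base, sh_xor, hs, (pe_spec p hp).1]
    have : ∀ x y : Fin 16, x ^^^ y ^^^ y = x := by decide +kernel
    rw [this]

end Rec

end CfsgLib.A8Rec
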