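import Cfsg.Agent.A8Rec.Setup
import Cfsg.Agent.A8Three.CentralModel
import Cfsg.Agent.Invol.ThompsonTransfer
import Cfsg.Agent.Solvable.Fitting

/-!
The centralizer of the central involution: a subgroup of index two with the even part as a Sylow
2-subgroup, and `C = O(C) (N(M) ∩ C)`.
-/

set_option autoImplicit false
set_option linter.unusedSectionVars false
set_option linter.style.haveILetI false
set_option maxRecDepth 100000

namespace CfsgLib.A8Rec

open Subgroup CfsgLib.SylL34
open CfsgLib.A8Three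

/-- Thompson transfer, keeping the elements whose conjugates in the Sylow subgroup stay in `Q`. -/
theorem transfer_keep {G : Type*} [Group G] [Finite G] (P Q : Subgroup G) (hP : Odd P.index)
    (hQi : Q.relIndex P = 2) {u : G} (hu : u * u = 1) (hcon : ∀ g : G, g * u * g⁻¹ ∉ Q) :
    ∃ K : Subgroup G, K.Normal ∧ K.index = 2 ∧ u ∉ K ∧
      ∀ x : G, x * x = 1 → (∀ g : G, g * x * g⁻¹ ∈ P → g * x * g⁻¹ ∈ Q) → x ∈ K := by
  classical
  set φ := ThompsonTransfer.parity (Q.subgroupOf P) hQi with hφ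
  haveI : P.FiniteIndex := inferInstance
  set a : Multiplicative (ZMod 2) := Multiplicative.ofAdd 1 with ha
  have ha1 : a ≠ 1 := by decide
  have ha2 : a * a = 1 := by decide
  have main : ∀ x : G, x * x = 1 → ∀ v : Multiplicative (ZMod 2), v * v = 1 →
      (∀ (g : G) (h : g * x * g⁻¹ ∈ P), φ ⟨g * x * g⁻¹, h⟩ = v) → MonoidHom.transfer φ x = v ^ P.index := by
    intro x hx v hv hval
    haveI : Fintype (Quotient (MulAction.orbitRel (zpowers x) (G ⧸ P))) := Fintype.ofFinite _
    rw [MonoidHom.transfer_eq_prod_quotient_orbitRel_zpowers_quot φ x]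
    calc ∏ q : Quotient (MulAction.orbitRel (zpowers x) (G ⧸ P)), _
        = ∏ q : Quotient (MulAction.orbitRel (zpowers x) (G ⧸ P)), v ^ Function.minimalPeriod (x • ·) q.out := by
          refine Finset.prod_congr rfl fun q _ => ?_
          have hd : Function.minimalPeriod (x • ·) q.out ∣ 2 := by
            refine Function.IsPeriodicPt.minimalPeriod_dvd ?_
            show (x • ·)^[2] q.out = q.out
            rw [Function.iterate_succ_apply', Function.iterate_one, smul_smul, hx, one_smul]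
          rcases (Nat.dvd_prime Nat.prime_two).1 hd with e | e
          · refine Eq.trans ?_ (by rw [e, pow_one])
            have hmem : q.out.out⁻¹ * x * q.out.out ∈ P := by
              have h := QuotientGroup.out_conj_pow_minimalPeriod_mem P x q.out
              rwa [e, pow_one] at h
            have h2 := hval q.out.out⁻¹ (by rwa [inv_inv])
            refine Eq.trans (congrArg φ (Subtype.ext ?_)) h2
            simp only [e, pow_one, inv_inv]
          · refine (ThompsonTransfer.parity_apply_mem hQi ?_).trans (by rw [e, sq v, hv])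
            rw [mem_subgroupOf]
            simp [e, sq, hx]
      _ = v ^ P.index := by rw [Finset.prod_pow_eq_pow_sum, ← index_eq_sum_minimalPeriod P x]
  have hku : MonoidHom.transfer φ u = a := by
    rw [main u hu a ha2 fun g h => ThompsonTransfer.parity_apply_not_mem hQi fun h' => hcon g h']
    obtain ⟨k, hk⟩ := hP
    rw [hk, pow_succ, pow_mul, sq, ha2, one_pow, one_mul]
  refine ⟨(MonoidHom.transfer φ).ker, inferInstance, ?_, fun h => ha1 (hku ▸ MonoidHom.mem_ker.1 h),
    fun x hx h => MonoidHom.mem_ker.2 ?_⟩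
  · rw [index_ker]
    have h2 : Nat.card (MonoidHom.transfer φ).range ∣ 2 := by
      have h := (MonoidHom.transfer φ).range.card_subgroup_dvd_card
      rwa [show Nat.card (Multiplicative (ZMod 2)) = 2 by simp] at h
    refine ((Nat.dvd_prime Nat.prime_two).1 h2).resolve_left fun h => ha1 ?_
    have h3 : a ∈ (MonoidHom.transfer φ).range := ⟨u, hku⟩
    rw [card_eq_one.1 h, mem_bot] at h3
    exact h3
  · rw [main x hx 1 (one_mul 1) fun g hg => ThompsonTransfer.parity_apply_mem hQi (h g hg), one_pow]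

/-- A solvable group whose Sylow 2-subgroup is abelian modulo a central involution. -/
theorem solvable_split {K : Type*} [Group K] [Finite K] [Group.IsSolvable K] {c : K} (hc : c * c = 1)
    (hcc : ∀ g : K, g * c = c * g) (R : Sylow 2 K) (hcR : c ∈ (R : Subgroup K))
    (hab : ∀ r ∈ (R : Subgroup K), ∀ s ∈ (R : Subgroup K), r * s = s * r ∨ r * s = s * r * c) :
    ∀ g : K, ∃ o ∈ Cfsg.oddCore K, ∃ n ∈ normalizer ((R : Subgroup K) : Set K), g = o * n := by
  haveI : Fact (Nat.Prime 2) := ⟨Nat.prime_two⟩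
  haveI : (zpowers c).Normal := by
    refine ⟨fun x hx g => ?_⟩
    obtain ⟨i, rfl⟩ := mem_zpowers_iff.1 hx
    rwa [((show Commute g c from hcc g).zpow_right i).eq, mul_inv_cancel_right]
  set f := QuotientGroup.mk' (zpowers c)
  have hf : Function.Surjective f := QuotientGroup.mk'_surjective _
  haveI : Group.IsSolvable (K ⧸ zpowers c) := Group.isSolvable_of_surjective hf
  have hfc : f c = 1 := (QuotientGroup.eq_one_iff c).2 (mem_zpowers c)
  set R' := R.mapSurjective hf
  have habR : IsMulCommutative (R' : Subgroup (K ⧸ zpowers c)) := ⟨⟨fun ⟨_, r, hr, er⟩ ⟨_, s, hs, es⟩ => by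
    subst er es
    refine Subtype.ext ?_
    show f r * f s = f s * f r
    rw [← map_mul, ← map_mul]
    rcases hab r hr s hs with e | e <;> rw [e]
    rw [map_mul _ (s * r) c, hfc, mul_one]⟩⟩
  set O := Cfsg.oddCore (K ⧸ zpowers c)
  haveI : O.Normal := ocore_normal
  set N := (R' : Subgroup (K ⧸ zpowers c)) ⊔ O
  haveI : N.Normal := Fitting.sup_pPrimeCore_normal R' habR
  intro g
  have htop := Sylow.normalizer_sup_eq_top (R'.subtype (le_sup_left : (R' : Subgroup (K ⧸ zpowers c)) ≤ N))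
  rw [Sylow.coe_subtype, map_subgroupOf_eq_of_le le_sup_left] at htop
  have htop2 : O ⊔ normalizer ((R' : Subgroup (K ⧸ zpowers c)) : Set (K ⧸ zpowers c)) = ⊤ := by
    rw [eq_top_iff, ← htop]
    exact sup_le le_sup_right (sup_le (le_normalizer.trans le_sup_right) le_sup_left)
  have hg : f g ∈ O ⊔ normalizer ((R' : Subgroup (K ⧸ zpowers c)) : Set (K ⧸ zpowers c)) := htop2 ▸ mem_top _
  rw [← SetLike.mem_coe, Subgroup.normal_mul] at hg
  obtain ⟨o, ho, v, hv, e : o * v = f g⟩ := hg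
  obtain ⟨n, hn, hnv⟩ := sylow_lift f hf R (v := v) hv
  have ho' : ((g * n⁻¹ : K) : K ⧸ zpowers c) ∈ O := by
    show f (g * n⁻¹) ∈ O
    rwa [map_mul, map_inv, hnv, ← e, mul_inv_cancel_right]
  rcases core_lift hc hcc ho' with h | h
  · exact ⟨_, h, n, hn, by group⟩
  · refine ⟨_, h, c * n, mul_mem (le_normalizer hcR) hn, ?_⟩
    rw [mul_assoc, ← mul_assoc c c, hc, one_mul, inv_mul_cancel_right]

theorem odd_rep : ∀ a : Fin 16, ev a = false → ∃ r, a = sh r 7 ∨ a = sh r 7 ^^^ 15 := by decide +kernel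

theorem odd_cent : ∀ a : Fin 16, ev a = false → ∀ x : T, x * ⟨a, 0⟩ = ⟨a, 0⟩ * x → x.p = 0 := by decide +kernel

theorem out_noncomm : ∀ y : T, ty y = 3 → ∃ u : T, u * y = y * u ∧ ∃ v : T, v * y = y * v ∧ u * v ≠ v * u := by
  decide +kernel

theorem six_flip : ∀ a : Fin 16, six (a ^^^ 15) = six a := by decide +kernel

theorem evens_idx : ∀ x : T, ev (x * ⟨7, 0⟩).a = !ev x.a := by decide +kernel

theorem evens_abel : ∀ x y : T, ev x.a = true → ev y.a = true → x * y = y * x ∨ x * y = y * x * zz := by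
  decide +kernel

variable {G : Type*} [Group G] [Finite G] {S : Sylow 2 G} {el : T →* G}

namespace Rec

variable (D : Rec S el)
include D

theorem A_cent : base.map el ≤ centralizer ({el zz} : Set G) := D.base_le.trans D.S_cent

/-- An odd vector is not conjugate in `C` into the even part. -/
theorem odd_not_even {a : Fin 16} (ha : ev a = false) {g : G} (hg : g ∈ centralizer ({el zz} : Set G)) {y : T}
    (h : g * el ⟨a, 0⟩ * g⁻¹ = el y) : ev y.a = false := by
  haveI : Fact (Nat.Prime 2) := ⟨Nat.prime_two⟩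
  set C := centralizer ({el zz} : Set G)
  -- inside the base
  have hbase : ∀ a, ev a = false → ∀ g ∈ C, ∀ b, g * el ⟨a, 0⟩ * g⁻¹ = el ⟨b, 0⟩ → ev b = false := by
    intro a ha g hg b hb
    obtain ⟨n, hnC, hn, e⟩ := D.fus_base D.A_cent hg (D.mem_A a) (D.mem_A b) hb
    obtain ⟨r, hr⟩ := odd_rep a ha
    set m := n * el ⟨0, r⟩
    have hmN : m ∈ normalizer (base.map el : Set G) := mul_mem hn (D.S_le (D.mem_S _))
    have hmC : m ∈ C := mul_mem hnC (D.S_cent (D.mem_S _))
    obtain ⟨c1, c2, c4, c8, hc⟩ := D.exists_lin hmN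
    have h15 : lin c1 c2 c4 c8 15 = 15 := D.vec_inj (by
      rw [← hc, show (⟨15, 0⟩ : T) = zz from rfl, mem_centralizer_singleton_iff.1 hmC, mul_inv_cancel_right])
    have hm7 : n * el ⟨sh r 7, 0⟩ * n⁻¹ = el ⟨lin c1 c2 c4 c8 7, 0⟩ := by
      rw [← hc, ← conj_base, map_mul, map_mul, map_inv]; simp only [m]; group
    have h8 : c8 = last 15 c1 c2 c4 := by
      have : ∀ c1 c2 c4 c8 : Fin 16, lin c1 c2 c4 c8 15 = c1 ^^^ c2 ^^^ c4 ^^^ c8 := fun _ _ _ _ => rfl
      rw [this] at h15
      have h2 : ∀ x y : Fin 16, x ^^^ y = 15 → y = 15 ^^^ x := by decide +kernel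
      rw [h2 _ _ h15]
      show _ = 15 ^^^ c1 ^^^ c2 ^^^ c4
      rw [xor16_assoc 15, xor16_assoc 15, xor16_assoc]
    have hno := no_even c1 c2 c4
    rw [← h8, D.lin_ok hmN hc, Bool.not_true, Bool.or_false, Bool.not_eq_true'] at hno
    have hb2 : b = lin c1 c2 c4 c8 7 ∨ b = lin c1 c2 c4 c8 7 ^^^ 15 := by
      rcases hr with rfl | rfl
      · exact Or.inl (D.vec_inj (e.symm.trans hm7))
      · refine Or.inr (D.vec_inj ?_)
        rw [← e, ← vec_mul (lin c1 c2 c4 c8 7) 15, map_mul, ← hm7, ← vec_mul (sh r 7) 15, map_mul,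
          show (⟨15, 0⟩ : T) = zz from rfl]
        have h1 := mem_centralizer_singleton_iff.1 hnC
        calc n * (el ⟨sh r 7, 0⟩ * el zz) * n⁻¹ = n * el ⟨sh r 7, 0⟩ * n⁻¹ * (n * el zz * n⁻¹) := by group
          _ = _ := by rw [h1, mul_inv_cancel_right]
    by_contra hev
    rw [Bool.not_eq_false] at hev
    have hb0 : b ≠ 0 := fun e0 => by
      rw [e0, show (⟨0, 0⟩ : T) = 1 from rfl, map_one, conj_eq_one_iff, D.el_eq_one] at hb
      obtain rfl : a = 0 := congrArg T.a hb
      exact absurd ha (by decide)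
    have hb15 : b ≠ 15 := fun e0 => by
      rw [e0, show (⟨15, 0⟩ : T) = zz from rfl, mul_inv_eq_iff_eq_mul, ← mem_centralizer_singleton_iff.1 hg] at hb
      obtain rfl : a = 15 := congrArg T.a (D.inj (mul_left_cancel hb))
      exact absurd ha (by decide)
    have h6 : six b = true := by simp [six, hev, hb0, hb15]
    rcases hb2 with e2 | e2 <;> rw [e2] at h6
    · rw [hno] at h6; exact Bool.false_ne_true h6
    · rw [six_flip, hno] at h6; exact Bool.false_ne_true h6
  by_cases hp : y.p = 0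
  · obtain ⟨b, p⟩ := y
    obtain rfl : p = 0 := hp
    exact hbase a ha g hg b h
  exfalso
  have hyy : y * y = 1 := D.inj (by
    rw [map_mul, map_one, ← h]; exact conj_sq g _ (D.base_sq _ (D.mem_A a)))
  have hty : ty y = 3 := by
    have h : ∀ x : T, x.p ≠ 0 → x * x = 1 → ty x = 3 := by decide +kernel
    exact h y hp hyy
  -- the base is a Sylow subgroup of the centralizer of the odd vector in `C`
  set X := C ⊓ centralizer ({el ⟨a, 0⟩} : Set G)
  have hAX : base.map el ≤ X := le_inf D.A_cent fun x hx =>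
    mem_centralizer_singleton_iff.2 (D.base_comm hx (D.mem_A a))
  obtain ⟨Q, hQ⟩ := exists_sylow_eq hAX (isPGroup_of_sq D.base_sq) fun R hR hAR hRX => by
    obtain ⟨c, hc⟩ := exists_cj_le (S.subtype D.S_cent) (P := R.subgroupOf C) hR.comap_subtype
    have hle : cj (c : G) R ≤ (S : Subgroup G) := by
      rintro _ ⟨x, hx, rfl⟩
      have hm := hc ((conj_mem_cj (g := c)).2
        (show (⟨x, (mem_inf.1 (hRX hx)).1⟩ : C) ∈ R.subgroupOf C from hx))
      rw [Sylow.coe_subtype, mem_subgroupOf] at hm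
      exact hm
    have hcN : (c : G) ∈ normalizer (base.map el : Set G) := mem_normalizer_of_cj (D.unique
      (le_trans (map_mono hAR) hle) (by rintro _ ⟨x, hx, rfl⟩; exact conj_sq _ _ (D.base_sq x hx))
      (by rw [card_cj, D.card_base]))
    obtain ⟨b, hb⟩ := D.exists_vec (conj_mem_of_normalizer hcN (D.mem_A a))
    have hev := hbase a ha c c.2 b hb.symm
    intro r hr
    obtain ⟨x, hx⟩ := D.exists_el (hle (conj_mem_cj.2 hr))
    have hxp : x.p = 0 := odd_cent b hev x (D.inj (by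
      rw [map_mul, map_mul, hx, hb]
      have h1 := mem_centralizer_singleton_iff.1 (mem_inf.1 (hRX hr)).2
      calc (c : G) * r * (c : G)⁻¹ * (c * el ⟨a, 0⟩ * (c : G)⁻¹) = c * (r * el ⟨a, 0⟩) * (c : G)⁻¹ := by group
        _ = c * (el ⟨a, 0⟩ * r) * (c : G)⁻¹ := by rw [h1]
        _ = _ := by group))
    have h1 := conj_mem_of_normalizer (inv_mem hcN) (hx ▸ D.el_mem_base.2 hxp)
    rwa [show (c : G)⁻¹ * ((c : G) * r * (c : G)⁻¹) * ((c : G)⁻¹)⁻¹ = r by group] at h1
  obtain ⟨u, hu, v, hv, huv⟩ := out_noncomm y hty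
  set P := closure ({g⁻¹ * el u * g, g⁻¹ * el v * g} : Set G)
  have hPX : P ≤ X := (closure_le _).2 (by
    have key : ∀ t : T, t * y = y * t → g⁻¹ * el t * g ∈ X := fun t ht => by
      refine ⟨C.mul_mem (C.mul_mem (C.inv_mem hg) (D.S_cent (D.mem_S t))) hg, mem_centralizer_singleton_iff.2 ?_⟩
      have h1 : el t * el y = el y * el t := by rw [← map_mul, ← map_mul, ht]
      rw [show el ⟨a, 0⟩ = g⁻¹ * el y * g by rw [← h]; group,
        show g⁻¹ * el t * g * (g⁻¹ * el y * g) = g⁻¹ * (el t * el y) * g by group, h1]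
      group
    rintro _ (rfl | rfl)
    exacts [key u hu, key v hv])
  have hP2 : IsPGroup 2 P := IsPGroup.to_le (S.2.map (MulAut.conj g⁻¹).toMonoidHom) ((closure_le _).2 (by
    rintro _ (rfl | rfl)
    exacts [⟨el u, D.mem_S u, by simp⟩, ⟨el v, D.mem_S v, by simp⟩]))
  obtain ⟨d, hd⟩ := exists_cj_le Q (P := P.subgroupOf X) hP2.comap_subtype
  have hm : ∀ t ∈ P, (d : G) * t * (d : G)⁻¹ ∈ base.map el := fun t ht => by
    have := hd ((conj_mem_cj (g := d)).2 (show (⟨t, hPX ht⟩ : X) ∈ P.subgroupOf X from ht))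
    rw [hQ, mem_subgroupOf] at this
    exact this
  have h1 := D.base_comm (hm _ (subset_closure (Set.mem_insert _ _)))
    (hm _ (subset_closure (Set.mem_insert_of_mem _ rfl)))
  refine huv (D.inj ?_)
  rw [map_mul, map_mul]
  calc el u * el v = g * (d : G)⁻¹ * ((d : G) * (g⁻¹ * el u * g) * (d : G)⁻¹ * ((d : G) * (g⁻¹ * el v * g) * (d : G)⁻¹)) * d * g⁻¹ := by group
    _ = _ := by rw [h1]; group

/-- A subgroup of index two of `C` meeting `S` in the even part. -/
theorem exists_kernel : ∃ K : Subgroup G, K ≤ centralizer ({el zz} : Set G) ∧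
    centralizer ({el zz} : Set G) ≤ normalizer (K : Set G) ∧ (∀ x : T, el x ∈ K ↔ ev x.a = true) ∧
    ∀ g ∈ centralizer ({el zz} : Set G), g ∈ K ∨ g * el ⟨7, 0⟩ ∈ K := by
  haveI : Fact (Nat.Prime 2) := ⟨Nat.prime_two⟩
  set C := centralizer ({el zz} : Set G)
  set S' := S.subtype D.S_cent
  set e : T →* C := el.codRestrict C fun x => D.S_cent (D.mem_S x)
  have hinj : Function.Injective e := fun x y h => D.inj (congrArg Subtype.val h)
  have hr : e.range = (S' : Subgroup C) := by
    ext g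
    rw [Sylow.coe_subtype, mem_subgroupOf]
    exact ⟨fun ⟨x, hx⟩ => hx ▸ D.mem_S x, fun hg => by
      obtain ⟨x, hx⟩ := D.exists_el hg; exact ⟨x, Subtype.ext hx⟩⟩
  have hrel : (evens.map e).relIndex (S' : Subgroup C) = 2 := by
    rw [← hr, MonoidHom.range_eq_map, relIndex_map_map, e.ker_eq_bot hinj, sup_bot_eq, sup_bot_eq,
      relIndex_top_right]
    refine index_eq_two_iff.2 ⟨⟨1, 0⟩, fun x => ?_⟩
    show Xor (ev (x * ⟨1, 0⟩).a = true) (ev x.a = true)
    rw [evens_index x]
    cases ev x.a <;> simp [Xor]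
  have hodd : Odd (S' : Subgroup C).index :=
    Nat.not_even_iff_odd.1 fun h => S'.not_dvd_index (even_iff_two_dvd.1 h)
  have hno : ∀ a, ev a = false → ∀ g : C, g * e ⟨a, 0⟩ * g⁻¹ ∉ evens.map e := by
    rintro a ha g ⟨y, hy, hye⟩
    have := D.odd_not_even ha g.2 (y := y) (congrArg Subtype.val hye).symm
    exact Bool.false_ne_true (this.symm.trans hy)
  obtain ⟨K, hKn, hKi, h7, hkeep⟩ := transfer_keep (S' : Subgroup C) (evens.map e) hodd hrel (u := e ⟨7, 0⟩)
    (by rw [← map_mul, vec_mul, show ((7 : Fin 16) ^^^ 7) = 0 by decide]; exact map_one e) (hno 7 seven.2.1)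
  -- the parity
  set ψ : T →* Multiplicative (ZMod 2) := (ThompsonTransfer.parity K hKi).comp e
  have hmem : ∀ x, ψ x = 1 ↔ e x ∈ K := fun x => by
    refine ⟨fun h => by_contra fun hx => ?_, fun h => ThompsonTransfer.parity_apply_mem hKi h⟩
    exact signs.1 ((ThompsonTransfer.parity_apply_not_mem hKi hx).symm.trans h)
  have hc : ∀ u v : T, ψ (u * v * u⁻¹) = ψ v := fun u v => by
    rw [map_mul, map_mul, map_inv]; exact mul_inv_cancel_comm _ _
  have hsh : ∀ p : Fin 4, ψ ⟨sh p 1, 0⟩ = ψ ⟨1, 0⟩ := fun p => by rw [← conj_base p 1, hc]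
  have h2 : ψ ⟨2, 0⟩ = ψ ⟨1, 0⟩ := by rw [← hsh 1]; congr 1
  have h4 : ψ ⟨4, 0⟩ = ψ ⟨1, 0⟩ := by rw [← hsh 2]; congr 1
  have h8 : ψ ⟨8, 0⟩ = ψ ⟨1, 0⟩ := by rw [← hsh 3]; congr 1
  have hbase : ∀ a : Fin 16, ψ ⟨a, 0⟩ = ψ ⟨1, 0⟩ ^ (a.val % 2 + (a.val / 2 % 2 + (a.val / 4 % 2 + a.val / 8))) :=
    fun a => by
      conv_lhs => rw [base_bits a]
      rw [map_mul, map_mul, map_mul, map_pow, map_pow, map_pow, map_pow, h2, h4, h8, pow_add, pow_add, pow_add]
  have h1 : ψ ⟨1, 0⟩ = Multiplicative.ofAdd (1 : ZMod 2) := by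
    by_contra hne
    exact h7 ((hmem _).1 (by rw [hbase, signs.2 _ hne, one_pow]))
  have hb : ∀ a : Fin 16, ψ ⟨a, 0⟩ = if ev a = true then 1 else Multiplicative.ofAdd (1 : ZMod 2) := fun a => by
    rw [hbase, h1, bits_parity]
  have htau : ∀ p : Fin 4, ψ ⟨0, p⟩ = 1 := fun p => by
    refine (hmem _).2 (hkeep _ (by rw [← map_mul, tau_sq, map_one]) fun g hg => ?_)
    rw [← hr] at hg
    obtain ⟨y, hy⟩ := hg
    refine ⟨y, ?_, hy⟩
    show ev y.a = true
    by_contra hev
    rw [Bool.not_eq_true] at hev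
    have hyy : y * y = 1 := hinj (by
      rw [map_mul, map_one, hy]; exact conj_sq g _ (by rw [← map_mul, tau_sq, map_one]))
    have hyp : y.p = 0 := by
      have h : ∀ y : T, y * y = 1 → ev y.a = false → y.p = 0 := by decide +kernel
      exact h y hyy hev
    have hback : (g : G)⁻¹ * el ⟨y.a, 0⟩ * ((g : G)⁻¹)⁻¹ = el ⟨0, p⟩ := by
      rw [show (⟨y.a, 0⟩ : T) = y from T.ext rfl hyp.symm,
        show el y = (g : G) * el ⟨0, p⟩ * (g : G)⁻¹ from congrArg Subtype.val hy]
      group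
    exact Bool.false_ne_true ((D.odd_not_even hev (inv_mem g.2) hback).symm.trans (show ev (0 : Fin 16) = true by decide))
  have hK : ∀ x : T, e x ∈ K ↔ ev x.a = true := fun x => by
    rw [← hmem, split x, map_mul, hb, htau, mul_one]
    rw [show (⟨x.a, 0⟩ * ⟨0, x.p⟩ : T) = x from (split x).symm]
    by_cases h : ev x.a = true <;> simp [h, signs.1]
  refine ⟨K.map C.subtype, map_subtype_le _, fun c hc => mem_normalizer_of_conj_mem ?_, fun x => ?_, fun g hg => ?_⟩
  · rintro _ ⟨k, hk, rfl⟩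
    exact ⟨_, hKn.conj_mem k hk ⟨c, hc⟩, rfl⟩
  · exact ⟨fun ⟨k, hk, he⟩ => (hK x).1 (by rwa [show e x = k from Subtype.ext he.symm]),
      fun h => ⟨e x, (hK x).2 h, rfl⟩⟩
  · by_cases h : (⟨g, hg⟩ : C) ∈ K
    · exact Or.inl ⟨_, h, rfl⟩
    · exact Or.inr ⟨_, (mul_mem_iff_of_index_two hKi).2 (iff_of_false h h7), rfl⟩

/-- The normalizer of the even part contains the Sylow subgroup. -/
theorem S_evens : (S : Subgroup G) ≤ normalizer (evens.map el : Set G) := fun s hs => by
  obtain ⟨y, rfl⟩ := D.exists_el hs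
  refine mem_normalizer_of_conj_mem ?_
  rintro _ ⟨x, hx, rfl⟩
  exact ⟨y * x * y⁻¹, evens_conj x y hx, by simp [map_mul]⟩

/-- The centralizer is its core times the normalizer of the even part. -/
theorem cent_split : ∀ g ∈ centralizer ({el zz} : Set G), ∃ o ∈ Oc (el zz), ∃ n ∈ centralizer ({el zz} : Set G),
    n ∈ normalizer (evens.map el : Set G) ∧ g = o * n := by
  haveI : Fact (Nat.Prime 2) := ⟨Nat.prime_two⟩
  set C := centralizer ({el zz} : Set G)
  obtain ⟨K, hKC, hCK, hK, hor⟩ := D.exists_kernel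
  set M := evens.map el
  have hMK : M ≤ K := by rintro _ ⟨x, hx, rfl⟩; exact (hK x).2 hx
  haveI := D.sol
  haveI : Group.IsSolvable ↥(K.subgroupOf C) := inferInstance
  haveI : Group.IsSolvable ↥K := Group.isSolvable_of_surjective
    (f := (subgroupOfEquivOfLe hKC).toMonoidHom) (subgroupOfEquivOfLe hKC).surjective
  obtain ⟨R, hR⟩ := exists_sylow_eq hMK (S.2.to_le (by rintro _ ⟨x, -, rfl⟩; exact D.mem_S x))
    fun P hP hMP hPK => by
      obtain ⟨c, hc⟩ := exists_cj_le (S.subtype D.S_cent) (P := P.subgroupOf C) hP.comap_subtype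
      have hle : cj (c : G) P ≤ M := by
        rintro _ ⟨x, hx, rfl⟩
        have hm := hc ((conj_mem_cj (g := c)).2 (show (⟨x, hKC (hPK hx)⟩ : C) ∈ P.subgroupOf C from hx))
        rw [Sylow.coe_subtype, mem_subgroupOf] at hm
        obtain ⟨y, hy⟩ := D.exists_el hm
        refine ⟨y, (hK y).1 ?_, hy⟩
        rw [hy]
        exact conj_mem_of_normalizer (hCK c.2) (hPK hx)
      exact (eq_of_le_of_card_ge hMP (by have := card_le_of_le hle; rwa [card_cj] at this)).ge
  set zK : K := ⟨el zz, (hK zz).2 (by decide)⟩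
  have hspl := solvable_split (c := zK) (Subtype.ext (by show el zz * el zz = 1; rw [← map_mul, zz_sq, map_one]))
    (fun g => Subtype.ext (mem_centralizer_singleton_iff.1 (hKC g.2))) R
    (by rw [hR]; exact mem_map_of_mem el (show ev zz.a = true by decide)) (by
      intro r hr s hs
      rw [hR] at hr hs
      obtain ⟨x, hx, ex⟩ := hr
      obtain ⟨y, hy, ey⟩ := hs
      change el x = (r : G) at ex
      change el y = (s : G) at ey
      rcases evens_abel x y hx hy with e | e
      · refine Or.inl (Subtype.ext ?_)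
        show (r : G) * s = s * r
        rw [← ex, ← ey]
        exact (map_mul el x y).symm.trans ((congrArg el e).trans (map_mul el y x))
      · refine Or.inr (Subtype.ext ?_)
        show (r : G) * s = s * r * el zz
        rw [← ex, ← ey]
        exact (map_mul el x y).symm.trans ((congrArg el e).trans (by rw [map_mul, map_mul])))
  have hcore : LocalBalance.core 2 K ≤ Oc (el zz) :=
    le_Oc ((LocalBalance.core_le K).trans hKC)
      (hCK.trans (LocalBalance.normalizer_le_normalizer_core K)) (core_odd K)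
  have key : ∀ g ∈ K, ∃ o ∈ Oc (el zz), ∃ n ∈ C, n ∈ normalizer (M : Set G) ∧ g = o * n := by
    intro g hg
    obtain ⟨o, ho, n, hn, e⟩ := hspl ⟨g, hg⟩
    refine ⟨o, hcore ⟨o, ho, rfl⟩, n, hKC n.2, mem_normalizer_of_conj_mem fun x hx => ?_, congrArg Subtype.val e⟩
    rw [hR] at hn
    exact (mem_normalizer_iff.1 hn ⟨x, hMK hx⟩).1 hx
  intro g hg
  rcases hor g hg with h | h
  · exact key g h
  obtain ⟨o, ho, n, hn, hnM, e⟩ := key _ h
  refine ⟨o, ho, n * (el ⟨7, 0⟩)⁻¹, mul_mem hn (inv_mem (D.S_cent (D.mem_S _))),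
    mul_mem hnM (inv_mem (D.S_evens (D.mem_S _))), ?_⟩
  rw [← mul_assoc, ← e, mul_inv_cancel_right]

end Rec

end CfsgLib.A8Rec
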