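import Cfsg.Agent.A8Three.DataModel

/-!
Linear maps of the base: computed facts on automizers with an elementary Sylow 2-subgroup of order four.
-/

set_option autoImplicit false
set_option linter.style.longLine false
set_option maxRecDepth 100000

namespace CfsgLib.A8Rec

open CfsgLib.A8Three (sh ev big pe)

/-- The linear map with the images `c1 c2 c4 c8` of the basis. -/
def lin (c1 c2 c4 c8 a : Fin 16) : Fin 16 :=
  (if a.val.testBit 0 then c1 else 0) ^^^ (if a.val.testBit 1 then c2 else 0) ^^^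
    (if a.val.testBit 2 then c4 else 0) ^^^ (if a.val.testBit 3 then c8 else 0)

/-- The fourth basis image when `15` goes to `t`. -/
def last (t c1 c2 c4 : Fin 16) : Fin 16 := t ^^^ c1 ^^^ c2 ^^^ c4

/-- A function on vectors acts with order four. -/
def four (g : Fin 16 → Fin 16) : Bool :=
  !(g (g 1) == 1 && g (g 2) == 2 && g (g 4) == 4 && g (g 8) == 8) &&
    g (g (g (g 1))) == 1 && g (g (g (g 2))) == 2 && g (g (g (g 4))) == 4 && g (g (g (g 8))) == 8

/-- The map is injective. -/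
def reg (c1 c2 c4 c8 : Fin 16) : Bool :=
  (List.finRange 16).all fun a => a == 0 || lin c1 c2 c4 c8 a != 0

/-- The map is injective and no product of a translation and the map has order four. -/
def ok (c1 c2 c4 c8 : Fin 16) : Bool :=
  !(four (fun a => lin c1 c2 c4 c8 a) || four (fun a => sh 1 (lin c1 c2 c4 c8 a)) ||
    four (fun a => sh 2 (lin c1 c2 c4 c8 a)) || four (fun a => sh 3 (lin c1 c2 c4 c8 a))) && reg c1 c2 c4 c8

/-- The six vectors of weight two. -/
def six (a : Fin 16) : Bool := ev a && a != 0 && a != 15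

/-- The five vectors of weight at least three. -/
def five (a : Fin 16) : Bool := big a

/-- The centre and the pair of `p`. -/
def three (p : Fin 4) (a : Fin 16) : Bool := a == 15 || a == pe p || a == pe p ^^^ 15

theorem no_even : ∀ c1 c2 c4 : Fin 16,
    (!six (lin c1 c2 c4 (last 15 c1 c2 c4) 7) || !ok c1 c2 c4 (last 15 c1 c2 c4)) = true := by
  decide +kernel

theorem no_nine : ∀ c1 c2 c4 : Fin 16,
    (!six (lin c1 c2 c4 (last 1 c1 c2 c4) 3) || !six (lin c1 c2 c4 (last 1 c1 c2 c4) 5) ||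
      !six (lin c1 c2 c4 (last 1 c1 c2 c4) 9) || !ok c1 c2 c4 (last 1 c1 c2 c4)) = true := by
  decide +kernel

/-- Commutation with a translation on the basis. -/
def comm (p : Fin 4) (c1 c2 c4 c8 : Fin 16) : Bool :=
  sh p c1 == lin c1 c2 c4 c8 (sh p 1) && sh p c2 == lin c1 c2 c4 c8 (sh p 2) &&
    sh p c4 == lin c1 c2 c4 c8 (sh p 4) && sh p c8 == lin c1 c2 c4 c8 (sh p 8)

theorem pair_link : ∀ p : Fin 4, p ≠ 0 → ∀ c1 c2 c4 : Fin 16,
    (!comm p c1 c2 c4 (last (pe p) c1 c2 c4) || !ok c1 c2 c4 (last (pe p) c1 c2 c4) ||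
      [1, 2, 3].all (fun q : Fin 4 => [1, 2, 3].all fun r : Fin 4 => q == p || r == p || q == r ||
        (!ev (lin c1 c2 c4 (last (pe p) c1 c2 c4) (pe q)) && !ev (lin c1 c2 c4 (last (pe p) c1 c2 c4) (pe r)) &&
          big (lin c1 c2 c4 (last (pe p) c1 c2 c4) (pe q)) != big (lin c1 c2 c4 (last (pe p) c1 c2 c4) (pe r))))) = true := by
  decide +kernel

/-- The maps exchanging the centre and a pair, commuting with its translation. -/
def cands (p : Fin 4) : List (Fin 16 × Fin 16 × Fin 16) :=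
  ((List.finRange 16).flatMap fun a => (List.finRange 16).flatMap fun b =>
    (List.finRange 16).map fun c => (a, b, c)).filter fun c =>
      comm p c.1 c.2.1 c.2.2 (last (pe p) c.1 c.2.1 c.2.2) && ok c.1 c.2.1 c.2.2 (last (pe p) c.1 c.2.1 c.2.2)

/-- The map of a candidate. -/
def cmap (p : Fin 4) (c : Fin 16 × Fin 16 × Fin 16) (a : Fin 16) : Fin 16 :=
  lin c.1 c.2.1 c.2.2 (last (pe p) c.1 c.2.1 c.2.2) a

/-- Some product of a translation and two maps has order four. -/
def bad (f g : Fin 16 → Fin 16) : Bool :=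
  four (fun a => f (g a)) || four (fun a => sh 1 (f (g a))) || four (fun a => sh 2 (f (g a))) ||
    four (fun a => sh 3 (f (g a)))

theorem no_triple : (cands 1).all (fun a => (cands 2).all fun b => bad (cmap 1 a) (cmap 2 b) ||
    (cands 3).all fun c => bad (cmap 1 a) (cmap 3 c) || bad (cmap 2 b) (cmap 3 c)) = true := by
  decide +kernel

theorem no_merge : ∀ p q r : Fin 4, p ≠ 0 → q ≠ 0 → r ≠ 0 → q ≠ p → r ≠ p → r ≠ q → ∀ c1 c2 c4 : Fin 16,
    [15, pe p, pe p ^^^ 15].all (fun t : Fin 16 => !(lin c1 c2 c4 (last t c1 c2 c4) (pe q) == pe r) ||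
      !three p (lin c1 c2 c4 (last t c1 c2 c4) (pe p)) || !ok c1 c2 c4 (last t c1 c2 c4)) = true := by
  decide +kernel

theorem five_pair : ∀ c1 c2 c4 : Fin 16,
    (!(five (lin c1 c2 c4 (last 14 c1 c2 c4) 7) && five (lin c1 c2 c4 (last 14 c1 c2 c4) 11) &&
        five (lin c1 c2 c4 (last 14 c1 c2 c4) 13) && five (lin c1 c2 c4 (last 14 c1 c2 c4) 14) && ok c1 c2 c4 (last 14 c1 c2 c4)) ||
      [1, 2, 3].any (fun p : Fin 4 => !ev (lin c1 c2 c4 (last 14 c1 c2 c4) (pe p)) &&
        !big (lin c1 c2 c4 (last 14 c1 c2 c4) (pe p)))) = true := by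
  decide +kernel

/-- The maps `f`, `f f` and `f sh f`. -/
def words (f : Fin 16 → Fin 16) : List (Fin 16 → Fin 16) :=
  [f, fun a => f (f a), fun a => f (sh 1 (f a)), fun a => f (sh 2 (f a)), fun a => f (sh 3 (f a))]

theorem five_rot : ∀ c1 c2 c4 : Fin 16,
    (!(five (lin c1 c2 c4 (last 14 c1 c2 c4) 7) && five (lin c1 c2 c4 (last 14 c1 c2 c4) 11) &&
        five (lin c1 c2 c4 (last 14 c1 c2 c4) 13) && five (lin c1 c2 c4 (last 14 c1 c2 c4) 14) && ok c1 c2 c4 (last 14 c1 c2 c4)) ||
      (words (fun a => lin c1 c2 c4 (last 14 c1 c2 c4) a)).any (fun g =>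
        [0, 1, 2, 3].any fun u : Fin 4 =>
          let h : Fin 16 → Fin 16 := fun a => lin c1 c2 c4 (last 14 c1 c2 c4) (sh u (g a))
          h 15 == 15 && h 3 != 3 && h 3 != 12)) = true := by
  decide +kernel

theorem lin_basis : ∀ c : Fin 16, lin 1 2 4 8 c = c := by decide +kernel

end CfsgLib.A8Rec
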