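import Cfsg.Agent.A8Rec.WNine
import Cfsg.Agent.Solvable.Basics

/-!
The cores of the centralizers of the involutions of the base are trivial, and the even base is moved.
-/

set_option autoImplicit false
set_option linter.unusedSectionVars false
set_option linter.style.haveILetI false
set_option maxRecDepth 100000

namespace CfsgLib.A8Rec

open Subgroup CfsgLib.SylL34
open CfsgLib.A8Three

theorem gen_invol : ∀ x : T, (⟨x.a, 0⟩ : T) * ⟨x.a, 0⟩ = 1 ∧ (⟨0, x.p⟩ : T) * ⟨0, x.p⟩ = 1 := by decide +kernel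

variable {G : Type*} [Group G] [Finite G] {S : Sylow 2 G} {el : T →* G}

namespace Rec

variable (D : Rec S el)
include D

theorem no_pair_of_fixed (hm : ¬ Mover el) : ∀ p : Fin 4, p ≠ 0 → ¬ Cls el (pe p) :=
  fun _ hp h => hm (D.mover_of_pair hp h)

/-- Without a mover the centralizer of an outside involution has the expected Sylow subgroup. -/
theorem strong_sylow (hm : ¬ Mover el) {y : T} (hy : ty y = 3) :
    ∃ Q : Sylow 2 (centralizer ({el y} : Set G)),
      (Q : Subgroup _) = ((centralizer ({y} : Set T)).map el).subgroupOf (centralizer ({el y} : Set G)) := by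
  haveI : Fact (Nat.Prime 2) := ⟨Nat.prime_two⟩
  set P := (centralizer ({y} : Set T)).map el
  have hyy : y * y = 1 := (ty_sq y (by rw [hy]; decide)).2
  have hPX : P ≤ centralizer ({el y} : Set G) := by
    rintro _ ⟨w, hw, rfl⟩
    exact mem_centralizer_singleton_iff.2 (by rw [← map_mul, ← map_mul, mem_centralizer_singleton_iff.1 hw])
  refine exists_sylow_eq hPX (S.2.to_le (by rintro _ ⟨w, -, rfl⟩; exact D.mem_S w)) fun R hR hPR hRX => ?_
  obtain ⟨d, hd⟩ := exists_cj_le S hR
  have hyR : el y ∈ R := hPR (mem_map_of_mem el (mem_centralizer_singleton_iff.2 rfl))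
  obtain ⟨y', hy'⟩ := D.exists_el (hd (conj_mem_cj.2 hyR))
  have hy'' : el y' = d * el y * d⁻¹ := hy'
  have hy'p : y'.p ≠ 0 := fun h0 => D.strong hm hy d (hy'' ▸ D.el_mem_base.2 h0)
  have hy'y' : y' * y' = 1 := D.inj (by
    rw [map_mul, map_one, hy'']; exact conj_sq d _ (by rw [← map_mul, hyy, map_one]))
  have hle : cj d R ≤ (centralizer ({y'} : Set T)).map el := by
    rintro _ ⟨r, hr, rfl⟩
    obtain ⟨w, hw⟩ := D.exists_el (hd (conj_mem_cj.2 hr))
    refine ⟨w, mem_centralizer_singleton_iff.2 (D.inj ?_), hw⟩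
    rw [map_mul, map_mul, hw, hy'', show d * r * d⁻¹ * (d * el y * d⁻¹) = d * (r * el y) * d⁻¹ by group,
      mem_centralizer_singleton_iff.1 (hRX hr)]
    group
  refine (eq_of_le_of_card_ge hPR ?_).ge
  have h1 := card_le_of_le hle
  rw [card_cj, card_map_of_injective D.inj, cn_eq, cn_three y' (D.out_ty hy'p hy'y')] at h1
  rw [card_map_of_injective D.inj, cn_eq, cn_three y hy]
  exact h1

/-- A subgroup containing the Sylow normalizer and the centralizers of the involutions of the base. -/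
theorem top_of_base {M : Subgroup G} (hN : normalizer ((S : Subgroup G) : Set G) ≤ M)
    (hC : ∀ a : Fin 16, a ≠ 0 → centralizer ({el ⟨a, 0⟩} : Set G) ≤ M) : M = ⊤ := by
  haveI : Fact (Nat.Prime 2) := ⟨Nat.prime_two⟩
  have hgen : (S : Subgroup G) ≤ closure {t : G | t * t = 1} := fun g hg => by
    obtain ⟨x, rfl⟩ := D.exists_el hg
    rw [A8Three.split x, map_mul]
    exact mul_mem (subset_closure (by rw [Set.mem_ofPred_eq, ← map_mul, (gen_invol x).1, map_one]))
      (subset_closure (by rw [Set.mem_ofPred_eq, ← map_mul, (gen_invol x).2, map_one]))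
  obtain ⟨p, hp, hP⟩ := D.no_all
  obtain ⟨h6, hp0, -⟩ := pe_six p hp
  refine top_of_cent S hgen hN ?_ (D.mem_S zz) (D.order_el (by decide))
    (D.mem_S ⟨pe p, 0⟩) (Invol.orderOf_eq_two (D.base_sq _ (D.mem_A _)) (D.el_ne_one hp0)) hP
  intro s hs hs2
  obtain ⟨y, rfl⟩ := D.exists_el hs
  by_cases hy0 : y.p = 0
  · obtain ⟨a, t⟩ := y
    obtain rfl : t = 0 := hy0
    refine hC a fun e => Invol.ne_one hs2 ?_
    rw [e]; exact map_one el
  have hty : ty y = 3 := D.out_ty hy0 (D.inj (by rw [map_mul, map_one]; exact Invol.mul_self_eq_one hs2))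
  by_cases hm : Mover el
  · obtain ⟨g, hgC, -, r, hr, e⟩ := D.out_pair hm hty
    intro c hc
    rw [← e, cent_conj] at hc
    have hgM : g ∈ M := hC 15 (by decide) hgC
    have := mul_mem (mul_mem hgM (hC _ (pe_six r hr).2.1 hc)) (inv_mem hgM)
    rwa [show g * (g⁻¹ * c * g) * g⁻¹ = c by group] at this
  -- without a mover the centre is isolated
  set C := centralizer ({el y} : Set G)
  obtain ⟨Q, hQ⟩ := D.strong_sylow hm hty
  have hzC : el zz ∈ C := mem_centralizer_singleton_iff.2 (by rw [← map_mul, ← map_mul, zz_comm y])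
  have hiso : Cfsg.IsIsolatedInvolution (⟨el zz, hzC⟩ : C) := by
    refine Invol.isolated_of_sylow Q (by rw [← orderOf_coe]; exact D.order_el (by decide)) fun g hg => ?_
    have hg' : g * ⟨el zz, hzC⟩ * g⁻¹ ∈ (Q : Subgroup (centralizer ({el y} : Set G))) := hg
    rw [hQ, mem_subgroupOf] at hg'
    obtain ⟨w, hw, hwe⟩ := hg'
    have hwe' : el w = (g : G) * el zz * (g : G)⁻¹ := hwe
    have hconj : IsConj (el zz) (el w) := isConj_iff.2 ⟨g, hwe'.symm⟩
    have hww : w * w = 1 := D.inj (by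
      rw [map_mul, map_one, hwe']; exact conj_sq _ _ (by rw [← map_mul, zz_sq, map_one]))
    refine Subtype.ext (show (g : G) * el zz * (g : G)⁻¹ = el zz from ?_)
    rw [← hwe']
    by_cases hw0 : w.p = 0
    · obtain ⟨a, t⟩ := w
      obtain rfl : t = 0 := hw0
      rcases (fix_cases y.p hy0 a).1 (base_fix ⟨a, 0⟩ y rfl (mem_centralizer_singleton_iff.1 hw)) with e | e | e | e
      · exact absurd (e ▸ hconj) D.not_cls_zero
      · rw [e]; rfl
      · exact absurd (e ▸ hconj) (D.no_pair_of_fixed hm y.p hy0)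
      · exact absurd ((D.cls_congr (D.orb_flip hy0)).2 (e ▸ hconj)) (D.no_pair_of_fixed hm y.p hy0)
    · exfalso
      obtain ⟨c, hc⟩ := out_conj w (D.out_ty hw0 hww)
      exact D.no_pair_of_fixed hm w.p hw0 (D.out_zclass hw0 ((isConj_iff.2 ⟨el ⟨c, 0⟩,
        by rw [← map_inv, ← map_mul, ← map_mul, hc]⟩).trans hconj.symm))
  have hOy : Oc (el y) ≤ M := by
    obtain ⟨h60, h615⟩ := (pe_six y.p hy0).2
    refine D.gen_four h60 h615 (Oc_odd _) (fun a ha => cent_le_normalizer_Oc _
      (mem_centralizer_singleton_iff.2 (by rw [← map_mul, ← map_mul, out_fix y hty a ha]))) fun a ha => ?_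
    refine inf_le_right.trans (hC a ?_)
    rcases ha with rfl | rfl | rfl
    exacts [by decide, h60, (six_big _ (six_pair y.p hy0).2).2.2.1]
  intro c hc
  obtain ⟨o, ho, k, hk, e⟩ := IsoApps.exists_mul hiso (⟨c, hc⟩ : C)
  rw [show c = (o : G) * k from congrArg Subtype.val e]
  exact mul_mem (hOy (mem_Oc_of ho)) (hC 15 (by decide)
    (mem_centralizer_singleton_iff.2 (congrArg Subtype.val (mem_centralizer_singleton_iff.1 hk))))

theorem normS_cent : normalizer ((S : Subgroup G) : Set G) ≤ centralizer ({el zz} : Set G) := fun _ hn =>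
  mem_centralizer_singleton_iff.2 (mul_inv_eq_iff_eq_mul.1 (D.normS_zz hn))

/-- The cores of the centralizers of the involutions in the base are trivial. -/
theorem core_bot (hN : Nrm el) : ∀ a : Fin 16, a ≠ 0 → Oc (el ⟨a, 0⟩) = ⊥ := by
  obtain ⟨W, hW⟩ : ∃ W : Subgroup G, Sig el W := by
    by_cases h : ∀ q q' : Fin 4, q ≠ 0 → q' ≠ 0 → Cls el (pe q) → Cls el (pe q') → q = q'
    · exact D.exists_sig_three hN h
    · push Not at h
      obtain ⟨q, q', hq, hq', hc, hc', hne⟩ := h
      obtain ⟨p, hp, hP⟩ := D.no_all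
      exact D.exists_sig_nine hp hq hq' hne hP hc hc' hN
  have htop : normalizer (W : Set G) = ⊤ := by
    refine D.top_of_base (D.normS_cent.trans hW.normz) fun a ha => ?_
    intro c hc
    have key : ∀ x : G, centralizer ({x} : Set G) ≤ normalizer (W : Set G) → ∀ n ∈ normalizer (base.map el : Set G),
        n * x * n⁻¹ = el ⟨a, 0⟩ → c ∈ normalizer (W : Set G) := by
      intro x hx n hn e
      rw [← e, cent_conj] at hc
      have := mul_mem (mul_mem (hW.normA hn) (hx hc)) (inv_mem (hW.normA hn))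
      rwa [show n * (n⁻¹ * c * n) * n⁻¹ = c by group] at this
    rcases D.rep hN ha with h | ⟨p, hp, hP, n, hn, e⟩
    · obtain ⟨n, hn, e⟩ := D.cls_orb.1 h
      exact key (el zz) hW.normz n hn e
    · exact key _ (hW.normb p hp hP) n hn e
  have hWbot : W = ⊥ := le_bot_iff.1 (D.odd ▸ le_ocore (normalizer_eq_top_iff.1 htop) hW.odd)
  exact fun a ha => le_bot_iff.1 (hWbot ▸ hW.le a ha)

theorem Oc_zz (hN : Nrm el) : Oc (el zz) = ⊥ := D.core_bot hN 15 (by decide)

theorem cent_norm (hN : Nrm el) {g : G} (hg : g ∈ centralizer ({el zz} : Set G)) :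
    g ∈ normalizer (evens.map el : Set G) := by
  obtain ⟨o, ho, n, -, hn, e⟩ := D.cent_split g hg
  rw [D.Oc_zz hN, mem_bot] at ho
  rw [e, ho, one_mul]
  exact hn

theorem odd_fix_one (hN : Nrm el) {v : Fin 16} (hv : six v = true) {g : G}
    (hg : g ∈ centralizer ({el zz} : Set G)) (ho : Odd (orderOf g)) (hgv : g * el ⟨v, 0⟩ = el ⟨v, 0⟩ * g) : g = 1 := by
  have := D.odd_fix_six hv hg ho hgv
  rwa [D.Oc_zz hN, mem_bot] at this

/-- Some element of the centralizer moves the even base. -/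
theorem mover (hN : Nrm el) : Mover el := by
  by_contra hm
  haveI : Fact (Nat.Prime 2) := ⟨Nat.prime_two⟩
  set A := base.map el
  have hnp := D.no_pair_of_fixed hm
  have hz : centralizer ({el zz} : Set G) ≤ normalizer (A : Set G) := by
    intro g hg
    obtain ⟨o, ho, n, -, hn, e⟩ := D.cent_fixed
      (fun n hn hnM v hv => by_contra fun h => hm ⟨n, hn, hnM, v, hv, h⟩) g hg
    rw [D.Oc_zz hN, mem_bot] at ho
    rw [e, ho, one_mul]
    exact hn
  have hb : ∀ p : Fin 4, p ≠ 0 → centralizer ({el ⟨pe p, 0⟩} : Set G) ≤ normalizer (A : Set G) := by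
    intro p hp
    obtain ⟨u, -, hup, hsh, hst, ⟨hu, -⟩ | ⟨β, rfl, hsh9⟩⟩ := D.stab hN hp (hnp p hp)
    · exact (D.good_b hp (hnp p hp) hu hup hsh hst).2.le (by rw [D.core_bot hN _ (pe_six p hp).2.1]; exact bot_le) le_rfl
    · obtain ⟨q, -, hq, -, hqp, -⟩ := others p hp
      exact absurd ((hsh9 _).2 ⟨(pe_six q hq).2.1, nz_pairs p q hq hqp β hp⟩) (hnp q hq)
  have htop : normalizer (A : Set G) = ⊤ := by
    refine D.top_of_base (D.normS_cent.trans hz) fun a ha c hc => ?_
    rcases D.rep hN ha with h | ⟨p, hp, -, n, hn, e⟩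
    · obtain ⟨n, hn, e⟩ := D.cls_orb.1 h
      rw [← e, cent_conj] at hc
      have := mul_mem (mul_mem hn (hz hc)) (inv_mem hn)
      rwa [show n * (n⁻¹ * c * n) * n⁻¹ = c by group] at this
    · rw [← e, cent_conj] at hc
      have := mul_mem (mul_mem hn (hb p hp hc)) (inv_mem hn)
      rwa [show n * (n⁻¹ * c * n) * n⁻¹ = c by group] at this
  have hle : A ≤ Cfsg.pCore 2 G :=
    Solvable.le_pCore 2 (normalizer_eq_top_iff.1 htop) (isPGroup_of_sq D.base_sq)
  rw [D.core2] at hle
  exact D.el_ne_one (show (15 : Fin 16) ≠ 0 by decide) (mem_bot.1 (hle (D.mem_A 15)))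

end Rec

end CfsgLib.A8Rec
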