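import Cfsg.Agent.A8Rec.CentB

/-!
Balance of the odd cores on the base, and the decomposition of the centralizer of a pair when its
stabilizer fixes an element of the class.
-/

set_option autoImplicit false
set_option linter.unusedSectionVars false
set_option linter.style.haveILetI false
set_option maxRecDepth 100000

namespace CfsgLib.A8Rec

open Subgroup CfsgLib.SylL34
open CfsgLib.A8Three

theorem six_three : six 3 = true := by decide +kernel

theorem six_or_odd : ∀ a : Fin 16, a ≠ 0 → a ≠ 15 → six a = true ∨ ev a = false := by decide +kernel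

theorem four_closed : ∀ v : Fin 16, ∀ x y : T, x.p = 0 → (x.a = 0 ∨ x.a = 15 ∨ x.a = v ∨ x.a = v ^^^ 15) → y.p = 0 →
    (y.a = 0 ∨ y.a = 15 ∨ y.a = v ∨ y.a = v ^^^ 15) →
    (x * y).p = 0 ∧ ((x * y).a = 0 ∨ (x * y).a = 15 ∨ (x * y).a = v ∨ (x * y).a = v ^^^ 15) ∧
      x⁻¹.p = 0 ∧ (x⁻¹.a = 0 ∨ x⁻¹.a = 15 ∨ x⁻¹.a = v ∨ x⁻¹.a = v ^^^ 15) := by decide +kernel

/-- The four group of the centre and a vector. -/
def Four (v : Fin 16) : Subgroup T where
  carrier := {x | x.p = 0 ∧ (x.a = 0 ∨ x.a = 15 ∨ x.a = v ∨ x.a = v ^^^ 15)}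
  one_mem' := ⟨rfl, Or.inl rfl⟩
  mul_mem' {x y} hx hy := ⟨(four_closed v x y hx.1 hx.2 hy.1 hy.2).1, (four_closed v x y hx.1 hx.2 hy.1 hy.2).2.1⟩
  inv_mem' {x} hx := (four_closed v x x hx.1 hx.2 hx.1 hx.2).2.2

theorem Four_count : ∀ v : Fin 16, v ≠ 0 → v ≠ 15 →
    elems.countP (fun x : T => decide (x.p = 0 ∧ (x.a = 0 ∨ x.a = 15 ∨ x.a = v ∨ x.a = v ^^^ 15))) = 4 := by
  decide +kernel

/-- Odd subgroups of the centralizer normalised by the base lie in the core. -/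
def Bal {G : Type*} [Group G] [Finite G] (el : T →* G) (a : Fin 16) : Prop :=
  ∀ X : Subgroup G, X ≤ centralizer ({el ⟨a, 0⟩} : Set G) → Odd (Nat.card X) →
    base.map el ≤ normalizer (X : Set G) → X ≤ Oc (el ⟨a, 0⟩)

variable {G : Type*} [Group G] [Finite G] {S : Sylow 2 G} {el : T →* G}

namespace Rec

variable (D : Rec S el)
include D

theorem elementary : Cfsg.IsElementaryAbelian 2 (base.map el) :=
  ⟨⟨⟨fun a b => Subtype.ext (D.base_comm a.2 b.2)⟩⟩, fun a ha => by rw [sq]; exact D.base_sq a ha⟩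

theorem four_le (v : Fin 16) : (Four v).map el ≤ base.map el := map_mono fun _ hx => hx.1

theorem card_four {v : Fin 16} (h0 : v ≠ 0) (h15 : v ≠ 15) : Nat.card ((Four v).map el) = 4 := by
  rw [card_map_of_injective D.inj, ← Four_count v h0 h15, ← card_filter]
  exact Nat.card_congr (Equiv.subtypeEquivRight fun x => Iff.rfl)

/-- An odd subgroup normalised by a four group `⟨z, v⟩` is controlled by three centralizers. -/
theorem gen_four {v : Fin 16} (h0 : v ≠ 0) (h15 : v ≠ 15) {X Y : Subgroup G} (hX : Odd (Nat.card X))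
    (hn : ∀ a : Fin 16, a = 15 ∨ a = v ∨ a = v ^^^ 15 → el ⟨a, 0⟩ ∈ normalizer (X : Set G))
    (h : ∀ a : Fin 16, a = 15 ∨ a = v ∨ a = v ^^^ 15 → X ⊓ centralizer ({el ⟨a, 0⟩} : Set G) ≤ Y) : X ≤ Y := by
  haveI : Fact (Nat.Prime 2) := ⟨Nat.prime_two⟩
  refine Signalizer.le_of_forall_centralizer D.elementary (D.four_le v) (by rw [D.card_four h0 h15]; norm_num) ?_
    hX.not_two_dvd_nat fun e he he1 => ?_
  · rintro _ ⟨⟨a, p⟩, ⟨hp, ha⟩, rfl⟩
    obtain rfl : p = 0 := hp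
    rcases ha with ha | ha
    · change a = 0 at ha
      rw [ha, show (⟨0, 0⟩ : T) = 1 from rfl, map_one]
      exact one_mem _
    · exact hn a ha
  · obtain ⟨⟨a, p⟩, ⟨hp, ha⟩, rfl⟩ := he
    obtain rfl : p = 0 := hp
    rcases ha with ha | ha
    · change a = 0 at ha
      exact absurd (by rw [ha, show (⟨0, 0⟩ : T) = 1 from rfl, map_one]) he1
    · exact h a ha

/-- Transport of `le_of_six`. -/
theorem le_conj {n x : G} (hx : n * el zz * n⁻¹ = x) {v : Fin 16} (hv : six v = true) {X : Subgroup G}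
    (hXC : X ≤ centralizer ({x} : Set G)) (hodd : Odd (Nat.card X))
    (hn : n * el ⟨v, 0⟩ * n⁻¹ ∈ normalizer (X : Set G)) : X ≤ Oc x := by
  have h := D.le_of_six hv (X := cj n⁻¹ X) ?_ (by rw [card_cj]; exact hodd) ?_
  · intro d hd
    have h1 := conj_mem_Oc (g := n) (h (conj_mem_cj (g := n⁻¹) |>.2 hd))
    rwa [hx, show n * (n⁻¹ * d * n⁻¹⁻¹) * n⁻¹ = d by group] at h1
  · rintro _ ⟨d, hd, rfl⟩
    have h1 := hXC hd
    rw [← hx, cent_conj] at h1
    show n⁻¹ * d * n⁻¹⁻¹ ∈ _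
    rwa [inv_inv]
  · refine mem_normalizer_of_conj_mem fun d hd => ?_
    obtain ⟨d, hd', rfl⟩ := hd
    refine ⟨n * el ⟨v, 0⟩ * n⁻¹ * d * (n * el ⟨v, 0⟩ * n⁻¹)⁻¹, conj_mem_of_normalizer hn hd', ?_⟩
    show n⁻¹ * _ * n⁻¹⁻¹ = el ⟨v, 0⟩ * (n⁻¹ * d * n⁻¹⁻¹) * (el ⟨v, 0⟩)⁻¹
    group

/-- Balance at the class of the centre. -/
theorem bal_cls {a : Fin 16} (ha : Cls el a) : Bal el a := by
  obtain ⟨n, hn, e⟩ := D.cls_orb.1 ha
  intro X hXC hodd hXA
  exact D.le_conj (n := n) (x := el ⟨a, 0⟩) e six_three hXC hodd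
    (hXA (conj_mem_of_normalizer hn (D.mem_A 3)))

theorem Bal_orb {a a' : Fin 16} (h : Bal el a) (ho : Orb el (base.map el) a a') : Bal el a' := by
  obtain ⟨n, hn, e⟩ := ho
  intro X hXC hodd hXA d hd
  have hin : cj n⁻¹ X ≤ Oc (el ⟨a, 0⟩) := by
    refine h _ ?_ (by rw [card_cj]; exact hodd) fun x hx => mem_normalizer_of_conj_mem fun y hy => ?_
    · rintro _ ⟨y, hy, rfl⟩
      have h1 := hXC hy
      rw [← e, cent_conj] at h1
      show n⁻¹ * y * n⁻¹⁻¹ ∈ _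
      rwa [inv_inv]
    · obtain ⟨y, hy', rfl⟩ := hy
      refine ⟨n * x * n⁻¹ * y * (n * x * n⁻¹)⁻¹, conj_mem_of_normalizer (hXA (conj_mem_of_normalizer hn hx)) hy', ?_⟩
      show n⁻¹ * _ * n⁻¹⁻¹ = x * (n⁻¹ * y * n⁻¹⁻¹) * x⁻¹
      group
  have h1 := conj_mem_Oc (g := n) (hin (conj_mem_cj (g := n⁻¹) |>.2 hd))
  rwa [e, show n * (n⁻¹ * d * n⁻¹⁻¹) * n⁻¹ = d by group] at h1

/-- An element of `C` fixing a base element other than `z` lies in `(O(C) ∩ C(a)) N(A)`. -/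
theorem good_z {a : Fin 16} (ha0 : a ≠ 0) (ha15 : a ≠ 15) {c : G} (hc : c ∈ centralizer ({el zz} : Set G))
    (hca : c * el ⟨a, 0⟩ = el ⟨a, 0⟩ * c) :
    ∃ o ∈ Oc (el zz), o * el ⟨a, 0⟩ = el ⟨a, 0⟩ * o ∧ ∃ n ∈ normalizer (base.map el : Set G), c = o * n := by
  obtain ⟨o, hoO, m, hm, hmM, e⟩ := D.cent_split c hc
  set w := el ⟨a, 0⟩
  set O := Oc (el zz)
  have hwC : w ∈ centralizer ({el zz} : Set G) := D.A_cent (D.mem_A a)
  have h1 : m * w * m⁻¹ * w⁻¹ ∈ O := by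
    rw [show m * w * m⁻¹ * w⁻¹ = o⁻¹ * (o * m * w) * m⁻¹ * w⁻¹ by group, ← e, hca, e,
      show o⁻¹ * (w * (o * m)) * m⁻¹ * w⁻¹ = o⁻¹ * (w * o * w⁻¹) by group]
    exact mul_mem (inv_mem hoO) (conj_mem_of_normalizer (cent_le_normalizer_Oc _ hwC) hoO)
  have hwM : w ∈ normalizer (evens.map el : Set G) := D.S_evens (D.mem_S _)
  have hkeep : ∀ v : Fin 16, ev v = true → m * el ⟨v, 0⟩ * m⁻¹ ∈ base.map el := by
    rcases six_or_odd a ha0 ha15 with hs | hodd
    · obtain ⟨p, r, hp, rfl⟩ := six_rep a hs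
      have hmw : m * w = w * m := mul_inv_eq_iff_eq_mul.1 (mul_inv_eq_one.1 (inf_eq_bot_of_odd (Oc_odd _) D.isPGroup_evens h1
        (mul_mem (conj_mem_of_normalizer hmM (D.el_mem_evens.2 (six_ev _ hs))) (inv_mem (D.el_mem_evens.2 (six_ev _ hs))))))
      set t := el ⟨0, r⟩
      have htS : t ∈ (S : Subgroup G) := D.mem_S _
      have hw' : w = t * el ⟨pe p, 0⟩ * t⁻¹ := by rw [← map_inv, ← map_mul, ← map_mul, conj_base]
      have key := D.pair_keep hp (m := t⁻¹ * m * t)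
        (mul_mem (mul_mem (inv_mem (D.S_cent htS)) hm) (D.S_cent htS))
        (mul_mem (mul_mem (inv_mem (D.S_evens htS)) hmM) (D.S_evens htS)) (by
          rw [hw'] at hmw
          calc t⁻¹ * m * t * el ⟨pe p, 0⟩ = t⁻¹ * (m * (t * el ⟨pe p, 0⟩ * t⁻¹)) * t := by group
            _ = t⁻¹ * (t * el ⟨pe p, 0⟩ * t⁻¹ * m) * t := by rw [hmw]
            _ = el ⟨pe p, 0⟩ * (t⁻¹ * m * t) := by group)
      intro v hv
      have hv' : t⁻¹ * el ⟨v, 0⟩ * t = el ⟨sh r v, 0⟩ := by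
        have hr : ∀ r : Fin 4, (⟨0, r⟩ : T)⁻¹ = ⟨0, r⟩ := by decide +kernel
        rw [← map_inv, ← map_mul, ← map_mul, hr, ← conj_base r v, hr]
      have hev : ∀ r : Fin 4, ∀ v : Fin 16, ev (sh r v) = ev v := by decide +kernel
      have h2 := conj_mem_of_normalizer (D.S_le htS) (key (sh r v) (by rw [hev, hv]))
      rwa [← hv', show t * (t⁻¹ * m * t * (t⁻¹ * el ⟨v, 0⟩ * t) * (t⁻¹ * m * t)⁻¹) * t⁻¹ = m * el ⟨v, 0⟩ * m⁻¹ by group]
        at h2
    · intro v hv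
      set cc := m * w * m⁻¹ * w⁻¹
      have hc2 : cc ∈ normalizer (evens.map el : Set G) := mul_mem (mul_mem (mul_mem hmM hwM) (inv_mem hmM)) (inv_mem hwM)
      obtain ⟨y, hy, hye⟩ := conj_mem_of_normalizer hmM (D.el_mem_evens.2 (show ev (⟨v, 0⟩ : T).a = true from hv))
      have hy' : el y = m * el ⟨v, 0⟩ * m⁻¹ := hye
      have hyc : cc * el y * cc⁻¹ = el y := mul_inv_eq_one.1 (inf_eq_bot_of_odd (Oc_odd _) D.isPGroup_evens
        (comm_mem_odd h1 (cent_le_normalizer_Oc _ (D.S_cent (D.mem_S y))))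
        (mul_mem (conj_mem_of_normalizer hc2 (mem_map_of_mem el hy)) (inv_mem (mem_map_of_mem el hy))))
      have hcom : el y * w = w * el y := by
        have h2 : (cc * w) * el y = el y * (cc * w) := by
          rw [show cc * w = m * w * m⁻¹ by simp only [cc]; group, hy',
            show m * w * m⁻¹ * (m * el ⟨v, 0⟩ * m⁻¹) = m * (w * el ⟨v, 0⟩) * m⁻¹ by group,
            D.base_comm (D.mem_A a) (D.mem_A v)]
          simp only [w]; group
        have h3 : cc * el y = el y * cc := mul_inv_eq_iff_eq_mul.1 hyc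
        refine mul_left_cancel (a := cc) ?_
        rw [← mul_assoc, h3, mul_assoc, ← h2, mul_assoc]
      rw [← hy']
      exact D.el_mem_base.2 (cent_base_odd a hodd y (D.inj (by rw [map_mul, map_mul]; exact hcom)))
  obtain ⟨o', ho', n, hnC, hnA, e'⟩ := D.keep_split hm hmM hkeep
  have hnw : n * w = w * n := by
    refine mul_inv_eq_iff_eq_mul.1 (mul_inv_eq_one.1 (inf_eq_bot_of_odd (N := O) (Oc_odd _) (isPGroup_of_sq D.base_sq) ?_
      (mul_mem (conj_mem_of_normalizer hnA (D.mem_A a)) (inv_mem (D.mem_A a)))))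
    rw [show n * w * n⁻¹ * w⁻¹ = (o * o')⁻¹ * (o * (o' * n) * w) * n⁻¹ * w⁻¹ by group, ← e', ← e, hca, e, e',
      show (o * o')⁻¹ * (w * (o * (o' * n))) * n⁻¹ * w⁻¹ = (o * o')⁻¹ * (w * (o * o') * w⁻¹) by group]
    exact mul_mem (inv_mem (mul_mem hoO ho')) (conj_mem_of_normalizer (cent_le_normalizer_Oc _ hwC) (mul_mem hoO ho'))
  refine ⟨o * o', mul_mem hoO ho', ?_, n, hnA, by rw [e, e']; group⟩
  have h2 : o * o' * n * w = w * (o * o') * n := by
    rw [show o * o' * n = c by rw [e, e']; group, hca, e, e']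
    group
  rw [mul_assoc (o * o') n, hnw, ← mul_assoc] at h2
  exact mul_right_cancel h2

/-- An element fixed by the stabilizer lying in the class gives balance and `C(b) = O(C(b)) (N(A) ∩ C(b))`. -/
theorem good_b {p : Fin 4} (hp : p ≠ 0) (hP : ¬ Cls el (pe p)) {u : Fin 16} (hu : Cls el u) (hup : u ≠ pe p)
    (hsh : sh p u = u ∨ sh p u = u ^^^ pe p)
    (hst : ∀ n ∈ normalizer (base.map el : Set G), n * el ⟨pe p, 0⟩ * n⁻¹ = el ⟨pe p, 0⟩ →
      n * el ⟨u, 0⟩ * n⁻¹ = el ⟨u, 0⟩ ∨ n * el ⟨u, 0⟩ * n⁻¹ = el ⟨u ^^^ pe p, 0⟩) :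
    Bal el (pe p) ∧ Good (base.map el) (el ⟨pe p, 0⟩) := by
  have hu0 : u ≠ 0 := fun e => D.not_cls_zero (e ▸ hu)
  set b := el ⟨pe p, 0⟩
  set w := el ⟨u, 0⟩
  have hbA : b ∈ base.map el := D.mem_A _
  have hwA : w ∈ base.map el := D.mem_A _
  have hcomm : ∀ x ∈ base.map el, ∀ y ∈ base.map el, x ∈ centralizer ({y} : Set G) := fun x hx y hy =>
    mem_centralizer_singleton_iff.2 (D.base_comm hx hy)
  set R := Oc w ⊓ centralizer ({b} : Set G)
  have hRodd : Odd (Nat.card R) := Odd.of_dvd_nat (Oc_odd w) (card_dvd_of_le inf_le_left)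
  set τ := el ⟨0, p⟩
  have hτb : τ ∈ centralizer ({b} : Set G) := mem_centralizer_singleton_iff.2 (by
    rw [← map_mul, ← map_mul, pe_comm p])
  have hsplit := D.cb_split hp hP hu0 hup hsh (fun _ => hu) hst
  have hτR : sh p u = u ^^^ pe p → τ ∈ normalizer (R : Set G) := by
    intro hs
    have hw' : τ * w * τ⁻¹ = el ⟨u ^^^ pe p, 0⟩ := by rw [← map_inv, ← map_mul, ← map_mul, conj_base, hs]
    set R' := Oc (el ⟨u ^^^ pe p, 0⟩) ⊓ centralizer ({b} : Set G)
    have hR' : R' ≤ Oc w := by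
      refine D.bal_cls hu R' (fun x hx => mem_centralizer_singleton_iff.2 ?_)
        (Odd.of_dvd_nat (Oc_odd _) (card_dvd_of_le inf_le_left)) fun a ha => inf_normalizer_le_normalizer_inf
          ⟨cent_le_normalizer_Oc _ (hcomm a ha _ (D.mem_A _)), le_normalizer (hcomm a ha b hbA)⟩
      have h1 : Commute x (el ⟨u ^^^ pe p, 0⟩) := Oc_comm hx.1
      have h2 : Commute x b := mem_centralizer_singleton_iff.1 hx.2
      have e : w = el ⟨u ^^^ pe p, 0⟩ * b := by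
        rw [← map_mul, vec_mul]
        have : ∀ x y : Fin 16, x ^^^ y ^^^ y = x := by decide +kernel
        rw [this]
      change x * w = w * x
      rw [e]
      exact (h1.mul_right h2).eq
    refine mem_normalizer_of_conj_mem fun x hx => ?_
    have h2 : τ * x * τ⁻¹ ∈ centralizer ({b} : Set G) := mul_mem (mul_mem hτb hx.2) (inv_mem hτb)
    exact ⟨hR' ⟨hw' ▸ conj_mem_Oc hx.1, h2⟩, h2⟩
  have hkR : ∀ k ∈ centralizer ({b} : Set G), k * w = w * k → k ∈ normalizer (R : Set G) := fun k hk hkw =>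
    inf_normalizer_le_normalizer_inf ⟨cent_le_normalizer_Oc _ (mem_centralizer_singleton_iff.2 hkw), le_normalizer hk⟩
  have hR : R ≤ Oc b := le_Oc_of_mod inf_le_right hRodd fun g hg => by
    obtain ⟨o, ho, k, hk, hkw, e | ⟨hs, e⟩⟩ := hsplit g hg
    · exact ⟨o, ho, k, hkR k hk hkw, mem_centralizer_singleton_iff.1 hk, e⟩
    · exact ⟨o, ho, τ⁻¹ * k, mul_mem (inv_mem (hτR hs)) (hkR k hk hkw),
        mem_centralizer_singleton_iff.1 (mul_mem (inv_mem hτb) hk), e⟩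
  refine ⟨fun X hXC hodd hXA d hd => ?_, fun g hg => ?_⟩
  · -- balance
    have hXO : X ≤ normalizer (Oc b : Set G) := hXC.trans (cent_le_normalizer_Oc _)
    set H := Oc b ⊔ X
    have hoddH : Odd (Nat.card H) := by
      rw [show H = X ⊔ Oc b from sup_comm _ _]
      exact Odd.of_dvd_nat (hodd.mul (Oc_odd _)) (Solvable.card_sup_dvd hXO)
    have hHC : H ≤ centralizer ({b} : Set G) := sup_le (Oc_le b) hXC
    obtain ⟨o, ho, k, hk, hku, rfl⟩ := D.iso_split hp hP hu0 hup hst d (hXC hd)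
    have hkH : k ∈ H := by
      have := mul_mem (inv_mem (mem_sup_left ho : o ∈ H)) (mem_sup_right hd)
      rwa [inv_mul_cancel_left] at this
    have hkb : k * b * k⁻¹ = b := by rw [mem_centralizer_singleton_iff.1 hk, mul_inv_cancel_right]
    have hub : el ⟨u ^^^ pe p, 0⟩ = w * b := by rw [← map_mul, vec_mul]
    have hk2 : k * k * w * (k * k)⁻¹ = w := by
      rw [show k * k * w * (k * k)⁻¹ = k * (k * w * k⁻¹) * k⁻¹ by group]
      rcases hku with e | e
      · rw [e, e]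
      · rw [e, hub, show k * (w * b) * k⁻¹ = k * w * k⁻¹ * (k * b * k⁻¹) by group, e, hkb, hub, mul_assoc,
          D.base_sq b hbA, mul_one]
    obtain ⟨j, hj⟩ := odd_orderOf_of_mem hoddH hkH
    have hkk : k = (k * k) ^ (j + 1) := by
      rw [← sq, ← pow_mul, show 2 * (j + 1) = 2 * j + 1 + 1 by ring, pow_succ, ← hj, pow_orderOf_eq_one, one_mul]
    have hkw : k * w = w * k := by
      rw [hkk]
      exact ((show Commute (k * k) w from mul_inv_eq_iff_eq_mul.1 hk2).pow_left _).eq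
    refine mul_mem ho (hR ⟨?_, hk⟩)
    refine D.bal_cls hu (H ⊓ centralizer ({w} : Set G)) inf_le_right (Odd.of_dvd_nat hoddH (card_dvd_of_le inf_le_left))
      (fun a ha => inf_normalizer_le_normalizer_inf
        ⟨join_normalized (cent_le_normalizer_Oc _ (hcomm a ha b hbA)) (hXA ha), le_normalizer (hcomm a ha w hwA)⟩)
      ⟨hkH, mem_centralizer_singleton_iff.2 hkw⟩
  · -- the decomposition
    obtain ⟨n₀, hn₀, e₀⟩ := D.cls_orb.1 hu
    have key : ∀ k ∈ centralizer ({b} : Set G), k * w = w * k →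
        ∃ r ∈ R, ∃ n ∈ normalizer (base.map el : Set G), k = r * n := by
      intro k hk hkw
      obtain ⟨a, ha⟩ := D.exists_vec (conj_mem_of_normalizer (inv_mem hn₀) hbA)
      have ha' : el ⟨a, 0⟩ = n₀⁻¹ * b * n₀ := by rw [ha]; group
      have ha0 : a ≠ 0 := fun e => by
        rw [e, show (⟨0, 0⟩ : T) = 1 from rfl, map_one, eq_comm, show n₀⁻¹ * b * n₀ = n₀⁻¹ * b * n₀⁻¹⁻¹ by group,
          conj_eq_one_iff, D.el_eq_one] at ha'
        exact (pe_six p hp).2.1 (congrArg T.a ha')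
      have ha15 : a ≠ 15 := fun e => by
        rw [e, show n₀⁻¹ * b * n₀ = n₀⁻¹ * b * n₀⁻¹⁻¹ by group] at ha'
        have h2 : b = w := by
          change b = el ⟨u, 0⟩
          rw [← e₀, ha']; group
        exact hup (D.vec_inj h2).symm
      obtain ⟨o, ho, hoa, n, hn, e⟩ := D.good_z ha0 ha15 (c := n₀⁻¹ * k * n₀)
        (mem_centralizer_singleton_iff.2 (by
          change n₀⁻¹ * k * n₀ * el ⟨15, 0⟩ = _
          rw [show el (⟨15, 0⟩ : T) = n₀⁻¹ * w * n₀ by rw [show w = el ⟨u, 0⟩ from rfl, ← e₀]; group,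
            show n₀⁻¹ * k * n₀ * (n₀⁻¹ * w * n₀) = n₀⁻¹ * (k * w) * n₀ by group, hkw]
          change _ = el ⟨15, 0⟩ * _
          rw [show el (⟨15, 0⟩ : T) = n₀⁻¹ * w * n₀ by rw [show w = el ⟨u, 0⟩ from rfl, ← e₀]; group]
          group))
        (by
          rw [ha', show n₀⁻¹ * k * n₀ * (n₀⁻¹ * b * n₀) = n₀⁻¹ * (k * b) * n₀ by group,
            mem_centralizer_singleton_iff.1 hk]
          group)
      refine ⟨n₀ * o * n₀⁻¹, ⟨?_, mem_centralizer_singleton_iff.2 ?_⟩, n₀ * n * n₀⁻¹,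
        mul_mem (mul_mem hn₀ hn) (inv_mem hn₀), ?_⟩
      · have := conj_mem_Oc (g := n₀) ho
        rwa [show n₀ * el zz * n₀⁻¹ = w from e₀] at this
      · rw [show b = n₀ * el ⟨a, 0⟩ * n₀⁻¹ by rw [ha']; group,
          show n₀ * o * n₀⁻¹ * (n₀ * el ⟨a, 0⟩ * n₀⁻¹) = n₀ * (o * el ⟨a, 0⟩) * n₀⁻¹ by group, hoa]
        group
      · calc k = n₀ * (n₀⁻¹ * k * n₀) * n₀⁻¹ := by group
          _ = n₀ * (o * n) * n₀⁻¹ := by rw [e]
          _ = _ := by group
    have hτA : τ ∈ normalizer (base.map el : Set G) := D.S_le (D.mem_S _)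
    obtain ⟨o, ho, k, hk, hkw, e | ⟨-, e⟩⟩ := hsplit g hg <;> obtain ⟨r, hr, n, hn, e'⟩ := key k hk hkw
    · exact ⟨o * r, mul_mem ho (hR hr), n, hn, by rw [e, e']; group⟩
    · refine ⟨o * (τ⁻¹ * r * τ⁻¹⁻¹), mul_mem ho (conj_mem_of_normalizer (cent_le_normalizer_Oc _ (inv_mem hτb)) (hR hr)),
        τ⁻¹ * n, mul_mem (inv_mem hτA) hn, by rw [e, e']; simp only [τ]; group⟩

/-- An odd subgroup of the centralizer of a pair normalised by `z`. -/
theorem good_fix {e : Fin 16} (he : six e = true) (hb : Bal el e) (hg : Good (base.map el) (el ⟨e, 0⟩))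
    {X : Subgroup G} (hXC : X ≤ centralizer ({el ⟨e, 0⟩} : Set G)) (hodd : Odd (Nat.card X))
    (hXz : el zz ∈ normalizer (X : Set G)) : X ≤ Oc (el ⟨e, 0⟩) := by
  set x := el ⟨e, 0⟩
  have hXO : X ≤ normalizer (Oc x : Set G) := hXC.trans (cent_le_normalizer_Oc _)
  set H := Oc x ⊔ X
  have hoddH : Odd (Nat.card H) := by
    rw [show H = X ⊔ Oc x from sup_comm _ _]
    exact Odd.of_dvd_nat (hodd.mul (Oc_odd _)) (Solvable.card_sup_dvd hXO)
  have hzA : el zz ∈ base.map el := D.mem_A 15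
  have hzx : el zz ∈ centralizer ({x} : Set G) := mem_centralizer_singleton_iff.2 (D.base_comm hzA (D.mem_A e))
  intro d hd
  obtain ⟨o, ho, n, hn, rfl⟩ := hg d (hXC hd)
  have hnH : n ∈ H := by
    have := mul_mem (inv_mem (mem_sup_left ho : o ∈ H)) (mem_sup_right hd)
    rwa [inv_mul_cancel_left] at this
  have hnC : n ∈ centralizer ({el zz} : Set G) := mem_centralizer_singleton_iff.2 (mul_inv_eq_iff_eq_mul.1
    (mul_inv_eq_one.1 (inf_eq_bot_of_odd hoddH (isPGroup_of_sq D.base_sq)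
      (comm_mem_odd hnH (join_normalized (cent_le_normalizer_Oc _ hzx) hXz))
      (mul_mem (conj_mem_of_normalizer hn hzA) (inv_mem hzA)))))
  have hnx : n * x = x * n := by
    have h1 := mul_mem (inv_mem (Oc_le x ho)) (hXC hd)
    rw [inv_mul_cancel_left] at h1
    exact mem_centralizer_singleton_iff.1 h1
  refine mul_mem ho (hb (Oc (el zz) ⊓ centralizer ({x} : Set G)) inf_le_right
    (Odd.of_dvd_nat (Oc_odd _) (card_dvd_of_le inf_le_left)) (fun a ha => inf_normalizer_le_normalizer_inf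
      ⟨cent_le_normalizer_Oc _ (D.A_cent ha), le_normalizer (mem_centralizer_singleton_iff.2 (D.base_comm ha (D.mem_A e)))⟩)
    ⟨D.odd_fix_six he hnC (odd_orderOf_of_mem hoddH hnH) hnx, mem_centralizer_singleton_iff.2 hnx⟩)

end Rec

end CfsgLib.A8Rec
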