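import Cfsg.Agent.A8Rec.CoreFree

/-!
The order of the centralizer of the central involution: 192 or 576.
-/

set_option autoImplicit false
set_option linter.unusedSectionVars false
set_option linter.style.haveILetI false
set_option maxRecDepth 100000

namespace CfsgLib.A8Rec

open Subgroup CfsgLib.SylL34
open CfsgLib.A8Three

/-- The possible images of the even base through a given involution outside the base. -/
def Img (y w : T) : Prop :=
  ev w.a = true ∧ w * w = 1 ∧ w * y = y * w ∧ (w.p = 0 → w.a = 0 ∨ w.a = 15) ∧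
    ((w * y).p = 0 → (w * y).a = 0 ∨ (w * y).a = 15)

instance (y w : T) : Decidable (Img y w) := by unfold Img; infer_instance

theorem Img_count : ∀ y : T, y.p = 1 → ty y = 3 → elems.countP (fun w : T => decide (Img y w)) = 8 := by
  decide +kernel

theorem Img_eq : ∀ y : T, y.p = 1 → ty y = 3 → ∀ y' : T, y'.p = 1 → ty y' = 3 →
    ((y.a = 0 ∨ y.a = 15) ↔ (y'.a = 0 ∨ y'.a = 15)) → ∀ w : T, Img y' w → Img y w := by decide +kernel

theorem evens_count : (List.finRange 16).countP (fun v : Fin 16 => ev v) = 8 ∧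
    (List.finRange 16).countP (fun v : Fin 16 => six v) = 6 ∧
    (∀ q : Fin 4, q ≠ 0 → (List.finRange 16).countP (fun v : Fin 16 => decide (six v = true ∧ v ≠ pe q ∧ v ≠ pe q ^^^ 15)) = 4) := by
  decide +kernel

theorem six_of_ev : ∀ v : Fin 16, ev v = true → v ≠ 0 → v ≠ 15 → six v = true := by decide +kernel

theorem sh_three : ∀ r : Fin 4, sh r 3 = 3 ∨ sh r 3 = 12 := by decide +kernel

theorem card_fin16 (P : Fin 16 → Prop) [DecidablePred P] :
    Nat.card {v : Fin 16 // P v} = (List.finRange 16).countP (fun v => decide (P v)) := by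
  rw [List.countP_eq_length_filter, ← List.toFinset_card_of_nodup ((List.nodup_finRange 16).filter _),
    Nat.card_eq_fintype_card, Fintype.card_subtype]
  congr 1
  ext x
  simp

variable {G : Type*} [Group G] [Finite G] {S : Sylow 2 G} {el : T →* G}

namespace Rec

variable (D : Rec S el)
include D

theorem S_le_R : (S : Subgroup G) ≤ centralizer ({el zz} : Set G) ⊓ normalizer (base.map el : Set G) :=
  le_inf D.S_cent D.S_le

/-- The order of a subgroup containing the Sylow subgroup. -/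
theorem card_over {R : Subgroup G} (hR : (S : Subgroup G) ≤ R) : ∃ k, Odd k ∧ Nat.card R = 64 * k := by
  haveI : Fact (Nat.Prime 2) := ⟨Nat.prime_two⟩
  refine ⟨((S : Subgroup G).subgroupOf R).index, ?_, ?_⟩
  · rw [← Sylow.coe_subtype S hR, ← Nat.not_even_iff_odd]
    exact fun h => (S.subtype hR).not_dvd_index (even_iff_two_dvd.1 h)
  · have h := ((S : Subgroup G).subgroupOf R).card_mul_index
    rw [Nat.card_congr (subgroupOfEquivOfLe hR).toEquiv, D.card_S] at h
    omega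

/-- The stabilizer of a pair outside the class in the normalizer is small. -/
theorem stab_pair (hN : Nrm el) {p : Fin 4} (hp : p ≠ 0) (hP : ¬ Cls el (pe p)) :
    Nat.card (centralizer ({el zz} : Set G) ⊓ normalizer (base.map el : Set G) ⊓
      centralizer ({el ⟨pe p, 0⟩} : Set G) : Subgroup G) ≤ 32 := by
  haveI : Fact (Nat.Prime 2) := ⟨Nat.prime_two⟩
  set X := centralizer ({el zz} : Set G) ⊓ normalizer (base.map el : Set G) ⊓ centralizer ({el ⟨pe p, 0⟩} : Set G)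
  have hX2 : IsPGroup 2 X := by
    intro x
    obtain ⟨k, m, hm, hk⟩ := Nat.exists_eq_two_pow_mul_odd (orderOf_pos (x : G)).ne'
    refine ⟨k, Subtype.ext ?_⟩
    show (x : G) ^ 2 ^ k = 1
    refine D.odd_fix_one hN (pe_six p hp).1 (pow_mem x.2.1.1 _) ?_ ?_
    · rw [orderOf_pow' _ (pow_ne_zero _ two_ne_zero), hk, Nat.gcd_mul_right_left,
        Nat.mul_div_cancel_left _ (by positivity)]
      exact hm
    · exact ((show Commute (x : G) (el ⟨pe p, 0⟩) from mem_centralizer_singleton_iff.1 x.2.2).pow_left _).eq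
  have hXC : X ≤ centralizer ({el ⟨pe p, 0⟩} : Set G) := inf_le_right
  obtain ⟨P, hP'⟩ := D.cb_sylow hp hP
  obtain ⟨c, hc⟩ := exists_cj_le P (P := X.subgroupOf (centralizer ({el ⟨pe p, 0⟩} : Set G))) hX2.comap_subtype
  have hle : cj (c : G) X ≤ (coset2 p hp).map el := by
    rintro _ ⟨x, hx, rfl⟩
    have hm := hc ((conj_mem_cj (g := c)).2 (show (⟨x, hXC hx⟩ : centralizer ({el ⟨pe p, 0⟩} : Set G)) ∈
      X.subgroupOf _ from hx))
    rw [hP', mem_subgroupOf] at hm
    exact hm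
  have := card_le_of_le hle
  rwa [card_cj, D.card_coset2 hp] at this

/-- The stabilizer of the base in the centralizer has order at most `32` times the orbit of a pair. -/
theorem card_R_le (hN : Nrm el) {p : Fin 4} (hp : p ≠ 0) (hP : ¬ Cls el (pe p)) (T' : Fin 16 → Prop)
    [DecidablePred T'] (hT : ∀ v, six v = true → ¬ Cls el v → T' v) :
    Nat.card (centralizer ({el zz} : Set G) ⊓ normalizer (base.map el : Set G) : Subgroup G) ≤
      32 * (List.finRange 16).countP (fun v => decide (T' v)) := by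
  set R := centralizer ({el zz} : Set G) ⊓ normalizer (base.map el : Set G)
  set Rb := R ⊓ centralizer ({el ⟨pe p, 0⟩} : Set G)
  have hex : ∀ g : R, ∃ v : Fin 16, el ⟨v, 0⟩ = (g : G) * el ⟨pe p, 0⟩ * (g : G)⁻¹ ∧ T' v := by
    intro g
    obtain ⟨v, hv⟩ := D.exists_vec (conj_mem_of_normalizer g.2.2 (D.mem_A (pe p)))
    refine ⟨v, hv, hT v ?_ fun h => hP ((D.cls_congr ⟨g, g.2.2, hv.symm⟩).2 h)⟩
    obtain ⟨y, hy, hye⟩ := conj_mem_of_normalizer (D.cent_norm hN g.2.1)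
      (D.el_mem_evens.2 (show ev (⟨pe p, 0⟩ : T).a = true from six_ev _ (pe_six p hp).1))
    obtain rfl : y = ⟨v, 0⟩ := D.inj (hye.trans hv.symm)
    refine six_of_ev v hy (fun e => ?_) fun e => ?_
    · rw [e, show (⟨0, 0⟩ : T) = 1 from rfl, map_one, eq_comm, conj_eq_one_iff, D.el_eq_one] at hv
      exact (pe_six p hp).2.1 (congrArg T.a hv)
    · rw [e, show (⟨15, 0⟩ : T) = zz from rfl, eq_comm, mul_inv_eq_iff_eq_mul,
        ← mem_centralizer_singleton_iff.1 g.2.1] at hv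
      exact (pe_six p hp).2.2 (congrArg T.a (D.inj (mul_left_cancel hv)))
  choose v hv hvT using hex
  have h1 : (Rb.subgroupOf R).index ≤ Nat.card {v : Fin 16 // T' v} := by
    rw [index_eq_card]
    refine Nat.card_le_card_of_injective (fun q => ⟨v q.out, hvT _⟩) fun a b h => ?_
    have e : v a.out = v b.out := congrArg Subtype.val h
    rw [← QuotientGroup.out_eq' a, ← QuotientGroup.out_eq' b]
    refine QuotientGroup.eq.2 ?_
    rw [mem_subgroupOf]
    refine ⟨(a.out⁻¹ * b.out).2, mem_centralizer_singleton_iff.2 (mul_inv_eq_iff_eq_mul.1 ?_)⟩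
    have h1 := hv a.out
    rw [e, hv b.out] at h1
    show ((a.out : G)⁻¹ * (b.out : G)) * el ⟨pe p, 0⟩ * ((a.out : G)⁻¹ * (b.out : G))⁻¹ = _
    calc _ = (a.out : G)⁻¹ * ((b.out : G) * el ⟨pe p, 0⟩ * (b.out : G)⁻¹) * a.out := by group
      _ = _ := by rw [h1]; group
  have h2 := (Rb.subgroupOf R).card_mul_index
  rw [Nat.card_congr (subgroupOfEquivOfLe (inf_le_left : Rb ≤ R)).toEquiv] at h2
  rw [← h2, ← card_fin16 T']
  exact Nat.mul_le_mul (D.stab_pair hN hp hP) h1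

/-- The centralizer permutes three planes of the even part. -/
theorem card_C (hN : Nrm el) :
    Nat.card (centralizer ({el zz} : Set G)) =
      3 * Nat.card (centralizer ({el zz} : Set G) ⊓ normalizer (base.map el : Set G) : Subgroup G) := by
  classical
  set C := centralizer ({el zz} : Set G)
  set R := C ⊓ normalizer (base.map el : Set G)
  have hmove : ∀ g : C, (g : G) ∈ normalizer (base.map el : Set G) ∨ ∃ v : Fin 16, ev v = true ∧
      (g : G) * el ⟨v, 0⟩ * (g : G)⁻¹ ∉ base.map el := by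
    intro g
    by_contra h
    push Not at h
    obtain ⟨o, ho, n, -, hn, e⟩ := D.keep_split g.2 (D.cent_norm hN g.2) h.2
    rw [D.Oc_zz hN, mem_bot] at ho
    rw [ho, one_mul] at e
    exact h.1 (e ▸ hn)
  let val : C → Option Bool := fun g => if (g : G) ∈ normalizer (base.map el : Set G) then none else
    some (decide (∃ y : T, y.p = 1 ∧ ty y = 3 ∧ (y.a = 0 ∨ y.a = 15) ∧ ∃ r : Fin 4, r ≠ 0 ∧
      (g : G) * el ⟨pe r, 0⟩ * (g : G)⁻¹ = el y))
  -- the image of the even base through `y`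
  have himg : ∀ (g : C) (y : T) (r : Fin 4), r ≠ 0 → y.p = 1 → ty y = 3 →
      (g : G) * el ⟨pe r, 0⟩ * (g : G)⁻¹ = el y → ∀ w : T, Img y w →
        ∃ v : Fin 16, (g : G) * el ⟨v, 0⟩ * (g : G)⁻¹ = el w := by
    intro g y r hr hyp hy e
    have hgM := D.cent_norm hN g.2
    have hbad : ∀ a : Fin 16, ev a = true → (g : G) * el ⟨a, 0⟩ * (g : G)⁻¹ ∈ base.map el → a = 0 ∨ a = 15 := by
      refine (D.cover_of g.2 hgM (six_ev _ (pe_six r hr).1) ?_).2
      rw [e]
      exact fun h => absurd ((D.el_mem_base.1 h).symm.trans hyp) (by decide)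
    have hex : ∀ v : {v : Fin 16 // ev v = true}, ∃ w : {w : T // Img y w},
        el (w : T) = (g : G) * el ⟨(v : Fin 16), 0⟩ * (g : G)⁻¹ := by
      rintro ⟨v, hv⟩
      obtain ⟨w, hw, hwe⟩ := conj_mem_of_normalizer hgM (D.el_mem_evens.2 (show ev (⟨v, 0⟩ : T).a = true from hv))
      have hwe' : el w = (g : G) * el ⟨v, 0⟩ * (g : G)⁻¹ := hwe
      have hz : (g : G) * el zz * (g : G)⁻¹ = el zz := by
        rw [mem_centralizer_singleton_iff.1 g.2, mul_inv_cancel_right]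
      have hsmall : ∀ a : Fin 16, ∀ x : T, el x = (g : G) * el ⟨a, 0⟩ * (g : G)⁻¹ → ev a = true → x.p = 0 →
          x.a = 0 ∨ x.a = 15 := by
        intro a x hx ha hx0
        rcases hbad a ha (hx ▸ D.el_mem_base.2 hx0) with rfl | rfl
        · rw [show (⟨0, 0⟩ : T) = 1 from rfl, map_one, mul_one, mul_inv_cancel, D.el_eq_one] at hx
          exact Or.inl (congrArg T.a hx)
        · exact Or.inr (congrArg T.a (D.inj (hx.trans hz)))
      have hyv : el (w * y) = (g : G) * el ⟨v ^^^ pe r, 0⟩ * (g : G)⁻¹ := by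
        rw [map_mul, hwe', ← e, ← vec_mul, map_mul]; group
      refine ⟨⟨w, hw, D.inj ?_, D.inj ?_, hsmall v w hwe' hv, hsmall _ _ hyv ?_⟩, hwe'⟩
      · rw [map_mul, map_one, hwe']; exact conj_sq _ _ (D.base_sq _ (D.mem_A v))
      · rw [map_mul, map_mul, hwe', ← e, show (g : G) * el ⟨v, 0⟩ * (g : G)⁻¹ * ((g : G) * el ⟨pe r, 0⟩ * (g : G)⁻¹) =
          (g : G) * (el ⟨v, 0⟩ * el ⟨pe r, 0⟩) * (g : G)⁻¹ by group, D.base_comm (D.mem_A v) (D.mem_A _)]
        group
      · have : ∀ v : Fin 16, ∀ r : Fin 4, ev v = true → ev (v ^^^ pe r) = true := by decide +kernel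
        exact this v r hv
    choose F hF using hex
    have hinj : Function.Injective F := fun a b h => Subtype.ext (D.vec_inj (mul_left_cancel (mul_right_cancel
      ((hF a).symm.trans ((congrArg (fun w : {w : T // Img y w} => el (w : T)) h).trans (hF b))))))
    have hbij : Function.Bijective F := (Nat.bijective_iff_injective_and_card F).2 ⟨hinj, by
      rw [card_fin16 fun v => ev v = true, card_filter, Img_count y hyp hy]
      simpa using evens_count.1⟩
    intro w hw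
    obtain ⟨v, hv⟩ := hbij.2 ⟨w, hw⟩
    exact ⟨v, (hF v).symm.trans (congrArg (fun w : {w : T // Img y w} => el (w : T)) hv)⟩
  have hinj : ∀ g h : C, val g = val h → ((g⁻¹ * h : C) : G) ∈ R := by
    intro g h e
    refine ⟨(g⁻¹ * h).2, ?_⟩
    rcases hmove g with hg | ⟨v₁, hv₁, hout₁⟩
    · have hh : (h : G) ∈ normalizer (base.map el : Set G) := by
        by_contra hh
        simp only [val, if_pos hg, if_neg hh] at e
        exact absurd e (by simp)
      exact mul_mem (inv_mem hg : (g : G)⁻¹ ∈ normalizer (base.map el : Set G)) hh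
    have hgn : (g : G) ∉ normalizer (base.map el : Set G) := fun hg => hout₁ (conj_mem_of_normalizer hg (D.mem_A _))
    rcases hmove h with hh | ⟨v₂, hv₂, hout₂⟩
    · simp only [val, if_pos hh, if_neg hgn] at e
      exact absurd e (by simp)
    have hhn : (h : G) ∉ normalizer (base.map el : Set G) := fun hh => hout₂ (conj_mem_of_normalizer hh (D.mem_A _))
    simp only [val, if_neg hgn, if_neg hhn, Option.some.injEq, decide_eq_decide] at e
    obtain ⟨r₁, hr₁, y₁, hy₁p, hy₁, e₁⟩ := (D.cover_of g.2 (D.cent_norm hN g.2) hv₁ hout₁).1 1 (by decide)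
    obtain ⟨r₂, hr₂, y₂, hy₂p, hy₂, e₂⟩ := (D.cover_of h.2 (D.cent_norm hN h.2) hv₂ hout₂).1 1 (by decide)
    -- matching images
    obtain ⟨y, r, y', r', hr, hyp, hy, hye, hr', hy'p, hy', hy'e, hiff⟩ :
        ∃ (y : T) (r : Fin 4) (y' : T) (r' : Fin 4), r ≠ 0 ∧ y.p = 1 ∧ ty y = 3 ∧
          (g : G) * el ⟨pe r, 0⟩ * (g : G)⁻¹ = el y ∧ r' ≠ 0 ∧ y'.p = 1 ∧ ty y' = 3 ∧
          (h : G) * el ⟨pe r', 0⟩ * (h : G)⁻¹ = el y' ∧ ((y.a = 0 ∨ y.a = 15) ↔ (y'.a = 0 ∨ y'.a = 15)) := by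
      by_cases hflag : ∃ y : T, y.p = 1 ∧ ty y = 3 ∧ (y.a = 0 ∨ y.a = 15) ∧ ∃ r : Fin 4, r ≠ 0 ∧
          (g : G) * el ⟨pe r, 0⟩ * (g : G)⁻¹ = el y
      · obtain ⟨y', hy'p, hy', hfy', r', hr', hy'e⟩ := e.1 hflag
        obtain ⟨y, hyp, hy, hfy, r, hr, hye⟩ := hflag
        exact ⟨y, r, y', r', hr, hyp, hy, hye, hr', hy'p, hy', hy'e, iff_of_true hfy hfy'⟩
      · exact ⟨y₁, r₁, y₂, r₂, hr₁, hy₁p, hy₁, e₁, hr₂, hy₂p, hy₂, e₂,
          iff_of_false (fun hf => hflag ⟨y₁, hy₁p, hy₁, hf, r₁, hr₁, e₁⟩)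
            (fun hf => hflag (e.2 ⟨y₂, hy₂p, hy₂, hf, r₂, hr₂, e₂⟩))⟩
    obtain ⟨o, ho, n, -, hn, en⟩ := D.keep_split (g⁻¹ * h : C).2 (D.cent_norm hN (g⁻¹ * h : C).2) fun v hv => by
      obtain ⟨w, hw, hwe⟩ := conj_mem_of_normalizer (D.cent_norm hN h.2)
        (D.el_mem_evens.2 (show ev (⟨v, 0⟩ : T).a = true from hv))
      have hwe' : el w = (h : G) * el ⟨v, 0⟩ * (h : G)⁻¹ := hwe
      have hwI : Img y' w := by
        have hbad := (D.cover_of h.2 (D.cent_norm hN h.2) hv₂ hout₂).2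
        have hsmall : ∀ a : Fin 16, ∀ x : T, el x = (h : G) * el ⟨a, 0⟩ * (h : G)⁻¹ → ev a = true → x.p = 0 →
            x.a = 0 ∨ x.a = 15 := by
          intro a x hx ha hx0
          rcases hbad a ha (hx ▸ D.el_mem_base.2 hx0) with rfl | rfl
          · rw [show (⟨0, 0⟩ : T) = 1 from rfl, map_one, mul_one, mul_inv_cancel, D.el_eq_one] at hx
            exact Or.inl (congrArg T.a hx)
          · refine Or.inr (congrArg T.a (D.inj (show el x = el zz from hx.trans ?_)))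
            show (h : G) * el zz * (h : G)⁻¹ = el zz
            rw [mem_centralizer_singleton_iff.1 h.2, mul_inv_cancel_right]
        have hyv : el (w * y') = (h : G) * el ⟨v ^^^ pe r', 0⟩ * (h : G)⁻¹ := by
          rw [map_mul, hwe', ← hy'e, ← vec_mul, map_mul]; group
        refine ⟨hw, D.inj ?_, D.inj ?_, hsmall v w hwe' hv, hsmall _ _ hyv ?_⟩
        · rw [map_mul, map_one, hwe']; exact conj_sq _ _ (D.base_sq _ (D.mem_A v))
        · rw [map_mul, map_mul, hwe', ← hy'e, show (h : G) * el ⟨v, 0⟩ * (h : G)⁻¹ * ((h : G) * el ⟨pe r', 0⟩ * (h : G)⁻¹) =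
            (h : G) * (el ⟨v, 0⟩ * el ⟨pe r', 0⟩) * (h : G)⁻¹ by group, D.base_comm (D.mem_A v) (D.mem_A _)]
          group
        · have : ∀ v : Fin 16, ∀ r : Fin 4, ev v = true → ev (v ^^^ pe r) = true := by decide +kernel
          exact this v r' hv
      obtain ⟨u, hu⟩ := himg g y r hr hyp hy hye w (Img_eq y hyp hy y' hy'p hy' hiff w hwI)
      have : ((g⁻¹ * h : C) : G) * el ⟨v, 0⟩ * ((g⁻¹ * h : C) : G)⁻¹ = el ⟨u, 0⟩ := by
        rw [Subgroup.coe_mul, Subgroup.coe_inv,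
          show (g : G)⁻¹ * (h : G) * el ⟨v, 0⟩ * ((g : G)⁻¹ * (h : G))⁻¹ =
            (g : G)⁻¹ * ((h : G) * el ⟨v, 0⟩ * (h : G)⁻¹) * g by group, ← hwe', ← hu]
        group
      rw [this]
      exact D.mem_A u
    rw [D.Oc_zz hN, mem_bot] at ho
    rw [ho, one_mul] at en
    exact en ▸ hn
  have hidx : (R.subgroupOf C).index ≤ 3 := by
    rw [index_eq_card, show (3 : ℕ) = Nat.card (Option Bool) by simp]
    refine Nat.card_le_card_of_injective (fun q => val q.out) fun a b hab => ?_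
    rw [← QuotientGroup.out_eq' a, ← QuotientGroup.out_eq' b]
    exact QuotientGroup.eq.2 (mem_subgroupOf.2 (hinj _ _ hab))
  have hmul := (R.subgroupOf C).card_mul_index
  rw [Nat.card_congr (subgroupOfEquivOfLe (inf_le_left : R ≤ C)).toEquiv] at hmul
  obtain ⟨k, hk, hkc⟩ := D.card_over D.S_le_R
  obtain ⟨l, hl, hlc⟩ := D.card_over D.S_cent
  have hne : (R.subgroupOf C).index ≠ 1 := by
    intro h1
    rw [index_eq_one, subgroupOf_eq_top] at h1
    obtain ⟨n, hnC, -, v, -, hout⟩ := D.mover hN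
    exact hout (conj_mem_of_normalizer (h1 hnC).2 (D.mem_A v))
  rw [← hmul]
  set i := (R.subgroupOf C).index
  rw [hkc, hlc] at hmul
  obtain ⟨k', rfl⟩ := hk
  obtain ⟨l', rfl⟩ := hl
  rw [hkc]
  interval_cases i <;> omega

/-- With a pair in the class the centralizer has order 192. -/
theorem count_small (hN : Nrm el) {q : Fin 4} (hq : q ≠ 0) (hc : Cls el (pe q)) :
    Nat.card (centralizer ({el zz} : Set G)) = 192 ∧
      ∀ g ∈ centralizer ({el zz} : Set G), g ∈ normalizer (base.map el : Set G) → g ∈ (S : Subgroup G) := by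
  obtain ⟨p, hp, hP⟩ := D.no_all
  have h := D.card_R_le hN hp hP (fun v => six v = true ∧ v ≠ pe q ∧ v ≠ pe q ^^^ 15) fun v hv hnv =>
    ⟨hv, fun e => hnv (e ▸ hc), fun e => hnv (e ▸ (D.cls_congr (D.orb_flip hq)).1 hc)⟩
  rw [evens_count.2.2 q hq] at h
  obtain ⟨k, ⟨j, rfl⟩, hkc⟩ := D.card_over D.S_le_R
  have hj : j = 0 := by omega
  subst hj
  refine ⟨by rw [D.card_C hN, hkc]; all_goals omega, fun g hg hgN => ?_⟩
  rw [eq_of_le_of_card_ge D.S_le_R (by rw [hkc, D.card_S]; all_goals omega)]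
  exact ⟨hg, hgN⟩

/-- Without a pair in the class the centralizer has order 576. -/
theorem count_five (hN : Nrm el) (hP0 : ∀ p : Fin 4, p ≠ 0 → ¬ Cls el (pe p)) :
    Nat.card (centralizer ({el zz} : Set G)) = 576 := by
  have h := D.card_R_le hN (p := 1) (by decide) (hP0 1 (by decide)) (fun v => six v = true) fun v hv _ => hv
  rw [show (List.finRange 16).countP (fun v => decide (six v = true)) = 6 by simpa using evens_count.2.1] at h
  obtain ⟨k, ⟨j, rfl⟩, hkc⟩ := D.card_over D.S_le_R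
  obtain ⟨h7, h1⟩ : Cls el 7 ∧ ¬ Cls el 1 := by
    rcases hN with ⟨q, hq, hc⟩ | ⟨-, h⟩
    exacts [absurd hc (hP0 q hq), h]
  have hsh := D.shape_five hP0 h7 h1
  -- a rotation
  obtain ⟨n, hn, hne⟩ := D.cls_orb.1 ((hsh 14).2 vec14.2.1)
  obtain ⟨c1, c2, c4, c8, hlin⟩ := D.exists_lin hn
  obtain rfl := last_eq _ _ _ _ _ (D.vec_inj ((hlin 15).symm.trans hne))
  set L := lin c1 c2 c4 (last 14 c1 c2 c4)
  have hL : ∀ x : Fin 16, big x = true → five (L x) = true := fun x hx => by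
    rw [five_iff.2.2.2.2, ← hsh, ← D.cls_congr (D.map_orb hn hlin x)]
    exact (hsh x).2 hx
  have hr := five_rot c1 c2 c4
  rw [hL 7 (by decide), hL 11 (by decide), hL 13 (by decide), hL 14 (by decide), D.lin_ok hn hlin] at hr
  simp only [Bool.and_self, Bool.not_true, Bool.false_or, List.any_eq_true, Bool.and_eq_true, beq_iff_eq,
    bne_iff_ne] at hr
  obtain ⟨g, hg, u, -, ⟨h15, h3⟩, h12⟩ := hr
  have hstep : ∀ (m : G) (f : Fin 16 → Fin 16) (r : Fin 4), (∀ a, m * el ⟨a, 0⟩ * m⁻¹ = el ⟨f a, 0⟩) →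
      ∀ a, n * el ⟨0, r⟩ * m * el ⟨a, 0⟩ * (n * el ⟨0, r⟩ * m)⁻¹ = el ⟨L (sh r (f a)), 0⟩ := fun m f r hf a => by
    rw [show n * el ⟨0, r⟩ * m * el ⟨a, 0⟩ * (n * el ⟨0, r⟩ * m)⁻¹ =
      n * (el ⟨0, r⟩ * (m * el ⟨a, 0⟩ * m⁻¹) * (el ⟨0, r⟩)⁻¹) * n⁻¹ by group, hf, ← map_inv, ← map_mul, ← map_mul,
      conj_base, hlin]
  have hτ : ∀ r : Fin 4, el ⟨0, r⟩ ∈ normalizer (base.map el : Set G) := fun r => D.S_le (D.mem_S _)
  obtain ⟨m, hm, hmg⟩ : ∃ m ∈ normalizer (base.map el : Set G), ∀ a, m * el ⟨a, 0⟩ * m⁻¹ = el ⟨g a, 0⟩ := by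
    simp only [words, List.mem_cons, List.not_mem_nil, or_false] at hg
    rcases hg with rfl | rfl | rfl | rfl | rfl
    · exact ⟨n, hn, hlin⟩
    · exact ⟨n * n, mul_mem hn hn, fun a => by
        rw [show n * n * el ⟨a, 0⟩ * (n * n)⁻¹ = n * (n * el ⟨a, 0⟩ * n⁻¹) * n⁻¹ by group, hlin, hlin]⟩
    · exact ⟨n * el ⟨0, 1⟩ * n, mul_mem (mul_mem hn (hτ 1)) hn, hstep n _ 1 hlin⟩
    · exact ⟨n * el ⟨0, 2⟩ * n, mul_mem (mul_mem hn (hτ 2)) hn, hstep n _ 2 hlin⟩
    · exact ⟨n * el ⟨0, 3⟩ * n, mul_mem (mul_mem hn (hτ 3)) hn, hstep n _ 3 hlin⟩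
  set x := n * el ⟨0, u⟩ * m
  have hx := hstep m g u hmg
  have hxR : x ∈ centralizer ({el zz} : Set G) ⊓ normalizer (base.map el : Set G) := by
    refine ⟨mem_centralizer_singleton_iff.2 (mul_inv_eq_iff_eq_mul.1 ?_), mul_mem (mul_mem hn (hτ u)) hm⟩
    have h2 : x * el ⟨15, 0⟩ * x⁻¹ = el ⟨L (sh u (g 15)), 0⟩ := hx 15
    rw [show L (sh u (g 15)) = 15 from h15] at h2
    exact h2
  have hxS : x ∉ (S : Subgroup G) := by
    intro hxS
    obtain ⟨y, hy⟩ := D.exists_el hxS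
    have h2 : x * el ⟨3, 0⟩ * x⁻¹ = el ⟨L (sh u (g 3)), 0⟩ := hx 3
    rw [← hy, ← map_inv, ← map_mul, ← map_mul] at h2
    have h3' : L (sh u (g 3)) = sh y.p 3 := by
      have : ∀ y : T, y * ⟨3, 0⟩ * y⁻¹ = ⟨sh y.p 3, 0⟩ := by decide +kernel
      rw [this] at h2
      exact (D.vec_inj h2).symm
    rcases sh_three y.p with e | e
    · exact h3 (h3'.trans e)
    · exact h12 (h3'.trans e)
  have hk : j ≠ 0 := by
    rintro rfl
    exact hxS ((eq_of_le_of_card_ge D.S_le_R (by rw [hkc, D.card_S]; all_goals omega)).symm ▸ hxR)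
  have hj : j = 1 := by omega
  rw [D.card_C hN, hkc, hj]
  all_goals omega

end Rec

end CfsgLib.A8Rec
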