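import Cfsg.Agent.A8Rec.Local
import Cfsg.Agent.A8Three.Data

/-!
The class of the central involution in the base, and its relation with the involutions outside it.
-/

set_option autoImplicit false
set_option linter.unusedSectionVars false
set_option linter.style.haveILetI false
set_option maxRecDepth 100000

namespace CfsgLib.A8Rec

open Subgroup CfsgLib.SylL34
open CfsgLib.A8Three

theorem last_eq : ∀ t c1 c2 c4 c8 : Fin 16, lin c1 c2 c4 c8 15 = t → c8 = last t c1 c2 c4 := by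
  intro t c1 c2 c4 c8 h
  have h2 : ∀ x y t : Fin 16, x ^^^ y = t → y = t ^^^ x := by decide +kernel
  have e : lin c1 c2 c4 c8 15 = c1 ^^^ c2 ^^^ c4 ^^^ c8 := rfl
  rw [e] at h
  rw [h2 _ _ _ h]
  show _ = t ^^^ c1 ^^^ c2 ^^^ c4
  rw [xor16_assoc t, xor16_assoc t, xor16_assoc]

theorem pe_flip : ∀ p : Fin 4, p ≠ 0 → ∃ r, pe p ^^^ 15 = sh r (pe p) := by decide +kernel

theorem pe_six : ∀ p : Fin 4, p ≠ 0 → six (pe p) = true ∧ pe p ≠ 0 ∧ pe p ≠ 15 := by decide +kernel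

theorem six_rep : ∀ a : Fin 16, six a = true → ∃ p r, p ≠ 0 ∧ a = sh r (pe p) := by decide +kernel

theorem odd_four : ∀ a : Fin 16, ev a = false → (big a = true ∧ ∃ r, a = sh r 7) ∨ (big a = false ∧ ∃ r, a = sh r 1) := by
  decide +kernel

theorem kind_cases : ∀ a : Fin 16, a = 0 ∨ a = 15 ∨ six a = true ∨ ev a = false := by decide +kernel

theorem sq_zz : ∀ x : T, ty x = 3 → ∃ u : T, u * x = x * u ∧ u * u = zz := by decide +kernel

theorem sq_cases : ∀ x : T, ty x = 3 → ∀ u : T, u * x = x * u → u * u = 1 ∨ u * u = zz := by decide +kernel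

theorem fix_cases : ∀ p : Fin 4, p ≠ 0 → ∀ a : Fin 16,
    (sh p a = a ↔ a = 0 ∨ a = 15 ∨ a = pe p ∨ a = pe p ^^^ 15) := by decide +kernel

theorem E_conj : ∀ p : Fin 4, ∀ y : T, ∃ e : Fin 16, sh p e = e ∧ y * ⟨0, p⟩ * y⁻¹ = ⟨e, p⟩ := by decide +kernel

theorem E_fix : ∀ p : Fin 4, ∀ y : T, ∀ a : Fin 16, sh p a = a →
    ∃ e : Fin 16, sh p e = e ∧ y * ⟨a, 0⟩ * y⁻¹ = ⟨e, 0⟩ := by decide +kernel

theorem pe_xor : ∀ r r' : Fin 4,
    (pe r ^^^ pe r' = 0 ∨ pe r ^^^ pe r' = 15 → r = r') ∧ ev (pe r) = true ∧ pe 0 = 0 := by decide +kernel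

theorem fix_span : ∀ p : Fin 4, p ≠ 0 → ∀ a : Fin 16, a ≠ 0 → a ≠ 15 → sh p a = a → ∀ e : Fin 16, sh p e = e →
    e = 0 ∨ e = 15 ∨ e = a ∨ e = a ^^^ 15 := by decide +kernel

theorem shift_zero : ∀ p : Fin 4, ∀ d : Fin 16, sh 0 d = d ∧ sh p 0 = 0 ∧ (0 : Fin 4) ^^^ p = p ∧ p ^^^ p = 0 := by
  decide +kernel

theorem two_cosets : ∀ q : Fin 4, q ≠ 0 →
    (∀ x y : T, (x.p = 0 ∨ x.p = q) → (y.p = 0 ∨ y.p = q) → ((x * y).p = 0 ∨ (x * y).p = q)) ∧
    (∀ x : T, (x.p = 0 ∨ x.p = q) → (x⁻¹.p = 0 ∨ x⁻¹.p = q)) ∧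
    ∃ t : T, ∀ x : T, (((x * t).p = 0 ∨ (x * t).p = q) ↔ ¬(x.p = 0 ∨ x.p = q)) := by decide +kernel

/-- Two cosets of the base. -/
def coset2 (q : Fin 4) (hq : q ≠ 0) : Subgroup T where
  carrier := {x | x.p = 0 ∨ x.p = q}
  one_mem' := Or.inl rfl
  mul_mem' {x y} hx hy := (two_cosets q hq).1 x y hx hy
  inv_mem' {x} hx := (two_cosets q hq).2.1 x hx

/-- The `z`-class in the base. -/
def Cls {G : Type*} [Group G] (el : T →* G) (a : Fin 16) : Prop := IsConj (el zz) (el ⟨a, 0⟩)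

/-- Some element of the centralizer moves the even base. -/
def Mover {G : Type*} [Group G] (el : T →* G) : Prop :=
  ∃ n ∈ centralizer ({el zz} : Set G), n ∈ normalizer (evens.map el : Set G) ∧
    ∃ v : Fin 16, ev v = true ∧ n * el ⟨v, 0⟩ * n⁻¹ ∉ base.map el

variable {G : Type*} [Group G] [Finite G] {S : Sylow 2 G} {el : T →* G}

namespace Rec

variable (D : Rec S el)
include D

theorem cls_orb {a : Fin 16} : Cls el a ↔ Orb el (base.map el) 15 a := by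
  constructor
  · intro h
    obtain ⟨g, hg⟩ := isConj_iff.1 h
    obtain ⟨n, -, hn, e⟩ := D.fus_base (H := ⊤) le_top (mem_top g) (D.mem_A 15) (D.mem_A a) hg
    exact ⟨n, hn, e⟩
  · rintro ⟨n, -, e⟩
    exact isConj_iff.2 ⟨n, e⟩

theorem cls_congr {a b : Fin 16} (h : Orb el (base.map el) a b) : Cls el a ↔ Cls el b := by
  rw [D.cls_orb, D.cls_orb]
  exact ⟨fun h' => h'.trans h, fun h' => h'.trans h.symm⟩

theorem orb_shift (p : Fin 4) (a : Fin 16) : Orb el (base.map el) a (sh p a) :=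
  ⟨el ⟨0, p⟩, D.S_le (D.mem_S _), by rw [← map_inv, ← map_mul, ← map_mul, conj_base]⟩

theorem orb_flip {p : Fin 4} (hp : p ≠ 0) : Orb el (base.map el) (pe p) (pe p ^^^ 15) := by
  obtain ⟨r, hr⟩ := pe_flip p hp
  rw [hr]
  exact D.orb_shift r _

theorem cls_15 : Cls el 15 := IsConj.refl _

theorem not_cls_zero : ¬ Cls el 0 := fun h => by
  obtain ⟨g, hg⟩ := isConj_iff.1 h
  rw [show (⟨0, 0⟩ : T) = 1 from rfl, map_one, conj_eq_one_iff, D.el_eq_one] at hg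
  exact absurd hg (by decide)

/-- A base element whose coordinates are known. -/
theorem map_orb {n : G} (hn : n ∈ normalizer (base.map el : Set G)) {c1 c2 c4 c8 : Fin 16}
    (hc : ∀ a, n * el ⟨a, 0⟩ * n⁻¹ = el ⟨lin c1 c2 c4 c8 a, 0⟩) (a : Fin 16) :
    Orb el (base.map el) a (lin c1 c2 c4 c8 a) := ⟨n, hn, hc a⟩

/-- Conjugating a 2-subgroup centralizing a base element into the Sylow subgroup. -/
theorem into_S {a : G} (ha : a ∈ base.map el) {Q : Subgroup G} (hQ : IsPGroup 2 Q)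
    (hQa : Q ≤ centralizer ({a} : Set G)) : ∃ k : G, k * a * k⁻¹ ∈ base.map el ∧ cj k Q ≤ (S : Subgroup G) := by
  haveI : Fact (Nat.Prime 2) := ⟨Nat.prime_two⟩
  set A := base.map el
  set K := centralizer ({a} : Set G)
  have hAK : A ≤ K := fun x hx => mem_centralizer_singleton_iff.2 (D.base_comm hx ha)
  obtain ⟨R, hR⟩ := ((isPGroup_of_sq D.base_sq).comap_subtype (K := K)).exists_le_sylow
  obtain ⟨c, hc⟩ := exists_cj_le R (P := Q.subgroupOf K) hQ.comap_subtype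
  obtain ⟨d, hd⟩ := exists_cj_le S (P := (R : Subgroup K).map K.subtype) (R.2.map _)
  have hdA : cj d A = A := D.unique (by
      rintro _ ⟨x, hx, rfl⟩
      exact hd (conj_mem_cj.2 ⟨⟨x, hAK hx⟩, hR hx, rfl⟩))
    (by rintro _ ⟨x, hx, rfl⟩; exact conj_sq _ _ (D.base_sq x hx)) (by rw [card_cj, D.card_base])
  refine ⟨d * (c : G), ?_, ?_⟩
  · have hca := mem_centralizer_singleton_iff.1 c.2
    rw [show d * (c : G) * a * (d * (c : G))⁻¹ = d * ((c : G) * a * (c : G)⁻¹) * d⁻¹ by group, hca,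
      mul_inv_cancel_right, ← hdA]
    exact conj_mem_cj.2 ha
  · rintro _ ⟨x, hx, rfl⟩
    have hm := hc ((conj_mem_cj (g := c)).2 (show (⟨x, hQa hx⟩ : K) ∈ Q.subgroupOf K from hx))
    have := hd (conj_mem_cj.2 (mem_map_of_mem K.subtype hm))
    show d * (c : G) * x * (d * (c : G))⁻¹ ∈ (S : Subgroup G)
    simpa [mul_assoc] using this

/-- The group of order eight of a coset is not conjugate into the base. -/
theorem no_E {p : Fin 4} (hp : p ≠ 0) (g : G)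
    (h : ∀ e : Fin 16, sh p e = e →
      g * el ⟨e, 0⟩ * g⁻¹ ∈ base.map el ∧ g * el ⟨e, p⟩ * g⁻¹ ∈ base.map el) : False := by
  haveI : Fact (Nat.Prime 2) := ⟨Nat.prime_two⟩
  set A := base.map el
  set E := closure {x : G | ∃ e : Fin 16, sh p e = e ∧ (x = el ⟨e, 0⟩ ∨ x = el ⟨e, p⟩)}
  have hSN : (S : Subgroup G) ≤ normalizer (E : Set G) := by
    intro s hs
    obtain ⟨y, rfl⟩ := D.exists_el hs
    have key : ∀ y : T, cj (el y) E ≤ E := fun y => by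
      rw [cj, MonoidHom.map_closure, closure_le]
      rintro _ ⟨_, ⟨e, he, rfl | rfl⟩, rfl⟩
      · obtain ⟨e', he', h'⟩ := E_fix p y e he
        refine subset_closure ⟨e', he', Or.inl ?_⟩
        show el y * el ⟨e, 0⟩ * (el y)⁻¹ = _
        rw [← map_inv, ← map_mul, ← map_mul, h']
      · obtain ⟨e', he', h'⟩ := E_fix p y e he
        obtain ⟨d, hd, h''⟩ := E_conj p y
        refine subset_closure ⟨e' ^^^ d, by rw [sh_xor, he', hd], Or.inr ?_⟩
        show el y * el ⟨e, p⟩ * (el y)⁻¹ = _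
        rw [split ⟨e, p⟩, map_mul, show el y * (el ⟨e, 0⟩ * el ⟨0, p⟩) * (el y)⁻¹ =
          el y * el ⟨e, 0⟩ * (el y)⁻¹ * (el y * el ⟨0, p⟩ * (el y)⁻¹) by group, ← map_inv, ← map_mul, ← map_mul,
          ← map_mul, ← map_mul, h', h'', ← map_mul]
        congr 1
        exact T.ext (by show e' ^^^ sh 0 d = e' ^^^ d; rw [(shift_zero p d).1]) (shift_zero p d).2.2.1
    exact mem_normalizer_of_conj_mem fun x hx => key y (conj_mem_cj.2 hx)
  have hXE : cj g⁻¹ A ≤ centralizer (E : Set G) := by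
    rintro _ ⟨a, ha, rfl⟩
    show g⁻¹ * a * g⁻¹⁻¹ ∈ _
    rw [inv_inv, centralizer_closure, mem_centralizer_iff]
    rintro x ⟨e, he, hx⟩
    have hxA : g * x * g⁻¹ ∈ A := by
      rcases hx with rfl | rfl
      exacts [(h e he).1, (h e he).2]
    have h1 := D.base_comm hxA ha
    calc x * (g⁻¹ * a * g) = g⁻¹ * (g * x * g⁻¹ * a) * g := by group
      _ = g⁻¹ * (a * (g * x * g⁻¹)) * g := by rw [h1]
      _ = g⁻¹ * a * g * x := by group
  have hXN : cj g⁻¹ A ≤ normalizer (E : Set G) := hXE.trans (centralizer_le_normalizer _)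
  obtain ⟨k, hk⟩ := exists_cj_le (S.subtype hSN) (P := (cj g⁻¹ A).subgroupOf (normalizer (E : Set G)))
    (((isPGroup_of_sq D.base_sq).map _).comap_subtype)
  have hkA : cj ((k : G) * g⁻¹) A = A := D.unique (by
      rintro _ ⟨a, ha, rfl⟩
      have hm : (⟨g⁻¹ * a * g⁻¹⁻¹, hXN (conj_mem_cj.2 ha)⟩ : normalizer (E : Set G)) ∈
          (cj g⁻¹ A).subgroupOf (normalizer (E : Set G)) := conj_mem_cj.2 ha
      have := hk ((conj_mem_cj (g := k)).2 hm)
      rw [Sylow.coe_subtype, mem_subgroupOf] at this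
      simpa [mul_assoc] using this)
    (by rintro _ ⟨a, ha, rfl⟩; exact conj_sq _ _ (D.base_sq a ha)) (by rw [card_cj, D.card_base])
  obtain ⟨a, ha⟩ := out_move p hp
  refine ha (D.inj ?_)
  rw [map_mul, map_mul]
  obtain ⟨b, hb, hbe⟩ := (hkA.symm ▸ D.mem_A a : el ⟨a, 0⟩ ∈ cj ((k : G) * g⁻¹) A)
  have hbE := hXE (conj_mem_cj.2 hb)
  have h0 : el ⟨0, p⟩ ∈ E := subset_closure ⟨0, (shift_zero p 0).2.1, Or.inr rfl⟩
  have hx : (k : G)⁻¹ * el ⟨0, p⟩ * k ∈ E := by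
    have := conj_mem_of_normalizer (inv_mem k.2) h0
    simpa using this
  have h1 := mem_centralizer_iff.1 hbE _ hx
  have hbe' : (k : G) * g⁻¹ * b * ((k : G) * g⁻¹)⁻¹ = el ⟨a, 0⟩ := hbe
  rw [← hbe']
  calc el ⟨0, p⟩ * ((k : G) * g⁻¹ * b * ((k : G) * g⁻¹)⁻¹)
      = k * ((k : G)⁻¹ * el ⟨0, p⟩ * k * (g⁻¹ * b * g⁻¹⁻¹)) * (k : G)⁻¹ := by group
    _ = k * (g⁻¹ * b * g⁻¹⁻¹ * ((k : G)⁻¹ * el ⟨0, p⟩ * k)) * (k : G)⁻¹ := by rw [h1]
    _ = _ := by group

theorem out_ty {x : T} (hp : x.p ≠ 0) (hxx : x * x = 1) : ty x = 3 := out_sq x hp hxx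

theorem sq_mem_base {y : G} (hy : y ∈ (S : Subgroup G)) : y * y ∈ base.map el := by
  obtain ⟨u, rfl⟩ := D.exists_el hy
  rw [← map_mul]
  exact D.el_mem_base.2 (square_base u)

/-- An outside involution in the `z`-class puts its pair in the class. -/
theorem out_zclass {p : Fin 4} (hp : p ≠ 0) (h : IsConj (el ⟨0, p⟩) (el zz)) : Cls el (pe p) := by
  haveI : Fact (Nat.Prime 2) := ⟨Nat.prime_two⟩
  set C := centralizer ({el zz} : Set G)
  obtain ⟨g₀, hg₀⟩ := isConj_iff.1 h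
  set Q := (centralizer ({(⟨0, p⟩ : T)} : Set T)).map el
  have hQ2 : IsPGroup 2 Q := S.2.to_le (by rintro _ ⟨x, -, rfl⟩; exact D.mem_S x)
  have hQC : cj g₀ Q ≤ C := by
    rintro _ ⟨_, ⟨x, hx, rfl⟩, rfl⟩
    refine mem_centralizer_singleton_iff.2 ?_
    show g₀ * el x * g₀⁻¹ * el zz = el zz * (g₀ * el x * g₀⁻¹)
    have h1 : el x * el ⟨0, p⟩ = el ⟨0, p⟩ * el x := by
      rw [← map_mul, ← map_mul, mem_centralizer_singleton_iff.1 hx]
    rw [← hg₀, show g₀ * el x * g₀⁻¹ * (g₀ * el ⟨0, p⟩ * g₀⁻¹) = g₀ * (el x * el ⟨0, p⟩) * g₀⁻¹ by group, h1]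
    group
  obtain ⟨c, hc⟩ := exists_cj_le (S.subtype D.S_cent) (P := (cj g₀ Q).subgroupOf C) (hQ2.map _).comap_subtype
  set g := (c : G) * g₀
  have hg : g * el ⟨0, p⟩ * g⁻¹ = el zz := by
    rw [show g * el ⟨0, p⟩ * g⁻¹ = c * (g₀ * el ⟨0, p⟩ * g₀⁻¹) * (c : G)⁻¹ by simp only [g]; group, hg₀,
      mem_centralizer_singleton_iff.1 c.2, mul_inv_cancel_right]
  have hgS : ∀ x : T, x * ⟨0, p⟩ = ⟨0, p⟩ * x → g * el x * g⁻¹ ∈ (S : Subgroup G) := by
    intro x hx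
    have hm : (⟨g₀ * el x * g₀⁻¹, hQC (conj_mem_cj.2 (mem_map_of_mem el (mem_centralizer_singleton_iff.2 hx)))⟩ : C) ∈
        (cj g₀ Q).subgroupOf C := conj_mem_cj.2 (mem_map_of_mem el (mem_centralizer_singleton_iff.2 hx))
    have := hc ((conj_mem_cj (g := c)).2 hm)
    rw [Sylow.coe_subtype, mem_subgroupOf] at this
    simpa [g, mul_assoc] using this
  have hty := tau_out p hp
  obtain ⟨u, hu, huu⟩ := sq_zz ⟨0, p⟩ hty
  have hd : g * el zz * g⁻¹ ∈ base.map el := by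
    rw [← huu, map_mul, show g * (el u * el u) * g⁻¹ = g * el u * g⁻¹ * (g * el u * g⁻¹) by group]
    exact D.sq_mem_base (hgS u hu)
  have hz : g * el zz * g⁻¹ * (g * el ⟨0, p⟩ * g⁻¹) ∈ base.map el := by
    rw [hg]; exact mul_mem hd (D.mem_A 15)
  obtain ⟨hfix, -, -⟩ := pe_spec p hp
  have hcomm : ∀ e : Fin 16, sh p e = e → (⟨e, 0⟩ : T) * ⟨0, p⟩ = ⟨0, p⟩ * ⟨e, 0⟩ := by
    intro e he
    have : ∀ p : Fin 4, ∀ e : Fin 16, sh p e = e → (⟨e, 0⟩ : T) * ⟨0, p⟩ = ⟨0, p⟩ * ⟨e, 0⟩ := by decide +kernel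
    exact this p e he
  obtain ⟨y, hy⟩ := D.exists_el (hgS ⟨pe p, 0⟩ (hcomm _ hfix))
  -- the image of the pair lies outside the base
  have hyp : y.p ≠ 0 := by
    intro hy0
    have hpe : g * el ⟨pe p, 0⟩ * g⁻¹ ∈ base.map el := hy ▸ D.el_mem_base.2 hy0
    have hzA : g * el ⟨0, p⟩ * g⁻¹ ∈ base.map el := hg ▸ D.mem_A 15
    refine D.no_E hp g fun e he => ?_
    have h1 : g * el ⟨e, 0⟩ * g⁻¹ ∈ base.map el := by
      rcases (fix_cases p hp e).1 he with rfl | rfl | rfl | rfl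
      · rw [show (⟨0, 0⟩ : T) = 1 from rfl, map_one, mul_one, mul_inv_cancel]; exact one_mem _
      · exact hd
      · exact hpe
      · rw [← vec_mul, map_mul, show g * (el ⟨pe p, 0⟩ * el ⟨15, 0⟩) * g⁻¹ =
          g * el ⟨pe p, 0⟩ * g⁻¹ * (g * el ⟨15, 0⟩ * g⁻¹) by group]
        exact mul_mem hpe hd
    refine ⟨h1, ?_⟩
    rw [split ⟨e, p⟩, map_mul, show g * (el ⟨e, 0⟩ * el ⟨0, p⟩) * g⁻¹ =
      g * el ⟨e, 0⟩ * g⁻¹ * (g * el ⟨0, p⟩ * g⁻¹) by group]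
    exact mul_mem h1 hzA
  have hy1 : y * y = 1 := D.inj (by rw [map_mul, map_one, hy]; exact conj_sq g _ (D.base_sq _ (D.mem_A _)))
  have hyz : y * zz * (y * zz) = 1 := by
    rw [mul_assoc, ← mul_assoc zz, ← zz_comm, mul_assoc y, zz_sq, mul_one, hy1]
  have hyzp : (y * zz).p ≠ 0 := by
    have : ∀ y : T, y.p ≠ 0 → (y * zz).p ≠ 0 := by decide +kernel
    exact this y hyp
  obtain ⟨c1, h1⟩ := out_conj y (D.out_ty hyp hy1)
  obtain ⟨c2, h2⟩ := out_conj (y * zz) (D.out_ty hyzp hyz)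
  have hpz : (y * zz).p = y.p := by
    have : ∀ y : T, (y * zz).p = y.p := by decide +kernel
    exact this y
  rw [hpz] at h2
  have e1 : IsConj (el y) (el (y * zz)) := by
    refine (IsConj.symm (isConj_iff.2 ⟨el ⟨c1, 0⟩, ?_⟩)).trans (isConj_iff.2 ⟨el ⟨c2, 0⟩, by
      rw [← map_inv, ← map_mul, ← map_mul, h2]⟩)
    rw [← map_inv, ← map_mul, ← map_mul, h1]
  -- `pe p` is fused to the outside involution `pe p τ`
  have e2 : IsConj (el ⟨pe p, 0⟩) (el y) := isConj_iff.2 ⟨g, hy.symm⟩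
  have e3 : IsConj (el ⟨pe p, p⟩) (el (y * zz)) := isConj_iff.2 ⟨g, by
    rw [split ⟨pe p, p⟩, map_mul, show g * (el ⟨pe p, 0⟩ * el ⟨0, p⟩) * g⁻¹ =
      g * el ⟨pe p, 0⟩ * g⁻¹ * (g * el ⟨0, p⟩ * g⁻¹) by group, hg, ← hy, map_mul]⟩
  have e4 : IsConj (el ⟨0, p⟩) (el ⟨pe p, p⟩) := by
    have ht : ∀ p : Fin 4, p ≠ 0 → ty ⟨pe p, p⟩ = 3 := by decide +kernel
    obtain ⟨c, hcc⟩ := out_conj ⟨pe p, p⟩ (ht p hp)
    exact isConj_iff.2 ⟨el ⟨c, 0⟩, by rw [← map_inv, ← map_mul, ← map_mul, hcc]⟩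
  exact ((h.symm.trans (e4.trans e3)).trans e1.symm).trans e2.symm

/-- An element moving the even base covers every coset with the image of a pair. -/
theorem cover_of {n : G} (hnC : n ∈ centralizer ({el zz} : Set G)) (hnM : n ∈ normalizer (evens.map el : Set G))
    {v : Fin 16} (hv : ev v = true) (hout : n * el ⟨v, 0⟩ * n⁻¹ ∉ base.map el) :
    (∀ p : Fin 4, p ≠ 0 → ∃ r : Fin 4, r ≠ 0 ∧ ∃ y : T, y.p = p ∧ ty y = 3 ∧ n * el ⟨pe r, 0⟩ * n⁻¹ = el y) ∧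
      ∀ a : Fin 16, ev a = true → n * el ⟨a, 0⟩ * n⁻¹ ∈ base.map el → a = 0 ∨ a = 15 := by
  have hz : n * el zz * n⁻¹ = el zz := by rw [mem_centralizer_singleton_iff.1 hnC, mul_inv_cancel_right]
  have hex : ∀ v : Fin 16, ev v = true → ∃ y : T, y ∈ evens ∧ el y = n * el ⟨v, 0⟩ * n⁻¹ := fun v hv =>
    conj_mem_of_normalizer hnM (D.el_mem_evens.2 (show ev (⟨v, 0⟩ : T).a = true from hv))
  choose! f hfe hf using hex
  have hbad : ∀ v, ev v = true → (f v).p = 0 → v = 0 ∨ v = 15 := by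
    intro a ha ha0
    by_contra h
    push Not at h
    obtain ⟨ha0', ha15⟩ := h
    set q := (f v).p
    have hq : q ≠ 0 := fun e => hout (hf v hv ▸ D.el_mem_base.2 e)
    have hfa0 : (f a).a ≠ 0 := fun e => ha0' (by
      have h1 := hf a ha
      rw [show f a = 1 from T.ext e ha0, map_one, eq_comm, conj_eq_one_iff, D.el_eq_one] at h1
      exact congrArg T.a h1)
    have hfa15 : (f a).a ≠ 15 := fun e => ha15 (by
      have h1 := hf a ha
      rw [show f a = zz from T.ext e ha0, ← hz] at h1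
      exact (congrArg T.a (D.inj (mul_left_cancel (mul_right_cancel h1)))).symm)
    have hfav : f a * f v = f v * f a := D.inj (by
      rw [map_mul, map_mul, hf a ha, hf v hv,
        show n * el ⟨a, 0⟩ * n⁻¹ * (n * el ⟨v, 0⟩ * n⁻¹) = n * (el ⟨a, 0⟩ * el ⟨v, 0⟩) * n⁻¹ by group,
        D.base_comm (D.mem_A a) (D.mem_A v)]
      group)
    have hcq : sh q (f a).a = (f a).a := by
      have : ∀ x y : T, x.p = 0 → x * y = y * x → sh y.p x.a = x.a := by decide +kernel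
      exact this _ _ ha0 hfav
    have hfvv : f v * f v = 1 := D.inj (by
      rw [map_mul, map_one, hf v hv]; exact conj_sq n _ (D.base_sq _ (D.mem_A v)))
    have hcv : sh q (f v).a = (f v).a := by
      have : ∀ y : T, y.p ≠ 0 → y * y = 1 → sh y.p y.a = y.a := by decide +kernel
      exact this _ hq hfvv
    refine D.no_E hq n⁻¹ fun e he => ?_
    have hA : ∀ y : T, (∃ w, el y = n * w * n⁻¹ ∧ w ∈ base.map el) → n⁻¹ * el y * n⁻¹⁻¹ ∈ base.map el := by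
      rintro y ⟨w, hw, hwA⟩
      rw [hw, show n⁻¹ * (n * w * n⁻¹) * n⁻¹⁻¹ = w by group]
      exact hwA
    have hfa : (⟨(f a).a, 0⟩ : T) = f a := T.ext rfl ha0.symm
    have hmem : ∀ e : Fin 16, sh q e = e → n⁻¹ * el ⟨e, 0⟩ * n⁻¹⁻¹ ∈ base.map el := by
      intro e he
      rcases fix_span q hq (f a).a hfa0 hfa15 hcq e he with rfl | rfl | rfl | rfl
      · rw [show (⟨0, 0⟩ : T) = 1 from rfl, map_one, mul_one, mul_inv_cancel]; exact one_mem _
      · exact hA _ ⟨el zz, hz.symm, D.mem_A 15⟩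
      · exact hA _ ⟨_, hfa.symm ▸ hf a ha, D.mem_A a⟩
      · rw [← vec_mul, map_mul, show n⁻¹ * (el ⟨(f a).a, 0⟩ * el ⟨15, 0⟩) * n⁻¹⁻¹ =
          n⁻¹ * el ⟨(f a).a, 0⟩ * n⁻¹⁻¹ * (n⁻¹ * el ⟨15, 0⟩ * n⁻¹⁻¹) by group]
        exact mul_mem (hA _ ⟨_, hfa.symm ▸ hf a ha, D.mem_A a⟩) (hA _ ⟨el zz, hz.symm, D.mem_A 15⟩)
    refine ⟨hmem e he, ?_⟩
    have hsplit : (⟨e, q⟩ : T) = ⟨e ^^^ (f v).a, 0⟩ * f v := by
      have : ∀ e : Fin 16, ∀ y : T, (⟨e, y.p⟩ : T) = ⟨e ^^^ y.a, 0⟩ * y := by decide +kernel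
      exact this e (f v)
    rw [hsplit, map_mul, show n⁻¹ * (el ⟨e ^^^ (f v).a, 0⟩ * el (f v)) * n⁻¹⁻¹ =
      n⁻¹ * el ⟨e ^^^ (f v).a, 0⟩ * n⁻¹⁻¹ * (n⁻¹ * el (f v) * n⁻¹⁻¹) by group]
    exact mul_mem (hmem _ (by rw [sh_xor, he, hcv])) (hA _ ⟨_, hf v hv, D.mem_A v⟩)
  have hevr : ∀ r : Fin 4, ev (pe r) = true := fun r => (pe_xor r r).2.1
  let σ : Fin 4 → Fin 4 := fun r => (f (pe r)).p
  have hσ : Function.Injective σ := by
    intro r r' h
    have h2 : ev (pe r ^^^ pe r') = true := by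
      have h3 : ∀ r r' : Fin 4, ev (pe r ^^^ pe r') = true := by decide +kernel
      exact h3 r r'
    refine (pe_xor r r').1 (hbad _ h2 ?_)
    have e : f (pe r ^^^ pe r') = f (pe r) * f (pe r') := D.inj (by
      rw [hf _ h2, map_mul, hf _ (hevr r), hf _ (hevr r'), ← vec_mul, map_mul]; group)
    rw [e]
    show (f (pe r)).p ^^^ (f (pe r')).p = 0
    rw [show (f (pe r)).p = (f (pe r')).p from h]
    exact (shift_zero _ 0).2.2.2
  refine ⟨fun p hp => ?_, fun a ha h => hbad a ha (D.el_mem_base.1 ((hf a ha).symm ▸ h))⟩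
  obtain ⟨r, hr⟩ := (Finite.injective_iff_surjective.1 hσ) p
  have hfsq : f (pe r) * f (pe r) = 1 := D.inj (by
    rw [map_mul, map_one, hf _ (hevr r)]; exact conj_sq n _ (D.base_sq _ (D.mem_A _)))
  refine ⟨r, fun e => hp ?_, f (pe r), hr, D.out_ty (by rw [show (f (pe r)).p = p from hr]; exact hp) hfsq,
    (hf _ (hevr r)).symm⟩
  rw [← hr, e]
  show (f (pe 0)).p = 0
  have h0 : f (pe 0) = 1 := D.inj (by
    rw [hf _ (hevr 0), show pe 0 = 0 from rfl, show (⟨0, 0⟩ : T) = 1 from rfl, map_one, mul_one, mul_inv_cancel])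
  rw [h0]; rfl

/-- When the even base is moved every coset contains a conjugate of a pair. -/
theorem mover_cover (hm : Mover el) :
    ∃ n ∈ centralizer ({el zz} : Set G), n ∈ normalizer (evens.map el : Set G) ∧ ∀ p : Fin 4, p ≠ 0 → ∃ r : Fin 4,
      r ≠ 0 ∧ ∃ y : T, y.p = p ∧ ty y = 3 ∧ n * el ⟨pe r, 0⟩ * n⁻¹ = el y := by
  obtain ⟨n, hnC, hnM, v, hv, hout⟩ := hm
  exact ⟨n, hnC, hnM, (D.cover_of hnC hnM hv hout).1⟩

/-- Without a mover the base is strongly closed. -/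
theorem strong (hm : ¬ Mover el) {x : T} (hx : ty x = 3) (g : G) : g * el x * g⁻¹ ∉ base.map el := by
  intro hgA
  have hfix : ∀ n ∈ centralizer ({el zz} : Set G), n ∈ normalizer (evens.map el : Set G) →
      ∀ v : Fin 16, ev v = true → n * el ⟨v, 0⟩ * n⁻¹ ∈ base.map el := fun n hn hnM v hv =>
    by_contra fun h => hm ⟨n, hn, hnM, v, hv, h⟩
  obtain ⟨k, hkA, hkS⟩ := D.into_S hgA (Q := cj g ((centralizer ({x} : Set T)).map el))
    ((IsPGroup.to_le S.2 (by rintro _ ⟨y, -, rfl⟩; exact D.mem_S y)).map _) (by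
      rintro _ ⟨_, ⟨y, hy, rfl⟩, rfl⟩
      refine mem_centralizer_singleton_iff.2 ?_
      show g * el y * g⁻¹ * (g * el x * g⁻¹) = g * el x * g⁻¹ * (g * el y * g⁻¹)
      rw [show g * el y * g⁻¹ * (g * el x * g⁻¹) = g * (el y * el x) * g⁻¹ by group,
        ← map_mul, mem_centralizer_singleton_iff.1 hy, map_mul]
      group)
  set g₁ := k * g
  have hg₁ : g₁ * el x * g₁⁻¹ ∈ base.map el := by
    rwa [show g₁ * el x * g₁⁻¹ = k * (g * el x * g⁻¹) * k⁻¹ by simp only [g₁]; group]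
  obtain ⟨u, hu, huu⟩ := sq_zz x hx
  have hzA : g₁ * el zz * g₁⁻¹ ∈ base.map el := by
    rw [← huu, map_mul, show g₁ * (el u * el u) * g₁⁻¹ = g₁ * el u * g₁⁻¹ * (g₁ * el u * g₁⁻¹) by group]
    refine D.sq_mem_base ?_
    rw [show g₁ * el u * g₁⁻¹ = k * (g * el u * g⁻¹) * k⁻¹ by simp only [g₁]; group]
    exact hkS (conj_mem_cj.2 (conj_mem_cj.2 (mem_map_of_mem el (mem_centralizer_singleton_iff.2 hu))))
  obtain ⟨a, ha⟩ := D.exists_vec hzA
  have hcls : Cls el a := isConj_iff.2 ⟨g₁, ha.symm⟩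
  obtain ⟨m, hm', hme⟩ := D.cls_orb.1 hcls
  set g₂ := m⁻¹ * g₁
  have hg₂C : g₂ ∈ centralizer ({el zz} : Set G) := by
    refine mem_centralizer_singleton_iff.2 (mul_inv_eq_iff_eq_mul.1 ?_)
    rw [show g₂ * el zz * g₂⁻¹ = m⁻¹ * (g₁ * el zz * g₁⁻¹) * m by simp only [g₂]; group, ← ha, ← hme]
    rw [show (⟨15, 0⟩ : T) = zz from rfl]; group
  have hg₂ : g₂ * el x * g₂⁻¹ ∈ base.map el := by
    have := conj_mem_of_normalizer (inv_mem hm') hg₁
    rwa [show m⁻¹ * (g₁ * el x * g₁⁻¹) * m⁻¹⁻¹ = g₂ * el x * g₂⁻¹ by simp only [g₂]; group] at this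
  obtain ⟨o, ho, n, hnC, hn, e⟩ := D.cent_fixed hfix g₂ hg₂C
  set a' := g₂ * el x * g₂⁻¹
  set t := n * el x * n⁻¹
  have ht : t = o⁻¹ * a' * o := by simp only [t, a', e]; group
  have htN : t ∈ normalizer (base.map el : Set G) := mul_mem (mul_mem hn (D.S_le (D.mem_S x))) (inv_mem hn)
  have hc1 : a'⁻¹ * t ∈ Oc (el zz) := by
    rw [ht, show a'⁻¹ * (o⁻¹ * a' * o) = (a'⁻¹ * o⁻¹ * a') * o by group]
    refine mul_mem ?_ ho
    have := conj_mem_of_normalizer (inv_mem (cent_le_normalizer_Oc _ (D.A_cent hg₂))) (inv_mem ho)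
    simpa using this
  have hc2 : a'⁻¹ * t ∈ normalizer (base.map el : Set G) := mul_mem (inv_mem (le_normalizer hg₂)) htN
  have hcent : ∀ y ∈ base.map el, (a'⁻¹ * t) * y * (a'⁻¹ * t)⁻¹ = y := fun y hy =>
    mul_inv_eq_one.1 (inf_eq_bot_of_odd (Oc_odd _) (isPGroup_of_sq D.base_sq)
      (comm_mem_odd hc1 (cent_le_normalizer_Oc _ (D.A_cent hy))) (mul_mem (conj_mem_of_normalizer hc2 hy) (inv_mem hy)))
  have hall : ∀ y ∈ base.map el, t * y * t⁻¹ = y := fun y hy => by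
    have h1 := hcent y hy
    have h2 := D.base_comm hg₂ hy
    calc t * y * t⁻¹ = a' * ((a'⁻¹ * t) * y * (a'⁻¹ * t)⁻¹) * a'⁻¹ := by group
      _ = y := by rw [h1, h2, mul_inv_cancel_right]
  obtain ⟨hxp, -, -⟩ := ty_out x hx
  refine hxp (base_self x fun y hy => D.inj ?_)
  rw [map_mul, map_mul]
  have h1 := hall _ (conj_mem_of_normalizer hn (mem_map_of_mem el (show y ∈ base from hy)))
  have h2 : n * (el x * el y * (el x)⁻¹) * n⁻¹ = n * el y * n⁻¹ := by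
    rw [← h1]; simp only [t]; group
  exact mul_inv_eq_iff_eq_mul.1 (mul_left_cancel (mul_right_cancel h2))

/-- Without a mover all pairs have the same class. -/
theorem pairs_same (hm : ¬ Mover el) {p q : Fin 4} (hp : p ≠ 0) (hq : q ≠ 0) (hpq : p ≠ q) :
    Orb el (base.map el) (pe p) (pe q) := by
  haveI : Fact (Nat.Prime 2) := ⟨Nat.prime_two⟩
  set C := centralizer ({el zz} : Set G)
  have hfix : ∀ n ∈ C, n ∈ normalizer (evens.map el : Set G) →
      ∀ v : Fin 16, ev v = true → n * el ⟨v, 0⟩ * n⁻¹ ∈ base.map el := fun n hn hnM v hv =>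
    by_contra fun h => hm ⟨n, hn, hnM, v, hv, h⟩
  have hrel : ((coset2 q hq).map el).relIndex (S : Subgroup G) = 2 := by
    rw [← D.range, MonoidHom.range_eq_map, relIndex_map_map, el.ker_eq_bot D.inj, sup_bot_eq, sup_bot_eq,
      relIndex_top_right]
    obtain ⟨t, ht⟩ := (two_cosets q hq).2.2
    refine index_eq_two_iff.2 ⟨t, fun x => ?_⟩
    have h1 := ht x
    show Xor ((x * t).p = 0 ∨ (x * t).p = q) (x.p = 0 ∨ x.p = q)
    by_cases h : x.p = 0 ∨ x.p = q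
    · exact Or.inr ⟨h, fun h' => h1.1 h' h⟩
    · exact Or.inl ⟨h1.2 h, h⟩
  have hodd : Odd (S : Subgroup G).index :=
    Nat.not_even_iff_odd.1 fun h => S.not_dvd_index (even_iff_two_dvd.1 h)
  rcases ThompsonTransfer.thompson_transfer (S : Subgroup G) ((coset2 q hq).map el) hodd hrel (u := el ⟨0, p⟩)
    (by rw [← map_mul, tau_sq, map_one]) with ⟨K, -, hK, -⟩ | ⟨g, y, hy, hye⟩
  · exact absurd hK (D.res K)
  have hty := tau_out p hp
  have hyq : y.p = q := hy.resolve_left fun h0 => D.strong hm hty g (hye ▸ D.el_mem_base.2 h0)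
  have hyy : y * y = 1 := D.inj (by
    rw [map_mul, map_one, hye]; exact conj_sq g _ (by rw [← map_mul, tau_sq, map_one]))
  have hty' := D.out_ty (by rw [hyq]; exact hq) hyy
  -- the centralizer in `S` is a Sylow subgroup of the centralizer of `y`
  set X := centralizer ({el y} : Set G)
  set P := (centralizer ({y} : Set T)).map el
  have hPX : P ≤ X := by
    rintro _ ⟨w, hw, rfl⟩
    exact mem_centralizer_singleton_iff.2 (by rw [← map_mul, ← map_mul, mem_centralizer_singleton_iff.1 hw])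
  obtain ⟨Q, hQ⟩ := exists_sylow_eq hPX (S.2.to_le (by rintro _ ⟨w, -, rfl⟩; exact D.mem_S w))
    fun R hR hPR hRX => by
      obtain ⟨d, hd⟩ := exists_cj_le S hR
      have hyR : el y ∈ R := hPR (mem_map_of_mem el (mem_centralizer_singleton_iff.2 rfl))
      obtain ⟨y', hy'⟩ := D.exists_el (hd (conj_mem_cj.2 hyR))
      have hy'' : el y' = d * el y * d⁻¹ := hy'
      have hy'p : y'.p ≠ 0 := fun h0 => D.strong hm hty' d (hy'' ▸ D.el_mem_base.2 h0)
      have hy'y' : y' * y' = 1 := D.inj (by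
        rw [map_mul, map_one, hy'']; exact conj_sq d _ (by rw [← map_mul, hyy, map_one]))
      have hle : cj d R ≤ (centralizer ({y'} : Set T)).map el := by
        rintro _ ⟨r, hr, rfl⟩
        obtain ⟨w, hw⟩ := D.exists_el (hd (conj_mem_cj.2 hr))
        refine ⟨w, mem_centralizer_singleton_iff.2 (D.inj ?_), hw⟩
        rw [map_mul, map_mul, hw, hy'', show d * r * d⁻¹ * (d * el y * d⁻¹) = d * (r * el y) * d⁻¹ by group,
          mem_centralizer_singleton_iff.1 (hRX hr)]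
        group
      refine (eq_of_le_of_card_ge hPR ?_).ge
      have h1 := card_le_of_le hle
      rw [card_cj, card_map_of_injective D.inj, cn_eq, cn_three y' (D.out_ty hy'p hy'y')] at h1
      rw [card_map_of_injective D.inj, cn_eq, cn_three y hty']
      exact h1
  set Pp := (centralizer ({(⟨0, p⟩ : T)} : Set T)).map el
  have hgX : cj g Pp ≤ X := by
    rintro _ ⟨_, ⟨w, hw, rfl⟩, rfl⟩
    refine mem_centralizer_singleton_iff.2 ?_
    show g * el w * g⁻¹ * el y = el y * (g * el w * g⁻¹)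
    rw [hye, show g * el w * g⁻¹ * (g * el ⟨0, p⟩ * g⁻¹) = g * (el w * el ⟨0, p⟩) * g⁻¹ by group,
      ← map_mul, mem_centralizer_singleton_iff.1 hw, map_mul]
    group
  obtain ⟨c, hc⟩ := exists_cj_le Q (P := (cj g Pp).subgroupOf X)
    (((IsPGroup.to_le S.2 (by rintro _ ⟨w, -, rfl⟩; exact D.mem_S w)).map _).comap_subtype)
  set g₁ := (c : G) * g
  have hg₁ : g₁ * el ⟨0, p⟩ * g₁⁻¹ = el y := by
    rw [show g₁ * el ⟨0, p⟩ * g₁⁻¹ = c * (g * el ⟨0, p⟩ * g⁻¹) * (c : G)⁻¹ by simp only [g₁]; group, ← hye,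
      mem_centralizer_singleton_iff.1 c.2, mul_inv_cancel_right]
  obtain ⟨u, hu, huu⟩ := sq_zz _ hty
  have hum : (⟨g * el u * g⁻¹, hgX (conj_mem_cj.2 (mem_map_of_mem el (mem_centralizer_singleton_iff.2 hu)))⟩ : X) ∈
      (cj g Pp).subgroupOf X := conj_mem_cj.2 (mem_map_of_mem el (mem_centralizer_singleton_iff.2 hu))
  have hum2 := hc ((conj_mem_cj (g := c)).2 hum)
  rw [hQ, mem_subgroupOf] at hum2
  obtain ⟨w, hw, hwe⟩ := hum2
  have hwe' : el w = g₁ * el u * g₁⁻¹ := hwe.trans (by simp [g₁, mul_assoc])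
  have hg₁C : g₁ ∈ C := by
    refine mem_centralizer_singleton_iff.2 (mul_inv_eq_iff_eq_mul.1 ?_)
    have e : g₁ * el zz * g₁⁻¹ = el (w * w) := by rw [← huu, map_mul, map_mul, hwe']; group
    rcases sq_cases y hty' w (mem_centralizer_singleton_iff.1 hw) with h | h <;> rw [h] at e
    · rw [map_one, conj_eq_one_iff, D.el_eq_one] at e
      exact absurd e (by decide)
    · exact e
  obtain ⟨o, ho, n, hnC, hn, he⟩ := D.cent_fixed hfix g₁ hg₁C
  obtain ⟨hfx, -, -⟩ := pe_spec p hp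
  obtain ⟨d, hd⟩ := D.exists_vec (conj_mem_of_normalizer hn (D.mem_A (pe p)))
  -- `d` commutes with `y` modulo the core
  have hdy : el ⟨d, 0⟩ * el y = el y * el ⟨d, 0⟩ := by
    set t := n * el ⟨0, p⟩ * n⁻¹
    have htc : el ⟨d, 0⟩ * t = t * el ⟨d, 0⟩ := by
      rw [hd, show n * el ⟨pe p, 0⟩ * n⁻¹ * t = n * (el ⟨pe p, 0⟩ * el ⟨0, p⟩) * n⁻¹ by simp only [t]; group,
        ← map_mul, pe_comm, map_mul]
      simp only [t]; group
    have ht : t = o⁻¹ * el y * o := by rw [← hg₁, he]; simp only [t]; group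
    have hc1 : (el y)⁻¹ * t ∈ Oc (el zz) := by
      rw [ht, show (el y)⁻¹ * (o⁻¹ * el y * o) = ((el y)⁻¹ * o⁻¹ * el y) * o by group]
      refine mul_mem ?_ ho
      have := conj_mem_of_normalizer (inv_mem (cent_le_normalizer_Oc _ (D.S_cent (D.mem_S y)))) (inv_mem ho)
      simpa using this
    have hc2 : (el y)⁻¹ * t ∈ normalizer (base.map el : Set G) :=
      mul_mem (inv_mem (D.S_le (D.mem_S y))) (mul_mem (mul_mem hn (D.S_le (D.mem_S _))) (inv_mem hn))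
    have hcent : (el y)⁻¹ * t * el ⟨d, 0⟩ * ((el y)⁻¹ * t)⁻¹ = el ⟨d, 0⟩ :=
      mul_inv_eq_one.1 (inf_eq_bot_of_odd (Oc_odd _) (isPGroup_of_sq D.base_sq)
        (comm_mem_odd hc1 (cent_le_normalizer_Oc _ (D.A_cent (D.mem_A d))))
        (mul_mem (conj_mem_of_normalizer hc2 (D.mem_A d)) (inv_mem (D.mem_A d))))
    refine (mul_inv_eq_iff_eq_mul.1 ?_).symm
    calc el y * el ⟨d, 0⟩ * (el y)⁻¹ = el y * ((el y)⁻¹ * t * el ⟨d, 0⟩ * ((el y)⁻¹ * t)⁻¹) * (el y)⁻¹ := by rw [hcent]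
      _ = t * el ⟨d, 0⟩ * t⁻¹ := by group
      _ = el ⟨d, 0⟩ := by rw [← htc, mul_inv_cancel_right]
  obtain ⟨b, q'⟩ := y
  obtain rfl : q' = q := hyq
  have hdq : sh q' d = d := comm_out b d q' (D.inj (by rw [map_mul, map_mul]; exact hdy))
  have horb : Orb el (base.map el) (pe p) d := ⟨n, hn, hd.symm⟩
  rcases (fix_cases q' hq d).1 hdq with rfl | rfl | rfl | rfl
  · rw [show (⟨0, 0⟩ : T) = 1 from rfl, map_one, eq_comm, conj_eq_one_iff, D.el_eq_one] at hd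
    exact absurd (congrArg T.a hd) (pe_six p hp).2.1
  · rw [show (⟨15, 0⟩ : T) = zz from rfl, eq_comm, mul_inv_eq_iff_eq_mul,
      ← mem_centralizer_singleton_iff.1 hnC] at hd
    exact absurd (congrArg T.a (D.inj (mul_left_cancel hd))) (pe_six p hp).2.2
  · exact horb
  · exact horb.trans (D.orb_flip hq).symm

end Rec

end CfsgLib.A8Rec
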