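import Cfsg.Agent.A8Rec.Local
import Cfsg.Agent.Monster.ExtraBasics
import Cfsg.Agent.Solvable.Basics
import Cfsg.Agent.S3344

/-!
A centralizer of order 192 of the central involution, fused into the even part of the base: the
alternating groups of degree 8 and 9.
-/

set_option autoImplicit false
set_option linter.unusedSectionVars false
set_option linter.style.haveILetI false
set_option maxRecDepth 100000

namespace CfsgLib.A8Rec

open Subgroup CfsgLib.SylL34
open CfsgLib.A8Three

/-- The nodes of involutions commuting with at least fifteen involutions. -/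
noncomputable def big15 (m : Nat → Nat → Nat) : List Nat :=
  let I := (List.range 192).filter fun i => !(Nat.beq i 0) && Nat.beq (m i i) 0
  I.filter fun i => Nat.ble 15 (I.filter fun j => Nat.beq (m i j) (m j i)).length

theorem big15_small : Nat.blt (big15 C192.T00.m).length 15 = true := by decide +kernel

theorem six_of : ∀ v : Fin 16, ev v = true → (⟨v, 0⟩ : T) ≠ 1 → (⟨v, 0⟩ : T) ≠ zz → six v = true := by
  decide +kernel
theorem six_ne : ∀ v : Fin 16, six v = true → (⟨v, 0⟩ : T) ≠ zz ∧ ev v = true := by decide +kernel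

theorem evens_twist : ∀ x : T, ev x.a = true → x.p ≠ 0 →
    ((⟨7, 0⟩ : T) * x * ⟨7, 0⟩ * x⁻¹).p = 0 ∧ six ((⟨7, 0⟩ : T) * x * ⟨7, 0⟩ * x⁻¹).a = true := by
  decide +kernel

theorem twist_basic : ev ((⟨7, 0⟩ : T)).a = false ∧ (⟨7, 0⟩ : T) * ⟨7, 0⟩ = 1 ∧ zz * zz = 1 ∧
    ev zz.a = true ∧ zz ≠ 1 := by decide +kernel

theorem evens_noncomm : ∃ x y : T, ev x.a = true ∧ ev y.a = true ∧ x * y ≠ y * x :=
  ⟨⟨5, 1⟩, ⟨6, 2⟩, by decide +kernel⟩

theorem evens_squares : ∀ x : T, ev x.a = true → x * x = 1 ∨ x * x = zz := by decide +kernel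

theorem perm_twist : ∀ a b : Equiv.Perm (Fin 3), a ^ 3 = 1 → b * b = 1 → b ≠ 1 → a ≠ 1 →
    b * a * b⁻¹ = a⁻¹ := by decide +kernel

theorem card_evens : Nat.card evens = 32 := by
  rw [show Nat.card evens = Nat.card {x : T // ev x.a = true} from rfl, card_filter]
  decide +kernel

namespace Ident

variable {G : Type*} [Group G] [Finite G] {S : Sylow 2 G} {el : T →* G} (D : Rec S el)
include D

theorem card_M : Nat.card (evens.map el) = 32 := by
  rw [card_map_of_injective D.inj, card_evens]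

theorem M_le : evens.map el ≤ (S : Subgroup G) := by
  rintro _ ⟨x, -, rfl⟩
  exact D.mem_S x

theorem extraspecial : Cfsg.IsExtraspecial 2 (evens.map el) := by
  set Q := evens.map el
  have hc : ∀ a : Q, ∃ x, ev x.a = true ∧ el x = (a : G) := fun a => a.2
  have hzQ : el zz ∈ Q := mem_map_of_mem el (show zz ∈ evens from twist_basic.2.2.2.1)
  have hzc : (⟨el zz, hzQ⟩ : Q) ∈ Subgroup.center Q := mem_center_iff.2 fun a => by
    obtain ⟨x, -, hx⟩ := hc a
    refine Subtype.ext ?_
    show (a : G) * el zz = el zz * a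
    rw [← hx, ← map_mul, ← map_mul, zz_comm]
  have hcent : ∀ {a : Q}, a ∈ Subgroup.center Q ↔ a = 1 ∨ a = ⟨el zz, hzQ⟩ := fun {a} => by
    constructor
    · intro ha
      obtain ⟨x, hxe, hx⟩ := hc a
      rcases cent_M x (fun y hy => D.inj (by
        have h := congrArg Subtype.val (mem_center_iff.1 ha ⟨el y, mem_map_of_mem el (show y ∈ evens from hy)⟩)
        rw [map_mul, map_mul, hx]
        exact h.symm)) with e | e
      · exact Or.inl (Subtype.ext (by rw [← hx, e, map_one]; rfl))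
      · exact Or.inr (Subtype.ext (by rw [← hx, e]))
    · rintro (rfl | rfl)
      exacts [one_mem _, hzc]
  have hzne : (⟨el zz, hzQ⟩ : Q) ≠ 1 := fun e =>
    twist_basic.2.2.2.2 (D.el_eq_one.1 (congrArg Subtype.val e))
  refine Monster.isExtraspecial_of D.isPGroup_evens ?_ (fun a b => hcent.2 ?_) (fun a => hcent.2 ?_) ?_
  · refine (Nat.card_eq_two_iff' (1 : Subgroup.center Q)).2 ⟨⟨_, hzc⟩, fun e => hzne (congrArg Subtype.val e), ?_⟩
    rintro ⟨a, ha⟩ hne
    exact Subtype.ext ((hcent.1 ha).resolve_left fun e => hne (Subtype.ext e))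
  · obtain ⟨x, hxe, hx⟩ := hc a
    obtain ⟨y, hye, hy⟩ := hc b
    rcases evens_rel x y hxe hye with e | e
    · exact Or.inl (Subtype.ext (by
        show (a : G) * b * (a : G)⁻¹ * (b : G)⁻¹ = 1
        rw [← hx, ← hy, ← map_inv el x, ← map_mul, ← map_mul, e, mul_inv_cancel]))
    · refine Or.inr (Subtype.ext ?_)
      show (a : G) * b * (a : G)⁻¹ * (b : G)⁻¹ = el zz
      rw [← hx, ← hy, ← map_inv el x, ← map_mul, ← map_mul, e, ← map_inv el y, ← map_mul, zz_comm y,
        mul_inv_cancel_right]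
  · obtain ⟨x, hxe, hx⟩ := hc a
    rcases evens_squares x hxe with e | e
    · exact Or.inl (Subtype.ext (by show (a : G) * a = 1; rw [← hx, ← map_mul, e, map_one]))
    · exact Or.inr (Subtype.ext (by show (a : G) * a = el zz; rw [← hx, ← map_mul, e]))
  · obtain ⟨x, y, hx, hy, hne⟩ := evens_noncomm
    exact ⟨⟨el x, mem_map_of_mem el (show x ∈ evens from hx)⟩, ⟨el y, mem_map_of_mem el (show y ∈ evens from hy)⟩,
      fun e => hne (D.inj (by rw [map_mul, map_mul]; exact congrArg Subtype.val e))⟩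

/-- The base is too rich in commuting involutions for the first kind of centralizer. -/
theorem no_zero {L : List G} (hlen : L.length = 8)
    (hrel : ∀ w ∈ C192.relsC false false, Coset.ev L w = 1)
    (hgen : Subgroup.closure {x | x ∈ L} = centralizer ({el zz} : Set G))
    (hcard : Nat.card (centralizer ({el zz} : Set G)) = 192) (hz : el zz = Coset.ev L [0, 0]) : False := by
  classical
  have C := C192.T00.cod hlen hrel hgen hcard hz
  set e := fun i => Coset.ev L (J2U.pathW C192.T00.Par 12 i)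
  let A := {a : Fin 16 // a ≠ 0}
  have hA2 : ∀ a : A, orderOf (el ⟨a.1, 0⟩) = 2 := fun a =>
    D.order_el fun h => a.2 (by
      have hh : ∀ b : Fin 16, ty ⟨b, 0⟩ = 0 → b = 0 := by decide +kernel
      exact hh _ h)
  have hAz : ∀ a : A, el ⟨a.1, 0⟩ * el zz = el zz * el ⟨a.1, 0⟩ := fun a => by
    rw [← map_mul, ← map_mul, zz_comm]
  choose f hlt hinv heq using fun a : A => C.invol_node (hAz a) (hA2 a)
  have hfinj : Function.Injective f := fun a b h =>
    Subtype.ext (D.vec_inj ((heq a).trans ((congrArg e h).trans (heq b).symm)))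
  set I := (List.range 192).filter fun i => !(Nat.beq i 0) && Nat.beq (C192.T00.m i i) 0
  have hfI : ∀ a, f a ∈ I := fun a => List.mem_filter.2 ⟨List.mem_range.2 (hlt a), hinv a⟩
  have hcardA : 15 ≤ Fintype.card A := by simp [A]
  have hmem : ∀ a, f a ∈ big15 C192.T00.m := fun a => List.mem_filter.2 ⟨hfI a, by
    rw [Nat.ble_eq]
    refine hcardA.trans ?_
    rw [← Finset.card_univ, ← Finset.card_image_of_injective _ hfinj]
    refine (Finset.card_le_card (t := (I.filter fun j =>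
      Nat.beq (C192.T00.m (f a) j) (C192.T00.m j (f a))).toFinset) ?_).trans (List.toFinset_card_le _)
    intro j hj
    obtain ⟨b, -, rfl⟩ := Finset.mem_image.1 hj
    refine List.mem_toFinset.2 (List.mem_filter.2 ⟨hfI b, (C.comm_iff (hlt a) (hlt b)).1 ?_⟩)
    rw [show e (f a) = el ⟨a.1, 0⟩ from (heq a).symm, show e (f b) = el ⟨b.1, 0⟩ from (heq b).symm]
    exact D.base_comm (D.mem_A _) (D.mem_A _)⟩
  have h := big15_small
  rw [Nat.blt_eq] at h
  refine absurd (hcardA.trans ?_) (not_le.2 h)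
  rw [← Finset.card_univ, ← Finset.card_image_of_injective _ hfinj]
  refine (Finset.card_le_card (t := (big15 C192.T00.m).toFinset) fun j hj => ?_).trans (List.toFinset_card_le _)
  obtain ⟨b, -, rfl⟩ := Finset.mem_image.1 hj
  exact List.mem_toFinset.2 (hmem b)

end Ident

open CfsgLib.A8Three in
/-- A centralizer of order 192 with fusion into the even part gives `Alt(8)` or `Alt(9)`. -/
theorem ident192 {G : Type*} [Group G] [Finite G] {S : Sylow 2 G} {el : T →* G} (D : Rec S el)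
    (hM : ∀ g ∈ Subgroup.centralizer ({el zz} : Set G), g ∈ Subgroup.normalizer (evens.map el : Set G))
    (hpair : ∀ g ∈ Subgroup.centralizer ({el zz} : Set G), Odd (orderOf g) → ∀ v : Fin 16, six v = true →
      g * el ⟨v, 0⟩ = el ⟨v, 0⟩ * g → g = 1)
    (hR : ∀ g ∈ Subgroup.centralizer ({el zz} : Set G), g ∈ Subgroup.normalizer (base.map el : Set G) →
      g ∈ (S : Subgroup G))
    (hcard : Nat.card (Subgroup.centralizer ({el zz} : Set G)) = 192)
    (hfus : ∃ v : Fin 16, six v = true ∧ IsConj (el zz) (el ⟨v, 0⟩)) :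
    Nonempty (G ≃* alternatingGroup (Fin 8)) ∨ Nonempty (G ≃* alternatingGroup (Fin 9)) := by
  haveI : Fact (Nat.Prime 2) := ⟨Nat.prime_two⟩
  haveI : Fact (Nat.Prime 3) := ⟨Nat.prime_three⟩
  set C := centralizer ({el zz} : Set G) with hC
  set M := evens.map el with hMdef
  set S' := (S : Subgroup G).subgroupOf C with hS'
  have hMC : M ≤ C := (Ident.M_le D).trans D.S_cent
  set M' := M.subgroupOf C with hM'
  haveI hMn : M'.Normal := ⟨fun x hx c => mem_subgroupOf.2 (by
    rw [coe_mul, coe_mul, coe_inv]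
    exact conj_mem_of_normalizer (hM c c.2) (mem_subgroupOf.1 hx))⟩
  have hS64 : Nat.card (S : Subgroup G) = 64 := by
    rw [← D.range, ← Nat.card_congr (MonoidHom.ofInjective D.inj).toEquiv, card_T]
  have hS'c : Nat.card S' = 64 := by
    rw [hS', Nat.card_congr (subgroupOfEquivOfLe D.S_cent).toEquiv, hS64]
  have hM'c : Nat.card M' = 32 := by
    rw [hM', Nat.card_congr (subgroupOfEquivOfLe hMC).toEquiv, hMdef, Ident.card_M D]
  have hidx : S'.index = 3 := by
    have h := S'.card_mul_index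
    rw [hS'c, hcard] at h
    omega
  set N := S'.normalCore with hN
  have hMN : M' ≤ N := (normal_le_normalCore).2 (comap_mono (Ident.M_le D))
  have hNne : N ≠ S' := by
    intro e
    haveI : S'.Normal := e ▸ S'.normalCore_normal
    have hall : ∀ g ∈ C, g ∈ (S : Subgroup G) := by
      intro g hg
      refine hR g hg (mem_normalizer_of_cj (D.unique ?_ ?_ (by rw [card_cj, D.card_base])))
      · rintro _ ⟨x, hx, rfl⟩
        exact mem_subgroupOf.1 (Subgroup.Normal.conj_mem (H := S') inferInstance ⟨x, D.S_cent (D.base_le hx)⟩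
          (mem_subgroupOf.2 (D.base_le hx)) ⟨g, hg⟩)
      · rintro _ ⟨x, hx, rfl⟩
        exact conj_sq _ _ (D.base_sq x hx)
    have := card_le_of_le hall
    omega
  have hNc : Nat.card N = 32 := by
    have h1 : Nat.card N ∣ 64 := hS'c ▸ card_dvd_of_le S'.normalCore_le
    have h2 := card_le_of_le hMN
    have h3 : Nat.card N ≠ 64 := fun e => hNne (eq_of_le_of_card_ge S'.normalCore_le (by rw [e, hS'c]))
    rw [show 64 = 2 ^ 6 from rfl, Nat.dvd_prime_pow Nat.prime_two] at h1
    obtain ⟨k, hk, e⟩ := h1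
    rw [e] at h2 h3 ⊢
    rw [hM'c] at h2
    interval_cases k <;> simp_all
  have hNM : M' = N := eq_of_le_of_card_ge hMN (by rw [hNc, hM'c])
  -- the action on the three cosets of the Sylow subgroup
  have hq : Nat.card (C ⧸ S') = 3 := hidx
  let ec : C ⧸ S' ≃ Fin 3 := (Finite.equivFin _).trans (finCongr hq)
  let θ : C →* Equiv.Perm (Fin 3) := ec.permCongrHom.toMonoidHom.comp (MulAction.toPermHom C (C ⧸ S'))
  have hθker : θ.ker = M' := by
    rw [hNM, hN, normalCore_eq_ker]
    ext c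
    simp [θ, MonoidHom.mem_ker]
  have hθs : Function.Surjective θ := by
    rw [← MonoidHom.range_eq_top]
    refine eq_top_of_card_eq _ ?_
    have h := card_eq_card_quotient_mul_card_subgroup θ.ker
    rw [Nat.card_congr (QuotientGroup.quotientKerEquivRange θ).toEquiv, hθker, hM'c, hcard] at h
    rw [Nat.card_perm, Nat.card_fin, Nat.factorial]
    simp only [Nat.factorial]
    omega
  have hQdef : M = M'.map C.subtype := by
    rw [hM', subgroupOf_map_subtype, inf_eq_left.2 hMC]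
  obtain ⟨X⟩ : Nonempty (Sylow 3 C) := inferInstance
  have hXc : Nat.card (X : Subgroup C) = 3 := by
    rw [X.card_eq_multiplicity, hcard, show 192 = 2 ^ 6 * 3 by norm_num,
      Nat.factorization_mul (by norm_num) (by norm_num), Nat.Prime.factorization_pow Nat.prime_two,
      Nat.Prime.factorization Nat.prime_three]
    simp
  set t : C := ⟨el ⟨7, 0⟩, D.S_cent (D.mem_S _)⟩
  have hCQX : M ⊓ centralizer (((X : Subgroup C).map C.subtype : Subgroup G) : Set G) = zpowers (el zz) := by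
    refine le_antisymm (fun w hw => ?_) (zpowers_le.2 ⟨mem_map_of_mem el (show zz ∈ evens from twist_basic.2.2.2.1),
      mem_centralizer_iff.2 ?_⟩)
    swap
    · rintro _ ⟨c, -, rfl⟩
      exact mem_centralizer_singleton_iff.1 c.2
    obtain ⟨⟨om, hom, rfl⟩, hwX⟩ := hw
    by_contra hwz
    obtain ⟨x, hxne⟩ : ∃ x : (X : Subgroup C), x ≠ 1 := by
      haveI : Nontrivial (X : Subgroup C) := Finite.one_lt_card_iff_nontrivial.1 (by rw [hXc]; norm_num)
      exact exists_ne 1
    have hx3 : orderOf ((x : C) : G) = 3 := by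
      rw [orderOf_coe, orderOf_coe]
      exact ((Nat.dvd_prime Nat.prime_three).1 ((orderOf_dvd_natCard x).trans hXc.dvd)).resolve_left fun e =>
        hxne (orderOf_eq_one_iff.1 e)
    set ξ := ((x : C) : G)
    have hxw : ξ * el om = el om * ξ := mem_centralizer_iff.1 hwX _ ⟨x, x.2, rfl⟩
    have hxodd : Odd (orderOf ξ) := by rw [hx3]; decide
    have hxne' : ξ ≠ 1 := fun e => by rw [e, orderOf_one] at hx3; omega
    have hone : om ≠ 1 := fun e => hwz (by rw [e, map_one]; exact one_mem _)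
    have hzz : om ≠ zz := fun e => hwz (e ▸ mem_zpowers _)
    by_cases hp : om.p = 0
    · have e : om = ⟨om.a, 0⟩ := T.ext rfl hp
      rw [e] at hone hzz hxw
      exact hxne' (hpair ξ (x : C).2 hxodd om.a (six_of _ hom hone hzz) hxw)
    obtain ⟨hvp, hv6⟩ := evens_twist om hom hp
    set v := (⟨7, 0⟩ : T) * om * ⟨7, 0⟩ * om⁻¹ with hv
    have hev : v = ⟨v.a, 0⟩ := T.ext rfl hvp
    -- `t` inverts `x` modulo the even part
    have hθt : θ t ≠ 1 := fun e => by
      have h : t ∈ M' := hθker ▸ MonoidHom.mem_ker.2 e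
      have := D.el_mem_evens.1 (mem_subgroupOf.1 h)
      rw [twist_basic.1] at this
      exact Bool.false_ne_true this
    have ht2 : θ t * θ t = 1 := by
      rw [← map_mul, show t * t = 1 from Subtype.ext (by
        show el _ * el _ = 1
        rw [← map_mul, twist_basic.2.1, map_one]), map_one]
    have hx3' : (x : C) ^ 3 = 1 := by
      apply Subtype.ext
      rw [coe_pow, coe_one]
      have := pow_orderOf_eq_one ξ
      rwa [hx3] at this
    have hθx : θ (x : C) ≠ 1 := fun e => by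
      have h : (x : C) ∈ M' := hθker ▸ MonoidHom.mem_ker.2 e
      obtain ⟨k, hk⟩ := D.isPGroup_evens ⟨ξ, mem_subgroupOf.1 h⟩
      exact hxne' (eq_one_odd_two hxodd (congrArg Subtype.val hk))
    have hinv : θ (t * (x : C) * t⁻¹) = θ (x : C)⁻¹ := by
      rw [map_mul, map_mul, map_inv, map_inv]
      exact perm_twist _ _ (by rw [← map_pow, hx3', map_one]) ht2 hθt hθx
    have hm : (t * (x : C) * t⁻¹)⁻¹ * (x : C)⁻¹ ∈ M' := by
      rw [← hθker, MonoidHom.mem_ker, map_mul, map_inv, hinv, inv_mul_cancel]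
    obtain ⟨μ, hμ, hμe⟩ := mem_subgroupOf.1 hm
    have hμe' : el μ = (el ⟨7, 0⟩ * ξ * (el ⟨7, 0⟩)⁻¹)⁻¹ * ξ⁻¹ := hμe
    set τ := el ⟨7, 0⟩
    have hv0 : ev ((⟨7, 0⟩ : T) * om * (⟨7, 0⟩ : T)⁻¹).a = true := by
      have h : ∀ y : T, ev y.a = true → ev ((⟨7, 0⟩ : T) * y * (⟨7, 0⟩ : T)⁻¹).a = true := by decide +kernel
      exact h om hom
    set v0 := (⟨7, 0⟩ : T) * om * (⟨7, 0⟩ : T)⁻¹ with hv0def
    have hev0 : el v0 = τ * el om * τ⁻¹ := by rw [hv0def, map_mul, map_mul, map_inv]
    have hvel : el v = el v0 * (el om)⁻¹ := by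
      rw [hv, hv0def, show (⟨7, 0⟩ : T)⁻¹ = ⟨7, 0⟩ from inv_eq_of_mul_eq_one_right twist_basic.2.1,
        map_mul, map_inv]
    have hcomm0 : τ * ξ * τ⁻¹ * el v0 = el v0 * (τ * ξ * τ⁻¹) := by
      rw [hev0]
      calc τ * ξ * τ⁻¹ * (τ * el om * τ⁻¹) = τ * (ξ * el om) * τ⁻¹ := by group
        _ = τ * (el om * ξ) * τ⁻¹ := by rw [hxw]
        _ = τ * el om * τ⁻¹ * (τ * ξ * τ⁻¹) := by group
    -- so `x` fixes the commutator modulo `z`
    have hfix : ξ⁻¹ * el v0 * ξ = el v0 ∨ ξ⁻¹ * el v0 * ξ = el v0 * el zz := by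
      have he : ξ⁻¹ = τ * ξ * τ⁻¹ * el μ := by rw [hμe']; group
      have hμv : el μ * el v0 * (el μ)⁻¹ = el v0 ∨ el μ * el v0 * (el μ)⁻¹ = el v0 * el zz := by
        rcases evens_rel μ v0 hμ hv0 with e | e
        · exact Or.inl (by rw [← map_inv, ← map_mul, ← map_mul, e])
        · exact Or.inr (by rw [← map_inv, ← map_mul, ← map_mul, e, map_mul])
      have hstep : ξ⁻¹ * el v0 * ξ = τ * ξ * τ⁻¹ * (el μ * el v0 * (el μ)⁻¹) * (τ * ξ * τ⁻¹)⁻¹ := by
        have h2 : ξ⁻¹ * el v0 * (ξ⁻¹)⁻¹ = τ * ξ * τ⁻¹ * (el μ * el v0 * (el μ)⁻¹) * (τ * ξ * τ⁻¹)⁻¹ := by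
          rw [he]; group
        rwa [inv_inv] at h2
      have hzc : τ * ξ * τ⁻¹ * el zz = el zz * (τ * ξ * τ⁻¹) :=
        mem_centralizer_singleton_iff.1 (t * (x : C) * t⁻¹).2
      rcases hμv with e | e
      · exact Or.inl (by rw [hstep, e, hcomm0, mul_inv_cancel_right])
      · refine Or.inr ?_
        rw [hstep, e, ← mul_assoc (τ * ξ * τ⁻¹), hcomm0, mul_assoc (el v0), hzc, ← mul_assoc (el v0),
          mul_inv_cancel_right]
    have hxz : ξ⁻¹ * el zz * ξ = el zz := by
      rw [mul_assoc, ← mem_centralizer_singleton_iff.1 (x : C).2, inv_mul_cancel_left]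
    have hxo : ξ⁻¹ * (el om)⁻¹ * ξ = (el om)⁻¹ := by
      rw [mul_assoc, ← (show Commute ξ (el om) from hxw).inv_right.eq, inv_mul_cancel_left]
    have hv' : ξ⁻¹ * el v * ξ = el v ∨ ξ⁻¹ * el v * ξ = el v * el zz := by
      rw [hvel, show ξ⁻¹ * (el v0 * (el om)⁻¹) * ξ = (ξ⁻¹ * el v0 * ξ) * (ξ⁻¹ * (el om)⁻¹ * ξ) by group, hxo]
      rcases hfix with e | e <;> rw [e]
      · exact Or.inl rfl
      · refine Or.inr ?_
        have hc : Commute (el zz) (el om) := by rw [commute_iff_eq, ← map_mul, ← map_mul, zz_comm]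
        rw [mul_assoc, mul_assoc, hc.inv_right.eq]
    have hsq : Commute (ξ * ξ) (el v) := by
      have h : ξ⁻¹ * (ξ⁻¹ * el v * ξ) * ξ = el v := by
        rcases hv' with e | e
        · rw [e, e]
        · rw [e, show ξ⁻¹ * (el v * el zz) * ξ = (ξ⁻¹ * el v * ξ) * (ξ⁻¹ * el zz * ξ) by group, e, hxz,
            mul_assoc, ← map_mul, twist_basic.2.2.1, map_one, mul_one]
      rw [commute_iff_eq]
      calc ξ * ξ * el v = ξ * ξ * (ξ⁻¹ * (ξ⁻¹ * el v * ξ) * ξ) := by rw [h]
        _ = el v * (ξ * ξ) := by group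
    refine hxne' (hpair ξ (x : C).2 hxodd v.a hv6 ?_)
    rw [← hev]
    have h4 := (hsq.mul_left hsq).eq
    have hp3 : ξ * ξ * ξ = 1 := by
      have := pow_orderOf_eq_one ξ
      rwa [hx3, pow_succ, pow_two] at this
    rwa [show ξ * ξ * (ξ * ξ) = ξ * (ξ * ξ * ξ) by group, hp3, mul_one] at h4
  have hz2 : orderOf (el zz) = 2 := D.order_el (by decide +kernel)
  obtain ⟨sw, sq, L, hlen, hrel, hgen, hcard', hz, hQle⟩ :=
    C192.exists_data (el zz) hz2 C hC M' hM'c M hQdef (Ident.extraspecial D) θ hθs hθker X hCQX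
  obtain ⟨v, hv, hvc⟩ := hfus
  obtain ⟨hvne, hvev⟩ := six_ne v hv
  have hqQ : el ⟨v, 0⟩ ∈ M := mem_map_of_mem el (show (⟨v, 0⟩ : T) ∈ evens from hvev)
  have hqne : el ⟨v, 0⟩ ≠ el zz := fun e => hvne (D.inj e)
  cases sw <;> cases sq
  · exact (Ident.no_zero D hlen hrel hgen hcard' hz).elim
  · exact absurd (C192.T01.no_fusion hz2 hlen hrel hgen hcard' hz (hQle hqQ) hvc) hqne
  · have Lo : C192.K10.Loc10 (el zz) L := ⟨hlen, hrel, hgen, hcard', hz⟩
    rcases C192.K10.classify_fused Lo (C192.K10.fused_class Lo (hQle hqQ) hvc hqne) with h | h | h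
    · obtain ⟨N₀, hN₀, -, hsq, h8, -⟩ := h
      have := Solvable.le_pCore (p := 2) hN₀ (IsPGroup.of_card (n := 3) (by rw [h8]; norm_num))
      rw [D.core2, le_bot_iff] at this
      rw [this, Subgroup.card_bot] at h8
      omega
    · exact Or.inl h
    · exact Or.inr h
  · exact absurd (C192.T11.no_fusion hz2 hlen hrel hgen hcard' hz (hQle hqQ) hvc) hqne

end CfsgLib.A8Rec
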