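import Cfsg.Agent.SylL34.Tools
import Cfsg.Agent.Bender.StructureMain
import Cfsg.Agent.LocalB.OddSignalizer
import Mathlib.GroupTheory.SpecificGroups.KleinFour

/-!
A four group as Sylow 2-subgroup: an invariant subgroup of odd order containing the odd elements
of the centralizers of its involutions lies in the core.
-/

set_option autoImplicit false
set_option linter.unusedSectionVars false
set_option linter.style.haveILetI false

namespace CfsgLib.A8Rec

open Subgroup CfsgLib.SylL34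

universe u

section Proof

variable {K : Type u} [Group K] [Finite K] {P : Sylow 2 K} (hP : IsKleinFour (P : Subgroup K))

include hP

theorem klein_sq {p : K} (hp : p ∈ (P : Subgroup K)) : p * p = 1 :=
  congrArg Subtype.val (IsKleinFour.mul_self (⟨p, hp⟩ : (P : Subgroup K)))

theorem klein_third {p q r : K} (hp : p ∈ (P : Subgroup K)) (hq : q ∈ (P : Subgroup K))
    (hr : r ∈ (P : Subgroup K)) (hp1 : p ≠ 1) (hq1 : q ≠ 1) (hr1 : r ≠ 1) (hpq : p ≠ q)
    (hpr : p ≠ r) (hqr : q ≠ r) : r = p * q := by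
  have h := IsKleinFour.eq_mul_of_ne_all (x := (⟨p, hp⟩ : (P : Subgroup K))) (y := ⟨q, hq⟩)
    (z := ⟨r, hr⟩) (by simpa using hp1) (by simpa using hq1) (by simpa using hpq)
    (by simpa using hr1) (by simpa using hpr.symm) (by simpa using hqr.symm)
  exact congrArg Subtype.val h

omit hP in
theorem odd_sq_mem {g : K} (hg : Odd (orderOf g)) : g ∈ zpowers (g * g) := by
  obtain ⟨m, hm⟩ := exists_pow_eq_self_of_coprime (x := g) (n := 2) (Nat.coprime_two_left.2 hg)
  exact ⟨m, by simpa [sq] using hm⟩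

omit hP in
theorem two_mem_of_norm {g : K} {i : ℕ} (hi : g ^ 2 ^ i = 1)
    (hg : g ∈ normalizer ((P : Subgroup K) : Set K)) : g ∈ (P : Subgroup K) := by
  have hz : IsPGroup 2 (zpowers g) := by
    rintro ⟨x, j, rfl⟩
    refine ⟨i, Subtype.ext ?_⟩
    show (g ^ j) ^ 2 ^ i = 1
    rw [← zpow_natCast, ← zpow_mul, mul_comm, zpow_mul, zpow_natCast, hi, one_zpow]
  have h := P.2.to_sup_of_normal_left' hz (zpowers_le.2 hg)
  rw [← P.3 h le_sup_left]
  exact (le_sup_right : zpowers g ≤ (P : Subgroup K) ⊔ zpowers g) (mem_zpowers g)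

/-- Either the Sylow subgroup is central in its normalizer or the involutions are fused there. -/
theorem fused
    (h : ¬ normalizer ((P : Subgroup K) : Set K) ≤ centralizer ((P : Subgroup K) : Set K))
    {p q : K} (hp : p ∈ (P : Subgroup K)) (hq : q ∈ (P : Subgroup K)) (hp1 : p ≠ 1) (hq1 : q ≠ 1) :
    ∃ g ∈ normalizer ((P : Subgroup K) : Set K), g * p * g⁻¹ = q := by
  obtain ⟨g, hg, hgodd, hgC⟩ : ∃ g ∈ normalizer ((P : Subgroup K) : Set K), Odd (orderOf g) ∧
      g ∉ centralizer ((P : Subgroup K) : Set K) := by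
    by_contra hno
    push Not at hno
    refine h fun g hg => ?_
    obtain ⟨k, m, hm, hk⟩ := Nat.exists_eq_two_pow_mul_odd (orderOf_pos g).ne'
    have ho : Odd (orderOf (g ^ 2 ^ k)) := by
      rw [orderOf_pow' g (pow_ne_zero _ two_ne_zero), hk, Nat.gcd_mul_right_left,
        Nat.mul_div_cancel_left _ (by positivity)]
      exact hm
    have h1 : g ^ m ∈ (P : Subgroup K) := two_mem_of_norm (i := k) (by
      rw [← pow_mul, mul_comm, ← hk, pow_orderOf_eq_one]) (pow_mem hg _)
    have h1' : g ^ m ∈ centralizer ((P : Subgroup K) : Set K) :=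
      mem_centralizer_iff.2 fun x hx => by
        have h2 := klein_sq hP (mul_mem (SetLike.mem_coe.1 hx) h1)
        have hxi := inv_eq_of_mul_eq_one_right (klein_sq hP (SetLike.mem_coe.1 hx))
        have hgi := inv_eq_of_mul_eq_one_right (klein_sq hP h1)
        calc x * g ^ m = (x * g ^ m)⁻¹ := (inv_eq_of_mul_eq_one_right h2).symm
          _ = g ^ m * x := by rw [mul_inv_rev, hgi, hxi]
    have h2 : g ^ 2 ^ k ∈ centralizer ((P : Subgroup K) : Set K) := hno _ (pow_mem hg _) ho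
    have hcop : Nat.Coprime (2 ^ k) m := (Nat.coprime_two_left.2 hm).pow_left k
    obtain ⟨a, b, hab⟩ := Nat.isCoprime_iff_coprime.2 hcop
    have : g = (g ^ 2 ^ k) ^ a * (g ^ m) ^ b := by
      rw [← zpow_natCast, ← zpow_natCast g m, ← zpow_mul, ← zpow_mul, ← zpow_add, mul_comm _ a,
        mul_comm _ b, hab, zpow_one]
    rw [this]
    exact mul_mem (zpow_mem h2 _) (zpow_mem h1' _)
  have hmem : ∀ x ∈ (P : Subgroup K), g * x * g⁻¹ ∈ (P : Subgroup K) :=
    fun x hx => (mem_normalizer_iff.1 hg x).1 hx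
  -- `g` fixes no involution
  have hfix : ∀ r ∈ (P : Subgroup K), r ≠ 1 → g * r * g⁻¹ ≠ r := by
    intro r hr hr1 e
    refine hgC ((zpowers_le.2 (mem_centralizer_iff.2 fun x hx => ?_)) (odd_sq_mem hgodd))
    have key : g * (g * x * g⁻¹) * g⁻¹ = x := by
      by_cases hx1 : x = 1
      · simp [hx1]
      by_cases hxr : x = r
      · simp [hxr, e]
      by_cases hfx : g * x * g⁻¹ = x
      · rw [hfx, hfx]
      have h1 : g * x * g⁻¹ ≠ r := fun e' => hxr (by
        have := e'.trans e.symm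
        simpa using this)
      have h2 : g * x * g⁻¹ ≠ 1 := fun e' => hx1 (conj_eq_one_iff.1 e')
      have h3 := klein_third hP hr hx (hmem x hx) hr1 hx1 h2 (Ne.symm hxr) h1.symm (Ne.symm hfx)
      rw [h3, show g * (r * x) * g⁻¹ = (g * r * g⁻¹) * (g * x * g⁻¹) by group, e, h3, ← mul_assoc,
        klein_sq hP hr, one_mul]
    calc x * (g * g) = (g * (g * x * g⁻¹) * g⁻¹) * (g * g) := by rw [key]
      _ = g * g * x := by group
  by_cases hpq : p = q
  · exact ⟨1, one_mem _, by simp [hpq]⟩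
  by_cases hgq : g * p * g⁻¹ = q
  · exact ⟨g, hg, hgq⟩
  refine ⟨g * g, mul_mem hg hg, ?_⟩
  have hg1 : g * p * g⁻¹ ≠ 1 := fun e => hp1 (conj_eq_one_iff.1 e)
  have hne : g * (g * p * g⁻¹) * g⁻¹ ≠ p := fun e => by
    obtain ⟨m, hm⟩ := odd_sq_mem hgodd
    have hc : g * g ∈ centralizer ({p} : Set K) := mem_centralizer_singleton_iff.2 (by
      calc g * g * p = (g * (g * p * g⁻¹) * g⁻¹) * (g * g) := by group
        _ = p * (g * g) := by rw [e])
    have := mem_centralizer_singleton_iff.1 (zpowers_le.2 hc ⟨m, hm⟩)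
    exact hfix p hp hp1 (by rw [this]; group)
  rw [show g * g * p * (g * g)⁻¹ = g * (g * p * g⁻¹) * g⁻¹ by group,
    klein_third hP hp (hmem p hp) (hmem _ (hmem p hp)) hp1 hg1
      (fun e => hg1 (conj_eq_one_iff.1 e)) (hfix p hp hp1).symm hne.symm
      (hfix _ (hmem p hp) hg1).symm,
    klein_third hP hp (hmem p hp) hq hp1 hg1 hq1 (hfix p hp hp1).symm hpq hgq]

variable {Y : Subgroup K} (hY : Odd (Nat.card Y))
  (hYP : (P : Subgroup K) ≤ normalizer (Y : Set K))
  (hC : ∀ p ∈ (P : Subgroup K), p ≠ 1 → ∀ x : K, x * p = p * x → Odd (orderOf x) → x ∈ Y)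

/-- The odd elements centralizing an involution of the Sylow subgroup. -/
def gens (P : Sylow 2 K) : Set K :=
  {y | Odd (orderOf y) ∧ ∃ p ∈ (P : Subgroup K), p ≠ 1 ∧ y * p = p * y}

omit hP in
theorem norm_gens {g : K} (hg : g ∈ normalizer ((P : Subgroup K) : Set K)) :
    g ∈ normalizer (closure (gens P) : Set K) := by
  refine mem_normalizer_of_conj_mem fun x hx => ?_
  have : (closure (gens P)).map (MulAut.conj g).toMonoidHom ≤ closure (gens P) := by
    rw [MonoidHom.map_closure]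
    refine closure_mono ?_
    rintro _ ⟨y, ⟨hy, p, hp, hp1, hc⟩, rfl⟩
    refine ⟨?_, g * p * g⁻¹, (mem_normalizer_iff.1 hg p).1 hp,
      fun e => hp1 (conj_eq_one_iff.1 e), ?_⟩
    · show Odd (orderOf (MulAut.conj g y))
      rw [MulEquiv.orderOf_eq]
      exact hy
    · show g * y * g⁻¹ * (g * p * g⁻¹) = g * p * g⁻¹ * (g * y * g⁻¹)
      rw [show g * y * g⁻¹ * (g * p * g⁻¹) = g * (y * p) * g⁻¹ by group, hc]
      group
  exact this ⟨x, hx, rfl⟩

include hY hC in
theorem cent_le {p : K} (hp : p ∈ (P : Subgroup K)) (hp1 : p ≠ 1) :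
    centralizer ({p} : Set K) ≤ normalizer (closure (gens P) : Set K) := by
  haveI : Fact (Nat.Prime 2) := ⟨Nat.prime_two⟩
  set C := centralizer ({p} : Set K)
  have hodd : ∀ c : C, Odd (orderOf c) → (c : K) ∈ Y := fun c hc => hC p hp hp1 c
    (mem_centralizer_singleton_iff.1 c.2) (by rwa [orderOf_coe])
  haveI : (Y.subgroupOf C).Normal := ⟨fun x hx c => mem_subgroupOf.2 (hodd _ (by
    rw [← orderOf_coe, coe_mul, coe_mul, coe_inv, ← MulAut.conj_apply,
      show (MulAut.conj (c : K)) (x : K) = (MulAut.conj (c : K)).toMonoidHom x from rfl,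
      orderOf_injective _ (MulAut.conj (c : K)).injective]
    exact hY.of_dvd_nat (orderOf_dvd_natCard Y (mem_subgroupOf.1 hx))))⟩
  have hquot : IsPGroup 2 (C ⧸ Y.subgroupOf C) := by
    intro x
    obtain ⟨c, rfl⟩ := QuotientGroup.mk_surjective x
    obtain ⟨k, m, hm, hk⟩ := Nat.exists_eq_two_pow_mul_odd (orderOf_pos c).ne'
    refine ⟨k, ?_⟩
    rw [← QuotientGroup.mk_pow, QuotientGroup.eq_one_iff, mem_subgroupOf]
    refine hodd _ ?_
    rw [orderOf_pow' c (pow_ne_zero _ two_ne_zero), hk, Nat.gcd_mul_right_left,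
      Nat.mul_div_cancel_left _ (by positivity)]
    exact hm
  have hPC : (P : Subgroup K) ≤ C := fun x hx => mem_centralizer_singleton_iff.2 (by
    have h2 := klein_sq hP (mul_mem hx hp)
    rw [← inv_eq_of_mul_eq_one_right h2, mul_inv_rev,
      inv_eq_of_mul_eq_one_right (klein_sq hP hx), inv_eq_of_mul_eq_one_right (klein_sq hP hp)])
  set J := (normalizer (closure (gens P) : Set K)).subgroupOf C
  have hYJ : Y.subgroupOf C ≤ J := fun c hc => mem_subgroupOf.2 (le_normalizer (subset_closure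
    ⟨hY.of_dvd_nat (orderOf_dvd_natCard Y (mem_subgroupOf.1 hc)), p, hp, hp1,
      mem_centralizer_singleton_iff.1 c.2⟩))
  have hPJ : ((P.subtype hPC : Sylow 2 C) : Subgroup C) ≤ J := fun c hc => by
    rw [Sylow.coe_subtype, mem_subgroupOf] at hc
    exact mem_subgroupOf.2 (norm_gens (le_normalizer hc))
  obtain ⟨i, hi⟩ := hquot.exists_card_eq
  rw [← index_eq_card] at hi
  have h1 := index_dvd_of_le hYJ
  have h2 := index_dvd_of_le hPJ
  rw [hi] at h1
  have hJ : J.index = 1 := by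
    obtain ⟨j, -, hj⟩ := (Nat.dvd_prime_pow Nat.prime_two).1 h1
    rcases j with _ | j
    · simpa using hj
    · exact absurd ((dvd_pow_self 2 j.succ_ne_zero).trans (hj ▸ h2))
        (P.subtype hPC).not_dvd_index
  exact subgroupOf_eq_top.1 (index_eq_one.1 hJ)

include hY hYP hC in
/-- Without odd core the odd part is trivial. -/
theorem klein_trivial (hK : Cfsg.oddCore K = ⊥) : Y = ⊥ := by
  haveI : Fact (Nat.Prime 2) := ⟨Nat.prime_two⟩
  by_cases hN : normalizer ((P : Subgroup K) : Set K) ≤ centralizer ((P : Subgroup K) : Set K)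
  · exact eq_bot_iff.2 fun y hy => hK ▸ (twoNil P hN).2 y (odd_orderOf_of_mem hY hy)
  set Y₀ := closure (gens P)
  have hY₀Y : Y₀ ≤ Y := (closure_le Y).2 fun y ⟨hy, p, hp, hp1, hc⟩ => hC p hp hp1 y hc hy
  have hY₀odd : Odd (Nat.card Y₀) := hY.of_dvd_nat (card_dvd_of_le hY₀Y)
  set H := normalizer (Y₀ : Set K) with hH
  have hNP : normalizer ((P : Subgroup K) : Set K) ≤ H := fun g hg => norm_gens hg
  have hPH : (P : Subgroup K) ≤ H := le_normalizer.trans hNP
  have hP2 : ∀ p ∈ (P : Subgroup K), p ≠ 1 → orderOf p = 2 := fun p hp hp1 =>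
    orderOf_eq_prime (by rw [sq]; exact klein_sq hP hp) hp1
  obtain ⟨u, hu, hu1⟩ : ∃ u ∈ (P : Subgroup K), u ≠ 1 := by
    by_contra h
    push Not at h
    have := IsKleinFour.card_four (G := (P : Subgroup K))
    rw [show (P : Subgroup K) = ⊥ from eq_bot_iff.2 fun x hx => mem_bot.2 (h x hx)] at this
    simp at this
  obtain ⟨v, hv, hv1, huv⟩ : ∃ v ∈ (P : Subgroup K), v ≠ 1 ∧ v ≠ u := by
    obtain ⟨g, hg, hgC⟩ := SetLike.not_le_iff_exists.1 hN
    by_contra h
    push Not at h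
    refine hgC (mem_centralizer_iff.2 fun x hx => ?_)
    by_cases hx1 : x = 1
    · simp [hx1]
    have h1 := h _ ((mem_normalizer_iff.1 hg x).1 hx) fun e => hx1 (conj_eq_one_iff.1 e)
    rw [← h x hx hx1] at h1
    calc x * g = g * x * g⁻¹ * g := by rw [h1]
      _ = g * x := by group
  have hY₀ : Y₀ = ⊥ := by
    by_cases hT : H = ⊤
    · exact eq_bot_iff.2 (hK ▸ le_ocore (normalizer_eq_top_iff.1 hT) hY₀odd)
    have hconj : ∀ t ∈ H, orderOf t = 2 →
        ∃ m ∈ H, m * t * m⁻¹ ∈ (P : Subgroup K) ∧ m * t * m⁻¹ ≠ 1 := by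
      intro t ht ht2
      obtain ⟨m, hm, hmP⟩ := conj_into P hPH ht (Invol.mul_self_eq_one ht2)
      exact ⟨m, hm, hmP, fun e => by simp [conj_eq_one_iff.1 e] at ht2⟩
    have hse : Cfsg.IsStronglyEmbedded H := by
      refine ⟨hT, even_iff_two_dvd.2 ?_, fun g hg => Nat.not_even_iff_odd.1 fun he => hg ?_⟩
      · have h := Subgroup.card_dvd_of_le hPH
        rw [IsKleinFour.card_four] at h
        exact (show 2 ∣ 4 by norm_num).trans h
      obtain ⟨x, hx⟩ := exists_prime_orderOf_dvd_card' 2 (even_iff_two_dvd.1 he)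
      obtain ⟨t, ht, hts⟩ := x.2.2
      have hx2 : orderOf (x : K) = 2 := by rw [orderOf_coe, hx]
      have ht2 : orderOf t = 2 := by
        rw [← hx2, ← hts]
        exact (orderOf_injective _ (MulAut.conj g).injective t).symm
      obtain ⟨a, ha, haP, ha1⟩ := hconj x x.2.1 hx2
      obtain ⟨b, hb, hbP, hb1⟩ := hconj t ht ht2
      obtain ⟨n, hn, hnab⟩ := fused hP hN haP hbP ha1 hb1
      -- `b⁻¹ * n * a` and `g⁻¹` agree up to an element centralizing the involution
      have hts' : g * t * g⁻¹ = (x : K) := hts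
      have hc : g * (b⁻¹ * n * a) ∈ centralizer ({(x : K)} : Set K) :=
        mem_centralizer_singleton_iff.2 (by
          calc g * (b⁻¹ * n * a) * (x : K)
              = g * b⁻¹ * (n * (a * (x : K) * a⁻¹) * n⁻¹) * n * a := by group
            _ = g * b⁻¹ * (b * t * b⁻¹) * n * a := by rw [hnab]
            _ = (g * t * g⁻¹) * (g * (b⁻¹ * n * a)) := by group
            _ = (x : K) * (g * (b⁻¹ * n * a)) := by rw [hts'])
      have hcH : g * (b⁻¹ * n * a) ∈ H := by
        have h1 : a * (g * (b⁻¹ * n * a)) * a⁻¹ ∈ centralizer ({a * x * a⁻¹} : Set K) :=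
          cent_conj.2 (by simpa [mul_assoc] using hc)
        have := mul_mem (mul_mem (inv_mem ha) (cent_le hP hY hC haP ha1 h1)) ha
        rwa [show a⁻¹ * (a * (g * (b⁻¹ * n * a)) * a⁻¹) * a = g * (b⁻¹ * n * a) by group] at this
      have := mul_mem hcH (inv_mem (mul_mem (mul_mem (inv_mem hb) (hNP hn)) ha))
      rwa [mul_inv_cancel_right] at this
    have hpair : Bender.PairRank K := ⟨u, v, hP2 u hu hu1, hP2 v hv hv1, huv.symm, by
      rw [commute_iff_eq, ← inv_eq_of_mul_eq_one_right (klein_sq hP (mul_mem hu hv)), mul_inv_rev,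
        inv_eq_of_mul_eq_one_right (klein_sq hP hu), inv_eq_of_mul_eq_one_right (klein_sq hP hv)]⟩
    obtain ⟨T, hTH, hHT, hT2, htr⟩ := Bender.Consumers.structure_all K H hse hK hpair
    have hPT : (P : Subgroup K) ≤ T := fun p hp =>
      Bender.Consumers.two_mem_of_shape hse hTH hHT htr (hPH hp) (i := 1) (by
        rw [pow_one, sq]; exact klein_sq hP hp)
    obtain rfl : T = (P : Subgroup K) := P.3 hT2 hPT
    refine eq_bot_iff.2 fun y hy => ?_
    have hyH : y ∈ H := le_normalizer hy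
    have hyo : Odd (orderOf y) := odd_orderOf_of_mem hY₀odd hy
    have hcomm : ∀ p ∈ (P : Subgroup K), p * y = y * p := by
      intro p hp
      have h1 : y * p * y⁻¹ * p⁻¹ ∈ (P : Subgroup K) :=
        mul_mem ((mem_normalizer_iff.1 (hHT hyH) p).1 hp) (inv_mem hp)
      have h2 : y * p * y⁻¹ * p⁻¹ ∈ Y₀ := by
        rw [show y * p * y⁻¹ * p⁻¹ = y * (p * y⁻¹ * p⁻¹) by group]
        exact mul_mem hy ((mem_normalizer_iff.1 (hPH hp) y⁻¹).1 (inv_mem hy))
      have h3 := inf_eq_bot_of_odd hY₀odd P.2 h2 h1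
      calc p * y = (y * p * y⁻¹ * p⁻¹) * p * y := by rw [h3, one_mul]
        _ = y * p := by group
    have hycore : y ∈ H.normalCore := by
      intro b
      by_cases hb : b⁻¹ ∈ H
      · exact mul_mem (mul_mem (by simpa using inv_mem hb) hyH) hb
      have hyg : y * b⁻¹ ∉ H := fun h => hb (by simpa using mul_mem (inv_mem hyH) h)
      obtain ⟨w, hw, hw'⟩ := htr _ _ hb hyg
      -- `z` fixes the coset of `b⁻¹`
      have hz : b * (w⁻¹ * y) * b⁻¹ ∈ H := by
        have := inv_mem hw'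
        rwa [show ((y * b⁻¹)⁻¹ * (w * b⁻¹))⁻¹ = b * (w⁻¹ * y) * b⁻¹ by group] at this
      have hw1 : w = 1 := by
        refine Bender.Consumers.shape_free hse hTH hT2 hb hw ?_
        have hk := pow_mem hz (orderOf y)
        have hwi := inv_eq_of_mul_eq_one_right (klein_sq hP hw)
        rw [← MulAut.conj_apply, ← map_pow, (show Commute w⁻¹ y from
          (show Commute w y from hcomm w hw).inv_left).mul_pow, pow_orderOf_eq_one, mul_one,
          MulAut.conj_apply, hwi] at hk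
        obtain ⟨j, hj⟩ := hyo
        rw [hj, pow_succ, pow_mul, sq, klein_sq hP hw, one_pow, one_mul] at hk
        rwa [inv_inv, ← mul_assoc]
      simpa [hw1] using hz
    have hcore : Odd (Nat.card H.normalCore) := by
      refine Nat.not_even_iff_odd.1 fun he => ?_
      obtain ⟨x, hx⟩ := exists_prime_orderOf_dvd_card' 2 (even_iff_two_dvd.1 he)
      obtain ⟨g, hgH⟩ := SetLike.not_le_iff_exists.1 (show ¬ (⊤ : Subgroup K) ≤ H from
        fun h => hT (top_le_iff.1 h))
      have hx2 : orderOf (x : K) = 2 := by rw [orderOf_coe, hx]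
      obtain ⟨m, -, hmP, hm1⟩ := hconj x (H.normalCore_le x.2) hx2
      refine hm1 (Bender.Consumers.shape_free hse hTH hT2 hgH.2 hmP ?_)
      have := H.normalCore_normal.conj_mem _ x.2 (g⁻¹ * m)
      have := H.normalCore_le this
      simpa [mul_assoc] using this
    exact hK ▸ le_ocore H.normalCore_normal hcore hycore
  -- each involution inverts `Y`
  have hinv : ∀ p ∈ (P : Subgroup K), p ≠ 1 → ∀ y ∈ Y, p * y * p⁻¹ = y⁻¹ := by
    intro p hp hp1
    have hpY : ∀ a ∈ Y, p * a * p⁻¹ ∈ Y := fun a ha => (mem_normalizer_iff.1 (hYP hp) a).1 ha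
    let f : Y → Y := fun a => ⟨(a : K)⁻¹ * (p * a * p⁻¹), mul_mem (inv_mem a.2) (hpY a a.2)⟩
    have hf : Function.Injective f := by
      rintro ⟨a, ha⟩ ⟨b, hb⟩ h
      have h' : a⁻¹ * (p * a * p⁻¹) = b⁻¹ * (p * b * p⁻¹) := congrArg Subtype.val h
      have hc : b * a⁻¹ * p = p * (b * a⁻¹) := by
        calc b * a⁻¹ * p = b * (a⁻¹ * (p * a * p⁻¹)) * p * a⁻¹ := by group
          _ = b * (b⁻¹ * (p * b * p⁻¹)) * p * a⁻¹ := by rw [h']
          _ = p * (b * a⁻¹) := by group
      have hmem : b * a⁻¹ ∈ Y₀ := subset_closure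
        ⟨odd_orderOf_of_mem hY (mul_mem hb (inv_mem ha)), p, hp, hp1, hc⟩
      rw [hY₀, mem_bot] at hmem
      exact Subtype.ext (mul_inv_eq_one.1 hmem).symm
    intro y hy
    obtain ⟨⟨a, ha⟩, hay⟩ := (Finite.injective_iff_surjective.1 hf) ⟨y, hy⟩
    have hay' : a⁻¹ * (p * a * p⁻¹) = y := congrArg Subtype.val hay
    rw [← hay']
    calc p * (a⁻¹ * (p * a * p⁻¹)) * p⁻¹ = p * a⁻¹ * p * a * (p * p)⁻¹ := by group
      _ = p * a⁻¹ * p⁻¹ * a := by
        rw [klein_sq hP hp, inv_one, mul_one, inv_eq_of_mul_eq_one_right (klein_sq hP hp)]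
      _ = (a⁻¹ * (p * a * p⁻¹))⁻¹ := by group
  refine eq_bot_iff.2 fun y hy => mem_bot.2 ?_
  have huv1 : u * v ≠ 1 := fun h => huv.symm (by
    rw [← inv_inv u, inv_eq_of_mul_eq_one_right h, inv_eq_of_mul_eq_one_right (klein_sq hP hv)])
  have h1 := hinv (u * v) (mul_mem hu hv) huv1 y hy
  rw [show u * v * y * (u * v)⁻¹ = u * (v * y * v⁻¹) * u⁻¹ by group, hinv v hv hv1 y hy,
    hinv u hu hu1 _ (inv_mem hy), inv_inv] at h1
  exact eq_one_of_sq_odd (mul_eq_one_iff_eq_inv.2 h1)
    (odd_orderOf_of_mem hY hy)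

include hY hYP hC in
/-- The odd part lies in the core, with the Sylow subgroup implicit. -/
theorem klein_core_aux : Y ≤ Cfsg.oddCore K := by
  haveI : Fact (Nat.Prime 2) := ⟨Nat.prime_two⟩
  haveI : (Cfsg.oddCore K).Normal := ocore_normal
  set f := QuotientGroup.mk' (Cfsg.oddCore K)
  have hsurj : Function.Surjective f := QuotientGroup.mk'_surjective _
  have hinj : ∀ p ∈ (P : Subgroup K), f p = 1 → p = 1 := fun p hp h =>
    inf_eq_bot_of_odd ocore_odd P.2 ((QuotientGroup.eq_one_iff p).1 h) hp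
  let e : (P : Subgroup K) ≃* ((P.mapSurjective hsurj : Sylow 2 _) : Subgroup (K ⧸ Cfsg.oddCore K)) :=
    (MulEquiv.ofBijective ((f.comp (P : Subgroup K).subtype).codRestrict ((P : Subgroup K).map f)
      (fun x => mem_map_of_mem f x.2))
      ⟨fun x y hxy => by
          have h' : f x = f y := congrArg Subtype.val hxy
          exact Subtype.ext (mul_inv_eq_one.1 (hinj _ (mul_mem x.2 (inv_mem y.2))
            (by rw [map_mul, map_inv, h', mul_inv_cancel]))),
        fun ⟨_, x, hx, rfl⟩ => ⟨⟨x, hx⟩, rfl⟩⟩).trans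
      (MulEquiv.subgroupCongr (Sylow.coe_mapSurjective hsurj P).symm)
  have hP' : IsKleinFour ((P.mapSurjective hsurj : Sylow 2 _) : Subgroup (K ⧸ Cfsg.oddCore K)) :=
    ⟨by rw [← Nat.card_congr e.toEquiv, IsKleinFour.card_four],
      by rw [← Monoid.exponent_eq_of_mulEquiv e, IsKleinFour.exponent_two]⟩
  have h := klein_trivial hP' (Y := Y.map f)
    (hY.of_dvd_nat (card_map_dvd Y f)) ?_ ?_ LocalB.oddCore_quotient
  · intro y hy
    rw [← QuotientGroup.eq_one_iff, ← mem_bot, ← h]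
    exact mem_map_of_mem f hy
  · rw [Sylow.coe_mapSurjective]
    exact (map_mono hYP).trans (le_normalizer_map f)
  · intro pb hpb hp1 xb hcomm hxo
    rw [Sylow.coe_mapSurjective] at hpb
    obtain ⟨p, hp, rfl⟩ := hpb
    obtain ⟨x, rfl⟩ := hsurj xb
    have hpne : p ≠ 1 := fun h => hp1 (by rw [h, map_one])
    have hp2 : orderOf p = 2 := orderOf_eq_prime (by rw [sq]; exact klein_sq hP hp) hpne
    have hmem : x * p * x⁻¹ * p ∈ Cfsg.oddCore K := (QuotientGroup.eq_one_iff _).1 (by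
      show f (x * p * x⁻¹ * p) = 1
      rw [map_mul, map_mul, map_mul, map_inv, hcomm, mul_inv_cancel_right, ← map_mul,
        klein_sq hP hp, map_one])
    obtain ⟨o, ho, hox⟩ := exists_conj_mod ocore_odd hp2
      (x := x * p * x⁻¹) (by rw [← MulAut.conj_apply, MulEquiv.orderOf_eq]; exact hp2) hmem
    have hc : o⁻¹ * x * p = p * (o⁻¹ * x) := by
      calc o⁻¹ * x * p = o⁻¹ * (x * p * x⁻¹) * x := by group
        _ = o⁻¹ * (o * p * o⁻¹) * x := by rw [hox]
        _ = p * (o⁻¹ * x) := by group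
    have hfc : f (o⁻¹ * x) = f x := by
      rw [map_mul, map_inv, show f o = 1 from (QuotientGroup.eq_one_iff o).2 ho, inv_one, one_mul]
    obtain ⟨k, m, hm, hk⟩ := Nat.exists_eq_two_pow_mul_odd (orderOf_pos (o⁻¹ * x)).ne'
    have hco : Odd (orderOf ((o⁻¹ * x) ^ 2 ^ k)) := by
      rw [orderOf_pow' _ (pow_ne_zero _ two_ne_zero), hk, Nat.gcd_mul_right_left,
        Nat.mul_div_cancel_left _ (by positivity)]
      exact hm
    obtain ⟨j, hj⟩ := exists_pow_eq_self_of_coprime (x := f x) (n := 2 ^ k)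
      ((Nat.coprime_two_left.2 hxo).pow_left k)
    refine ⟨((o⁻¹ * x) ^ 2 ^ k) ^ j, pow_mem (hC p hp hpne _ ?_ hco) j, ?_⟩
    · exact (show Commute (o⁻¹ * x) p from hc).pow_left _
    · rw [map_pow, map_pow, hfc, hj]

end Proof

/-- A four group as Sylow 2-subgroup: an invariant subgroup of odd order containing the odd elements
of the centralizers of its involutions lies in the core. -/
theorem klein_core {K : Type*} [Group K] [Finite K] (P : Sylow 2 K) (hP : IsKleinFour (P : Subgroup K))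
    {Y : Subgroup K} (hY : Odd (Nat.card Y)) (hYP : (P : Subgroup K) ≤ Subgroup.normalizer (Y : Set K))
    (hC : ∀ p ∈ (P : Subgroup K), p ≠ 1 → ∀ x : K, x * p = p * x → Odd (orderOf x) → x ∈ Y) :
    Y ≤ Cfsg.oddCore K :=
  klein_core_aux hP hY hYP hC

end CfsgLib.A8Rec
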