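import Cfsg.Agent.A8Rec.Central
import Cfsg.Agent.A8Three.Local

/-!
Odd subgroups of the centralizer of the central involution.
-/

set_option autoImplicit false
set_option linter.unusedSectionVars false
set_option linter.style.haveILetI false
set_option maxRecDepth 100000

namespace CfsgLib.A8Rec

open Subgroup CfsgLib.SylL34
open CfsgLib.A8Three

theorem cent_M : ∀ x : T, (∀ y : T, ev y.a = true → x * y = y * x) → x = 1 ∨ x = zz := by decide +kernel

theorem evens_rel : ∀ u x : T, ev u.a = true → ev x.a = true → u * x * u⁻¹ = x ∨ u * x * u⁻¹ = x * zz := by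
  decide +kernel

theorem evens_sq : ∀ x : T, ev x.a = true → x * x * (x * x) = 1 := by decide +kernel

theorem cent_base_odd : ∀ f : Fin 16, ev f = false → ∀ x : T, x * ⟨f, 0⟩ = ⟨f, 0⟩ * x → x.p = 0 := by
  decide +kernel

theorem four_cover : ∀ e : Fin 16, six e = true → ∀ v c : Fin 16, ev v = true → v ≠ e → v ≠ e ^^^ 15 → v ≠ 0 →
    v ≠ 15 → ev c = true → c ≠ 0 → c ≠ e → c ≠ 15 → c ≠ e ^^^ 15 →
    c ^^^ v = 0 ∨ c ^^^ v = e ∨ c ^^^ v = 15 ∨ c ^^^ v = e ^^^ 15 := by decide +kernel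

theorem self_V0 : ∀ x : T, ev x.a = true → (∀ v : T, v.p = 0 → ev v.a = true → x * v = v * x) → x.p = 0 := by
  decide +kernel

/-- An element of a normalizer of an odd subgroup and an element of an odd subgroup it normalises. -/
theorem comm_mem_odd {G : Type*} [Group G] {H : Subgroup G} {n u : G} (hn : n ∈ H)
    (hu : u ∈ normalizer (H : Set G)) : n * u * n⁻¹ * u⁻¹ ∈ H := by
  rw [show n * u * n⁻¹ * u⁻¹ = n * (u * n⁻¹ * u⁻¹) by group]
  exact mul_mem hn (conj_mem_of_normalizer hu (inv_mem hn))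

variable {G : Type*} [Group G] [Finite G] {S : Sylow 2 G} {el : T →* G}

namespace Rec

variable (D : Rec S el)
include D

theorem isPGroup_evens : IsPGroup 2 (evens.map el) :=
  S.2.to_le (by rintro _ ⟨x, -, rfl⟩; exact D.mem_S x)

theorem el_mem_evens {x : T} : el x ∈ evens.map el ↔ ev x.a = true :=
  ⟨fun ⟨y, hy, e⟩ => D.inj e ▸ hy, fun h => mem_map_of_mem el h⟩

/-- Odd elements normalising the even part and centralizing it lie in the core. -/
theorem odd_cent_M {n : G} (hn : n ∈ centralizer ({el zz} : Set G)) (ho : Odd (orderOf n))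
    (hM : ∀ x : T, ev x.a = true → n * el x = el x * n) : n ∈ Oc (el zz) := by
  haveI : Fact (Nat.Prime 2) := ⟨Nat.prime_two⟩
  set C := centralizer ({el zz} : Set G)
  set M := evens.map el
  set X := C ⊓ centralizer (M : Set G)
  have hzX : zpowers (el zz) ≤ X := zpowers_le.2 ⟨mem_centralizer_singleton_iff.2 rfl,
    mem_centralizer_iff.2 fun m hm => by
      obtain ⟨x, -, rfl⟩ := hm
      rw [← map_mul, ← map_mul, zz_comm]⟩
  obtain ⟨-, h2⟩ := twoNil_sub hzX
    (isPGroup_zpowers_of (g := el zz) (k := 1) (by rw [pow_one, sq, ← map_mul, zz_sq, map_one]))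
    (fun R hR _ hRX r hr => by
      set N := C ⊓ normalizer (M : Set G)
      have hSN : (S : Subgroup G) ≤ N := le_inf D.S_cent D.S_evens
      have hrN : r ∈ N := ⟨(mem_inf.1 (hRX hr)).1, centralizer_le_normalizer _ (mem_inf.1 (hRX hr)).2⟩
      obtain ⟨c, hc⟩ := exists_cj_le (S.subtype hSN) (P := R.subgroupOf N) hR.comap_subtype
      have hm := hc ((conj_mem_cj (g := c)).2 (show (⟨r, hrN⟩ : N) ∈ R.subgroupOf N from hr))
      rw [Sylow.coe_subtype, mem_subgroupOf] at hm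
      obtain ⟨x, hx⟩ := D.exists_el hm
      have hx' : el x = (c : G) * r * (c : G)⁻¹ := hx
      have hxc := cent_M x fun y hy => D.inj (by
        rw [map_mul, map_mul, hx']
        have hy' := conj_mem_of_normalizer (inv_mem (mem_inf.1 c.2).2) (mem_map_of_mem el (show y ∈ evens from hy))
        rw [inv_inv] at hy'
        have h1 := mem_centralizer_iff.1 (mem_inf.1 (hRX hr)).2 _ hy'
        calc (c : G) * r * (c : G)⁻¹ * el y = c * (r * ((c : G)⁻¹ * el y * c)) * (c : G)⁻¹ := by group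
          _ = c * ((c : G)⁻¹ * el y * c * r) * (c : G)⁻¹ := by rw [h1]
          _ = el y * (c * r * (c : G)⁻¹) := by group)
      rw [show r = (c : G)⁻¹ * el x * c by rw [hx']; group]
      rcases hxc with rfl | rfl
      · simp
      · rw [mul_assoc, ← mem_centralizer_singleton_iff.1 (mem_inf.1 c.2).1, inv_mul_cancel_left]
        exact mem_zpowers _)
    (fun g hg _ p hp => by
      obtain ⟨i, rfl⟩ := mem_zpowers_iff.1 hp
      exact ((show Commute g (el zz) from mem_centralizer_singleton_iff.1 (mem_inf.1 hg).1).zpow_right i).eq)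
  have hnX : n ∈ X := ⟨hn, mem_centralizer_iff.2 fun m hm => by
    obtain ⟨x, hx, rfl⟩ := hm; exact (hM x hx).symm⟩
  refine le_Oc_of_mod (N := LocalBalance.core 2 X) ((LocalBalance.core_le _).trans inf_le_left) (core_odd X)
    (fun g hg => ?_) (h2 n hnX ho)
  obtain ⟨o, hoO, m, hmC, hmM, rfl⟩ := D.cent_split g hg
  refine ⟨o, hoO, m, LocalBalance.normalizer_le_normalizer_core X ?_, mem_centralizer_singleton_iff.1 hmC, rfl⟩
  exact inf_normalizer_le_normalizer_inf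
    ⟨le_normalizer hmC, LocalBalance.normalizer_le_normalizer_centralizer M hmM⟩

/-- Odd elements normalising the even part and centralizing a self-centralizing subgroup of it. -/
theorem odd_self {U : Subgroup T} (hUM : U ≤ evens)
    (hUs : ∀ x : T, ev x.a = true → (∀ u ∈ U, x * u = u * x) → x ∈ U)
    {n : G} (hn : n ∈ centralizer ({el zz} : Set G)) (ho : Odd (orderOf n))
    (hnM : n ∈ normalizer (evens.map el : Set G)) (hnU : ∀ u ∈ U, n * el u = el u * n) :
    n ∈ Oc (el zz) := by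
  refine D.odd_cent_M hn ho fun x hx => ?_
  have hz : n * el zz = el zz * n := mem_centralizer_singleton_iff.1 hn
  obtain ⟨y, hy, hye⟩ := conj_mem_of_normalizer hnM (D.el_mem_evens.2 hx)
  have hye' : el y = n * el x * n⁻¹ := hye
  have hdU : y * x⁻¹ ∈ U := hUs _ (mem_evens.1 (mul_mem (show y ∈ evens from hy)
    (inv_mem (show x ∈ evens from hx)))) fun u hu => D.inj (by
    have hnu : n * el u * n⁻¹ = el u := by rw [hnU u hu, mul_inv_cancel_right]
    rcases evens_rel u x (hUM hu) hx with e | e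
    all_goals
      have h1 : el u * el x * (el u)⁻¹ = el (u * x * u⁻¹) := by simp
      rw [e] at h1
      have h2 : el u * el y * (el u)⁻¹ = n * (el u * el x * (el u)⁻¹) * n⁻¹ := by
        rw [hye']
        nth_rw 1 [← hnu]
        nth_rw 2 [← hnu]
        group
      rw [h1] at h2
      simp only [map_mul, map_inv]
    · rw [← hye'] at h2
      have c1 : Commute (el y) (el u) := (mul_inv_eq_iff_eq_mul.1 h2).symm
      have c2 : Commute (el x) (el u) := (mul_inv_eq_iff_eq_mul.1 h1).symm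
      exact (c1.mul_left c2.inv_left).eq
    · rw [map_mul] at h1 h2
      have h3 : el u * el y * (el u)⁻¹ = el y * el zz := by
        rw [h2, hye']
        calc n * (el x * el zz) * n⁻¹ = n * el x * n⁻¹ * (n * el zz * n⁻¹) := by group
          _ = _ := by rw [hz, mul_inv_cancel_right]
      have h4 : el u * (el y * (el x)⁻¹) * (el u)⁻¹ = el y * (el x)⁻¹ := by
        calc el u * (el y * (el x)⁻¹) * (el u)⁻¹ = (el u * el y * (el u)⁻¹) * (el u * el x * (el u)⁻¹)⁻¹ := by group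
          _ = el y * (el zz * (el zz)⁻¹) * (el x)⁻¹ := by rw [h3, h1]; group
          _ = _ := by rw [mul_inv_cancel, mul_one]
      exact (mul_inv_eq_iff_eq_mul.1 h4).symm)
  set d := el (y * x⁻¹)
  have hnd : n * d * n⁻¹ = d := by rw [hnU _ hdU, mul_inv_cancel_right]
  have hnx : n * el x * n⁻¹ = d * el x := by simp [d, hye']
  have hk : ∀ k : ℕ, n ^ k * el x * (n ^ k)⁻¹ = d ^ k * el x := by
    intro k
    induction k with
    | zero => simp
    | succ k ih =>
      rw [pow_succ' n, show n * n ^ k * el x * (n * n ^ k)⁻¹ = n * (n ^ k * el x * (n ^ k)⁻¹) * n⁻¹ by group, ih,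
        show n * (d ^ k * el x) * n⁻¹ = (n * d * n⁻¹) ^ k * (n * el x * n⁻¹) by rw [conj_pow]; group, hnd, hnx,
        ← mul_assoc, ← pow_succ]
  have h1 := hk (orderOf n)
  rw [pow_orderOf_eq_one, one_mul, inv_one, mul_one, eq_comm, mul_eq_right] at h1
  have h4 : d ^ 2 ^ 2 = 1 := by
    rw [show d ^ 2 ^ 2 = d * d * (d * d) by simp [pow_succ, mul_assoc]]
    simp only [d, ← map_mul, evens_sq _ (hUM hdU), map_one]
  have hd : d = 1 := eq_one_odd_two (ho.of_dvd_nat (orderOf_dvd_of_pow_eq_one h1)) h4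
  rw [hd, one_mul] at hnx
  exact mul_inv_eq_iff_eq_mul.1 hnx

/-- An odd subgroup of `C` normalised by a self-centralizing subgroup of the even part lies in the core. -/
theorem le_of_self {U : Subgroup T} (hUM : U ≤ evens)
    (hUs : ∀ x : T, ev x.a = true → (∀ u ∈ U, x * u = u * x) → x ∈ U)
    {X : Subgroup G} (hXC : X ≤ centralizer ({el zz} : Set G)) (hodd : Odd (Nat.card X))
    (hXU : ∀ u ∈ U, el u ∈ normalizer (X : Set G)) : X ≤ Oc (el zz) := by
  have hXO : X ≤ normalizer (Oc (el zz) : Set G) := hXC.trans (cent_le_normalizer_Oc _)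
  have hoddH : Odd (Nat.card (Oc (el zz) ⊔ X : Subgroup G)) := by
    rw [sup_comm]
    exact Odd.of_dvd_nat (hodd.mul (Oc_odd _)) (Solvable.card_sup_dvd hXO)
  intro d hd
  obtain ⟨o, ho, n, hn, hnM, rfl⟩ := D.cent_split d (hXC hd)
  set H := Oc (el zz) ⊔ X
  have hnH : n ∈ H := by
    have := mul_mem (inv_mem (mem_sup_left ho : o ∈ H)) (mem_sup_right hd)
    rwa [inv_mul_cancel_left] at this
  refine mul_mem ho (D.odd_self hUM hUs hn (odd_orderOf_of_mem hoddH hnH) hnM fun u hu => ?_)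
  have huH : el u ∈ normalizer (H : Set G) :=
    join_normalized (cent_le_normalizer_Oc _ (D.S_cent (D.mem_S u))) (hXU u hu)
  exact mul_inv_eq_iff_eq_mul.1 (mul_inv_eq_one.1 (inf_eq_bot_of_odd hoddH D.isPGroup_evens (comm_mem_odd hnH huH)
    (mul_mem (conj_mem_of_normalizer hnM (D.el_mem_evens.2 (hUM hu))) (inv_mem (D.el_mem_evens.2 (hUM hu))))))

theorem base_evens_self : ∀ x : T, ev x.a = true → (∀ u ∈ base ⊓ evens, x * u = u * x) → x ∈ base ⊓ evens :=
  fun x hx h => ⟨self_V0 x hx fun v hv hv' => h v ⟨hv, hv'⟩, hx⟩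

/-- An odd element preserving the even base and fixing a pair centralizes the even part. -/
theorem odd_pair {e : Fin 16} (he : six e = true) {n : G} (hn : n ∈ centralizer ({el zz} : Set G))
    (ho : Odd (orderOf n)) (hnM : n ∈ normalizer (evens.map el : Set G))
    (hne : n * el ⟨e, 0⟩ = el ⟨e, 0⟩ * n)
    (hV : ∀ v : Fin 16, ev v = true → ∃ c : Fin 16, ev c = true ∧ n * el ⟨v, 0⟩ * n⁻¹ = el ⟨c, 0⟩) :
    n ∈ Oc (el zz) := by
  refine D.odd_self (U := base ⊓ evens) inf_le_right D.base_evens_self hn ho hnM ?_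
  rintro ⟨v, p⟩ ⟨hp, hv⟩
  obtain rfl : p = 0 := hp
  refine mul_inv_eq_iff_eq_mul.1 ?_
  change ev v = true at hv
  have hfix : ∀ t, t = 0 ∨ t = e ∨ t = 15 ∨ t = e ^^^ 15 → n * el ⟨t, 0⟩ * n⁻¹ = el ⟨t, 0⟩ := by
    have hz : n * el zz * n⁻¹ = el zz := by rw [mem_centralizer_singleton_iff.1 hn, mul_inv_cancel_right]
    have he' : n * el ⟨e, 0⟩ * n⁻¹ = el ⟨e, 0⟩ := by rw [hne, mul_inv_cancel_right]
    rintro t (rfl | rfl | rfl | rfl)
    · rw [show (⟨0, 0⟩ : T) = 1 from rfl, map_one, mul_one, mul_inv_cancel]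
    · exact he'
    · exact hz
    · rw [← vec_mul, map_mul, show (⟨15, 0⟩ : T) = zz from rfl]
      calc n * (el ⟨e, 0⟩ * el zz) * n⁻¹ = n * el ⟨e, 0⟩ * n⁻¹ * (n * el zz * n⁻¹) := by group
        _ = _ := by rw [he', hz]
  by_cases h : v = 0 ∨ v = e ∨ v = 15 ∨ v = e ^^^ 15
  · exact hfix v h
  push Not at h
  obtain ⟨h0, hve, h15, hve'⟩ := h
  obtain ⟨c, hc, hcv⟩ := hV v hv
  have hback : ∀ t, (t = 0 ∨ t = e ∨ t = 15 ∨ t = e ^^^ 15) → c ≠ t := by
    intro t ht hct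
    subst hct
    have h1 : n * el ⟨v, 0⟩ * n⁻¹ = n * el ⟨c, 0⟩ * n⁻¹ := hcv.trans (hfix c ht).symm
    obtain rfl := D.vec_inj (mul_left_cancel (mul_right_cancel h1))
    rcases ht with e1 | e1 | e1 | e1
    exacts [h0 e1, hve e1, h15 e1, hve' e1]
  have hcases := four_cover e he v c hv hve hve' h0 h15 hc (hback 0 (by simp)) (hback e (by simp))
    (hback 15 (by simp)) (hback (e ^^^ 15) (by simp))
  set d := c ^^^ v
  have hnd : n * el ⟨d, 0⟩ * n⁻¹ = el ⟨d, 0⟩ := hfix d hcases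
  have hstep : n * el ⟨v, 0⟩ * n⁻¹ = el ⟨d, 0⟩ * el ⟨v, 0⟩ := by
    rw [hcv, ← map_mul, vec_mul, xor16_assoc]
    congr 2
    have h2 : ∀ c v : Fin 16, c = c ^^^ (v ^^^ v) := by decide +kernel
    exact h2 c v
  have hk : ∀ k : ℕ, n ^ k * el ⟨v, 0⟩ * (n ^ k)⁻¹ = el ⟨d, 0⟩ ^ k * el ⟨v, 0⟩ := by
    intro k
    induction k with
    | zero => simp
    | succ k ih =>
      rw [pow_succ' n, show n * n ^ k * el ⟨v, 0⟩ * (n * n ^ k)⁻¹ = n * (n ^ k * el ⟨v, 0⟩ * (n ^ k)⁻¹) * n⁻¹ by group,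
        ih, show n * (el ⟨d, 0⟩ ^ k * el ⟨v, 0⟩) * n⁻¹ = (n * el ⟨d, 0⟩ * n⁻¹) ^ k * (n * el ⟨v, 0⟩ * n⁻¹) by
          rw [conj_pow]; group, hnd, hstep, ← mul_assoc, ← pow_succ]
  have h1 := hk (orderOf n)
  rw [pow_orderOf_eq_one, one_mul, inv_one, mul_one, eq_comm, mul_eq_right] at h1
  have hd1 : el ⟨d, 0⟩ = 1 :=
    eq_one_of_sq_odd (D.base_sq _ (D.mem_A d)) (ho.of_dvd_nat (orderOf_dvd_of_pow_eq_one h1))
  rw [hd1, one_mul] at hstep
  exact hstep

/-- An odd element of `C` centralizing an odd vector and a pair lies in the core. -/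
theorem odd_vec_pair {e f : Fin 16} (he : six e = true) (hf : ev f = false) {g : G}
    (hg : g ∈ centralizer ({el zz} : Set G)) (ho : Odd (orderOf g)) (hge : g * el ⟨e, 0⟩ = el ⟨e, 0⟩ * g)
    (hgf : g * el ⟨f, 0⟩ = el ⟨f, 0⟩ * g) : g ∈ Oc (el zz) := by
  obtain ⟨o, hoO, n, hn, hnM, rfl⟩ := D.cent_split g hg
  set O := Oc (el zz)
  have hgX : zpowers (o * n) ≤ normalizer (O : Set G) := zpowers_le.2 (cent_le_normalizer_Oc _ hg)
  have hoddH : Odd (Nat.card (O ⊔ zpowers (o * n) : Subgroup G)) := by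
    rw [sup_comm]
    refine Odd.of_dvd_nat ((show Odd (Nat.card (zpowers (o * n))) from ?_).mul (Oc_odd _)) (Solvable.card_sup_dvd hgX)
    rw [Nat.card_zpowers]; exact ho
  have hno : Odd (orderOf n) := by
    refine odd_orderOf_of_mem hoddH ?_
    have := mul_mem (inv_mem (mem_sup_left hoO : o ∈ O ⊔ zpowers (o * n)))
      (mem_sup_right (mem_zpowers (o * n)) : o * n ∈ O ⊔ zpowers (o * n))
    rwa [inv_mul_cancel_left] at this
  refine mul_mem hoO (D.odd_pair he hn hno hnM ?_ fun v hv => ?_)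
  · -- the pair lies in the even part
    have heM : el ⟨e, 0⟩ ∈ evens.map el := D.el_mem_evens.2 (by
      have : ∀ e : Fin 16, six e = true → ev e = true := by decide +kernel
      exact this e he)
    have h1 : n * el ⟨e, 0⟩ * n⁻¹ * (el ⟨e, 0⟩)⁻¹ ∈ O := by
      rw [show n * el ⟨e, 0⟩ * n⁻¹ * (el ⟨e, 0⟩)⁻¹ = o⁻¹ * (o * n * el ⟨e, 0⟩) * n⁻¹ * (el ⟨e, 0⟩)⁻¹ by group, hge,
        show o⁻¹ * (el ⟨e, 0⟩ * (o * n)) * n⁻¹ * (el ⟨e, 0⟩)⁻¹ = o⁻¹ * (el ⟨e, 0⟩ * o * (el ⟨e, 0⟩)⁻¹) by group]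
      exact mul_mem (inv_mem hoO) (conj_mem_of_normalizer (cent_le_normalizer_Oc _ (D.A_cent (D.mem_A e))) hoO)
    exact mul_inv_eq_iff_eq_mul.1 (mul_inv_eq_one.1 (inf_eq_bot_of_odd (Oc_odd _) D.isPGroup_evens h1
      (mul_mem (conj_mem_of_normalizer hnM heM) (inv_mem heM))))
  · set w := el ⟨f, 0⟩
    have hwM : w ∈ normalizer (evens.map el : Set G) := D.S_evens (D.mem_S _)
    have hc1 : w⁻¹ * (n * w * n⁻¹) ∈ O := by
      rw [show w⁻¹ * (n * w * n⁻¹) = w⁻¹ * o⁻¹ * (o * n * w) * n⁻¹ by group, hgf,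
        show w⁻¹ * o⁻¹ * (w * (o * n)) * n⁻¹ = w⁻¹ * o⁻¹ * w * o by group]
      refine mul_mem ?_ hoO
      have := conj_mem_of_normalizer (inv_mem (cent_le_normalizer_Oc _ (D.A_cent (D.mem_A f)))) (inv_mem hoO)
      simpa using this
    have hc2 : w⁻¹ * (n * w * n⁻¹) ∈ normalizer (evens.map el : Set G) :=
      mul_mem (inv_mem hwM) (mul_mem (mul_mem hnM hwM) (inv_mem hnM))
    set cc := w⁻¹ * (n * w * n⁻¹)
    have hfix : ∀ y ∈ evens.map el, cc * y * cc⁻¹ = y := fun y hy => mul_inv_eq_one.1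
      (inf_eq_bot_of_odd (Oc_odd _) D.isPGroup_evens (comm_mem_odd hc1 (cent_le_normalizer_Oc _ (D.S_cent (by
        obtain ⟨x, -, rfl⟩ := hy; exact D.mem_S x)))) (mul_mem (conj_mem_of_normalizer hc2 hy) (inv_mem hy)))
    obtain ⟨y, hy, hye⟩ := conj_mem_of_normalizer hnM (D.el_mem_evens.2 (show ev (⟨v, 0⟩ : T).a = true from hv))
    have hy' : el y = n * el ⟨v, 0⟩ * n⁻¹ := hye
    have hcom : el y * w = w * el y := by
      have h2 : (n * w * n⁻¹) * el y = el y * (n * w * n⁻¹) := by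
        rw [hy', show n * w * n⁻¹ * (n * el ⟨v, 0⟩ * n⁻¹) = n * (w * el ⟨v, 0⟩) * n⁻¹ by group,
          D.base_comm (D.mem_A f) (D.mem_A v)]
        simp only [w]; group
      have h3 := mul_inv_eq_iff_eq_mul.1 (hfix (el y) (mem_map_of_mem el hy))
      calc el y * w = el y * w * (cc * cc⁻¹) := by group
        _ = el y * (n * w * n⁻¹) * cc⁻¹ := by simp only [cc]; group
        _ = n * w * n⁻¹ * el y * cc⁻¹ := by rw [h2]
        _ = w * (cc * el y) * cc⁻¹ := by simp only [cc]; group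
        _ = w * el y := by rw [h3]; group
    obtain ⟨a, p⟩ := y
    obtain rfl : p = 0 := cent_base_odd f hf ⟨a, p⟩ (D.inj (by rw [map_mul, map_mul]; exact hcom))
    exact ⟨a, hy, hy'.symm⟩

/-- An element of `N(M) ∩ C` preserving the even base lies in `O(C) (N(A) ∩ C)`. -/
theorem keep_split {n₀ : G} (hn₀C : n₀ ∈ centralizer ({el zz} : Set G))
    (hn₀M : n₀ ∈ normalizer (evens.map el : Set G))
    (hn₀V : ∀ v : Fin 16, ev v = true → n₀ * el ⟨v, 0⟩ * n₀⁻¹ ∈ base.map el) :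
    ∃ o ∈ Oc (el zz), ∃ n ∈ centralizer ({el zz} : Set G), n ∈ normalizer (base.map el : Set G) ∧ n₀ = o * n := by
  haveI : Fact (Nat.Prime 2) := ⟨Nat.prime_two⟩
  set C := centralizer ({el zz} : Set G)
  set V := (base ⊓ evens).map el
  have hkeep : ∀ n : G, n ∈ normalizer (evens.map el : Set G) →
      (∀ v : Fin 16, ev v = true → n * el ⟨v, 0⟩ * n⁻¹ ∈ base.map el) → n ∈ normalizer (V : Set G) := by
    intro n hnM hfix
    refine mem_normalizer_of_conj_mem ?_
    rintro _ ⟨⟨v, p⟩, ⟨hp, hv⟩, rfl⟩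
    obtain rfl : p = 0 := hp
    obtain ⟨y, hy, hye⟩ := conj_mem_of_normalizer hnM (D.el_mem_evens.2 hv)
    have hy' : el y = n * el ⟨v, 0⟩ * n⁻¹ := hye
    exact ⟨y, ⟨D.el_mem_base.1 (hy'.symm ▸ hfix v hv), hy⟩, hy'⟩
  set N := C ⊓ normalizer (evens.map el : Set G) ⊓ normalizer (V : Set G)
  have hSV : (S : Subgroup G) ≤ N := fun s hs => ⟨⟨D.S_cent hs, D.S_evens hs⟩, hkeep s (D.S_evens hs)
    fun v _ => conj_mem_of_normalizer (D.S_le hs) (D.mem_A v)⟩
  have hVconj : ∀ n ∈ N, ∀ v ∈ V, n * v * n⁻¹ ∈ V := fun n hn v hv => conj_mem_of_normalizer hn.2 hv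
  set E := N ⊓ centralizer (V : Set G)
  have hNE : N ≤ normalizer (E : Set G) := fun n hn => mem_normalizer_of_conj_mem fun x hx => by
    refine ⟨N.mul_mem (N.mul_mem hn hx.1) (N.inv_mem hn), mem_centralizer_iff.2 fun v hv => ?_⟩
    have h1 : n⁻¹ * v * n ∈ V := by simpa using hVconj n⁻¹ (inv_mem hn) v hv
    have h2 := mem_centralizer_iff.1 hx.2 _ h1
    calc v * (n * x * n⁻¹) = n * (n⁻¹ * v * n * x) * n⁻¹ := by group
      _ = n * (x * (n⁻¹ * v * n)) * n⁻¹ := by rw [h2]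
      _ = n * x * n⁻¹ * v := by group
  have hAE : base.map el ≤ E := fun a ha => ⟨hSV (D.base_le ha),
    mem_centralizer_iff.2 fun v hv => D.base_comm (map_mono inf_le_left hv) ha⟩
  obtain ⟨Q, hQ⟩ := exists_sylow_eq hAE (isPGroup_of_sq D.base_sq) fun R hR hAR hRE => by
    obtain ⟨g, hg⟩ := exists_cj_le (S.subtype hSV)
      (P := R.subgroupOf N) hR.comap_subtype
    have hle : cj (g : G) R ≤ base.map el := by
      rintro _ ⟨r, hr, rfl⟩
      have hgr := hg ((conj_mem_cj (g := g)).2 (show (⟨r, (hRE hr).1⟩ : N) ∈ R.subgroupOf N from hr))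
      rw [Sylow.coe_subtype, mem_subgroupOf] at hgr
      obtain ⟨x, hx⟩ := D.exists_el hgr
      have hx' : el x = (g : G) * r * (g : G)⁻¹ := hx
      have hxE : (g : G) * r * (g : G)⁻¹ ∈ E := conj_mem_of_normalizer (hNE g.2) (hRE hr)
      show (g : G) * r * (g : G)⁻¹ ∈ base.map el
      rw [← hx'] at hxE ⊢
      exact D.el_mem_base.2 (cent_evens x fun a ha => D.inj (by
        rw [map_mul, map_mul]
        exact (mem_centralizer_iff.1 hxE.2 _ ⟨⟨a, 0⟩, ⟨rfl, ha⟩, rfl⟩).symm))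
    exact (eq_of_le_of_card_ge hAR (by have := card_le_of_le hle; rwa [card_cj] at this)).ge
  have hodd : ∀ n ∈ E, Odd (orderOf n) → n ∈ Oc (el zz) := fun n hn ho =>
    D.odd_self (U := base ⊓ evens) inf_le_right D.base_evens_self hn.1.1.1 ho hn.1.1.2
      fun u hu => (mem_centralizer_iff.1 hn.2 _ (mem_map_of_mem el hu)).symm
  -- the quotient by the core is a 2-group
  set J := (Oc (el zz)).subgroupOf E
  haveI : J.Normal := ⟨fun x hx g => by
    rw [mem_subgroupOf] at hx ⊢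
    exact conj_mem_of_normalizer (cent_le_normalizer_Oc _ (mem_inf.1 g.2).1.1.1) hx⟩
  set f := QuotientGroup.mk' J
  have hf : Function.Surjective f := QuotientGroup.mk'_surjective J
  have h2 : IsPGroup 2 (E ⧸ J) := by
    intro q
    obtain ⟨x, rfl⟩ := hf q
    obtain ⟨k, m, hm, h⟩ := Nat.exists_eq_two_pow_mul_odd (orderOf_pos x).ne'
    refine ⟨k, ?_⟩
    rw [← map_pow]
    refine (QuotientGroup.eq_one_iff _).2 (mem_subgroupOf.2 (hodd _ (SetLike.coe_mem _) ?_))
    rw [orderOf_coe]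
    refine hm.of_dvd_nat (orderOf_dvd_of_pow_eq_one ?_)
    rw [← pow_mul, ← h, pow_orderOf_eq_one]
  have htop : (Q : Subgroup E).map f = ⊤ := by
    have h3 : IsPGroup 2 (⊤ : Subgroup (E ⧸ J)) := h2.to_subgroup _
    exact ((Q.mapSurjective hf).3 h3 le_top).symm
  have hsplit : ∀ x ∈ E, ∃ o ∈ Oc (el zz), ∃ a ∈ base.map el, x = o * a := by
    intro x hx
    obtain ⟨a, ha, e⟩ : f ⟨x, hx⟩ ∈ (Q : Subgroup E).map f := htop ▸ mem_top _
    rw [hQ] at ha
    refine ⟨x * (a : G)⁻¹, ?_, a, ha, by group⟩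
    have h1 : (⟨x, hx⟩ : E) * a⁻¹ ∈ J := (QuotientGroup.eq_one_iff _).1
      (show f (⟨x, hx⟩ * a⁻¹) = 1 by rw [map_mul, map_inv, e, mul_inv_cancel])
    exact h1
  obtain ⟨c, hc⟩ := exists_cj_le Q (P := (cj n₀ (base.map el)).subgroupOf E)
    (((isPGroup_of_sq D.base_sq).map _).comap_subtype)
  have hnN : n₀ ∈ N := ⟨⟨hn₀C, hn₀M⟩, hkeep n₀ hn₀M hn₀V⟩
  have hcn : (c : G) * n₀ ∈ normalizer (base.map el : Set G) := mem_normalizer_of_conj_mem fun a ha => by
    have hmem : n₀ * a * n₀⁻¹ ∈ E := conj_mem_of_normalizer (hNE hnN) (hAE ha)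
    have := hc ((conj_mem_cj (g := c)).2 (show (⟨_, hmem⟩ : E) ∈ (cj n₀ (base.map el)).subgroupOf E from
      conj_mem_cj.2 ha))
    rw [hQ, mem_subgroupOf] at this
    simpa [mul_assoc] using this
  obtain ⟨o', ho', a, ha, hca⟩ := hsplit c c.2
  have haC : a⁻¹ ∈ C := C.inv_mem (D.A_cent ha)
  refine ⟨a⁻¹ * o'⁻¹ * a, ?_, a⁻¹ * ((c : G) * n₀),
    C.mul_mem haC (C.mul_mem (mem_inf.1 c.2).1.1.1 hn₀C),
    mul_mem (inv_mem (le_normalizer ha)) hcn, ?_⟩
  · simpa using conj_mem_of_normalizer (cent_le_normalizer_Oc _ haC) (inv_mem ho')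
  · rw [hca]; group

/-- If the normalizer of the even part preserves its base, `C = O(C) (N(A) ∩ C)`. -/
theorem cent_fixed
    (hfix : ∀ n ∈ centralizer ({el zz} : Set G), n ∈ normalizer (evens.map el : Set G) →
      ∀ v : Fin 16, ev v = true → n * el ⟨v, 0⟩ * n⁻¹ ∈ base.map el) :
    ∀ g ∈ centralizer ({el zz} : Set G), ∃ o ∈ Oc (el zz),
      ∃ n ∈ centralizer ({el zz} : Set G), n ∈ normalizer (base.map el : Set G) ∧ g = o * n := by
  intro g hg
  obtain ⟨o, ho, m, hmC, hmM, rfl⟩ := D.cent_split g hg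
  obtain ⟨o', ho', n, hnC, hnA, rfl⟩ := D.keep_split hmC hmM (hfix m hmC hmM)
  exact ⟨o * o', mul_mem ho ho', n, hnC, hnA, by group⟩

end Rec

end CfsgLib.A8Rec
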