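import Cfsg.Agent.A8Rec.PSpCentModel
import Cfsg.Agent.PSpFourInvol.Setup
import Mathlib.GroupTheory.Sylow

/-!
A centralizer of order 576 of a central involution with self-centralizing extraspecial part is the
centralizer of a central involution of `PSp₄(3)`.
-/

set_option autoImplicit false
set_option linter.unusedSectionVars false
set_option linter.style.haveILetI false
set_option linter.style.longLine false

namespace CfsgLib.A8Rec

open Subgroup CfsgLib.A8Three

section Proof

variable {G : Type*} [Group G] [Finite G] (el : T →* G)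

/-- The data of the centralizer. -/
structure CentData : Prop where
  inj : Function.Injective el
  cen : ∀ x, el x ∈ Subgroup.centralizer ({el zz} : Set G)
  norm : ∀ g : G, g * el zz = el zz * g → ∀ x : T, ev x.a = true → ∃ y : T, ev y.a = true ∧ g * el x * g⁻¹ = el y
  self : ∀ g : G, (∀ x : T, ev x.a = true → g * el x = el x * g) → g = 1 ∨ g = el zz
  card : Nat.card (Subgroup.centralizer ({el zz} : Set G)) = 576

variable {el} (D : CentData el)

include D in
theorem zz_cen (x : T) : el x * el zz = el zz * el x := mem_centralizer_singleton_iff.1 (D.cen x)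

theorem qw_sq : el qw * el qw = 1 := by rw [← map_mul, qgen_mem.2.2.2.2.2.2.2.2.2.2, map_one]

theorem qw_inv : (el qw)⁻¹ = el qw := inv_eq_of_mul_eq_one_right qw_sq

theorem conj_qw (x : T) : el qw * el x * el qw = el (qw * x * qw) := by rw [map_mul, map_mul]

theorem qw_qw (x : T) : qw * (qw * x * qw) * qw = x := by
  rw [show qw * (qw * x * qw) * qw = (qw * qw) * x * (qw * qw) by group,
    qgen_mem.2.2.2.2.2.2.2.2.2.2, one_mul, mul_one]

theorem mem_qL' {x : T} : x ∈ qL' ↔ ∃ a ∈ qL, qw * a * qw = x := List.mem_map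

/-- Images of the generators decide the image of the first quaternion group. -/
theorem gen_map {g : G} {M : List T} (hone : (1 : T) ∈ M) (hmul : ∀ x ∈ M, ∀ y ∈ M, x * y ∈ M)
    {y y' : T} (hy : y ∈ M) (hy' : y' ∈ M) (h : g * el qi * g⁻¹ = el y) (h' : g * el qj * g⁻¹ = el y')
    {x : T} (hx : x ∈ qL) : ∃ u ∈ M, g * el x * g⁻¹ = el u := by
  obtain ⟨n, m, rfl⟩ := qL_words x hx
  have hp : ∀ u ∈ M, ∀ k : ℕ, u ^ k ∈ M := fun u hu k => by
    induction k with
    | zero => rw [pow_zero]; exact hone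
    | succ k ih => rw [pow_succ]; exact hmul _ ih _ hu
  refine ⟨y ^ n.val * y' ^ m.val, hmul _ (hp y hy _) _ (hp y' hy' _), ?_⟩
  simp only [← MulAut.conj_apply] at h h' ⊢
  rw [map_mul, map_mul, map_pow, map_pow, map_pow, map_pow, h, h', ← map_pow, ← map_pow, ← map_mul]

theorem gen_comm {g : G} (h : g * el qi = el qi * g) (h' : g * el qj = el qj * g) {x : T} (hx : x ∈ qL) :
    g * el x = el x * g := by
  obtain ⟨n, m, rfl⟩ := qL_words x hx
  rw [map_mul, map_pow, map_pow]
  exact ((show Commute g (el qi) from h).pow_right _).mul_right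
    ((show Commute g (el qj) from h').pow_right _)

/-- The first quaternion group is kept. -/
def Pres (el : T →* G) (g : G) : Prop := ∀ x ∈ qL, ∃ y ∈ qL, g * el x * g⁻¹ = el y

/-- The second quaternion group is kept. -/
def Pres' (el : T →* G) (g : G) : Prop := ∀ x ∈ qL', ∃ y ∈ qL', g * el x * g⁻¹ = el y

include D in
/-- The image of an element of order four. -/
theorem image_four {g : G} (hg : g * el zz = el zz * g) {x : T} (hev : ev x.a = true) (hx : x * x = zz) :
    ∃ y, ev y.a = true ∧ y * y = zz ∧ g * el x * g⁻¹ = el y := by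
  obtain ⟨y, hy, h⟩ := D.norm g hg x hev
  refine ⟨y, hy, D.inj ?_, h⟩
  rw [map_mul, ← h, show g * el x * g⁻¹ * (g * el x * g⁻¹) = g * (el x * el x) * g⁻¹ by group,
    ← map_mul, hx, hg, mul_inv_cancel_right]

include D in
theorem image_comm {g : G} {x x' y y' : T} (h : g * el x * g⁻¹ = el y) (h' : g * el x' * g⁻¹ = el y') :
    x * x' = x' * x ↔ y * y' = y' * y := by
  constructor <;> intro hc <;> refine D.inj ?_
  · rw [map_mul, map_mul, ← h, ← h', show g * el x * g⁻¹ * (g * el x' * g⁻¹) = g * (el x * el x') * g⁻¹ by group,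
      ← map_mul, hc, map_mul]
    group
  · have h2 := congrArg el hc
    rw [map_mul, map_mul, ← h, ← h'] at h2
    rw [map_mul, map_mul]
    calc el x * el x' = g⁻¹ * (g * el x * g⁻¹ * (g * el x' * g⁻¹)) * g := by group
      _ = g⁻¹ * (g * el x' * g⁻¹ * (g * el x * g⁻¹)) * g := by rw [h2]
      _ = el x' * el x := by group

include D in
theorem qw_mem_cent {g : G} (hg : g * el zz = el zz * g) :
    el qw * g * el qw * el zz = el zz * (el qw * g * el qw) := by
  have h : Commute (el qw) (el zz) := zz_cen D qw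
  exact ((h.mul_left (show Commute g (el zz) from hg)).mul_left h).eq

include D in
/-- Squares keep both quaternion groups. -/
theorem pres_sq {g : G} (hg : g * el zz = el zz * g) : Pres el (g * g) := by
  obtain ⟨hi, hj, -, -, h1, hei, hej, hi2, hj2, hij, -⟩ := qgen_mem
  obtain ⟨y, hye, hy2, hy⟩ := image_four D hg hei hi2
  obtain ⟨y', hye', hy2', hy'⟩ := image_four D hg hej hj2
  have hne : y * y' ≠ y' * y := fun hc => hij ((image_comm D hy hy').2 hc)
  have hstep : ∀ {x u v : T}, g * el x * g⁻¹ = el u → g * el u * g⁻¹ = el v →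
      g * g * el x * (g * g)⁻¹ = el v := by
    intro x u v e e'
    rw [← e', ← e]
    group
  intro x hx
  rcases q_four y hye hy2 with hyA | hyB
  · have hyA' : y' ∈ qL := (q_four y' hye' hy2').resolve_right fun h => hne (q_side y hyA y' h)
    obtain ⟨u, hu, e⟩ := gen_map h1 qL_mul hyA hyA' hy hy' hx
    obtain ⟨v, hv, e'⟩ := gen_map h1 qL_mul hyA hyA' hy hy' hu
    exact ⟨v, hv, hstep e e'⟩
  · have hyB' : y' ∈ qL' := (q_four y' hye' hy2').resolve_left fun h => hne (q_side y' h y hyB).symm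
    obtain ⟨u, hu, e⟩ := gen_map qL'_one qL'_mul hyB hyB' hy hy' hx
    obtain ⟨a, ha, rfl⟩ := mem_qL'.1 hu
    -- the second group goes into the first
    have himg : ∀ w ∈ qL, w * w = zz → ∃ v ∈ qL, g * el (qw * w * qw) * g⁻¹ = el v := by
      intro w hw hw2
      obtain ⟨v, hve, hv2, hv⟩ := image_four D hg (qL_even w hw).2 (qw_four w hw hw2)
      refine ⟨v, (q_four v hve hv2).resolve_right fun hvB => ?_, hv⟩
      rcases q_inner y hyB y' hyB' hne v hvB hv2 with h | h
      · exact h ((image_comm D hv hy).1 (q_comm qi hi w hw).symm)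
      · exact h ((image_comm D hv hy').1 (q_comm qj hj w hw).symm)
    obtain ⟨v, hv, e1⟩ := himg qi hi hi2
    obtain ⟨v', hv', e2⟩ := himg qj hj hj2
    rw [← conj_qw] at e1 e2
    obtain ⟨r, hr, er⟩ := gen_map (g := g * el qw) (el := el) h1 qL_mul hv hv'
      (by rw [← e1, mul_inv_rev, qw_inv]; group) (by rw [← e2, mul_inv_rev, qw_inv]; group) ha
    refine ⟨r, hr, hstep e ?_⟩
    rw [← er, ← conj_qw, mul_inv_rev, qw_inv]
    group

/-- An element of odd order fixing the class of the first generator centralizes the group. -/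
theorem cent_of_fix {u : G} (hodd : Odd (orderOf u)) (hp : Pres el u) (D : CentData el)
    (hz : u * el zz = el zz * u) (h : u * el qi * u⁻¹ = el qi ∨ u * el qi * u⁻¹ = el (qi * zz)) {x : T}
    (hx : x ∈ qL) : u * el x = el x * u := by
  obtain ⟨hi, hj, -, -, -, -, -, hi2, hj2, hij, -⟩ := qgen_mem
  have hsq : u ∈ zpowers (u * u) := by
    obtain ⟨m, hm⟩ := exists_pow_eq_self_of_coprime (x := u) (n := 2) (Nat.coprime_two_left.2 hodd)
    exact ⟨m, by simpa [sq] using hm⟩
  have h2i : u * u * el qi = el qi * (u * u) := by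
    have key : u * (u * el qi * u⁻¹) * u⁻¹ = el qi := by
      rcases h with h | h
      · rw [h, h]
      · rw [h, map_mul, show u * (el qi * el zz) * u⁻¹ = (u * el qi * u⁻¹) * (u * el zz * u⁻¹) by group,
          h, hz, mul_inv_cancel_right, map_mul, mul_assoc, ← map_mul,
          show zz * zz = 1 from (ty_sq zz (by decide +kernel)).2, map_one, mul_one]
    calc u * u * el qi = (u * (u * el qi * u⁻¹) * u⁻¹) * (u * u) := by group
      _ = el qi * (u * u) := by rw [key]
  have hiu : u * el qi = el qi * u :=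
    mem_centralizer_singleton_iff.1 ((zpowers_le.2 (mem_centralizer_singleton_iff.2 h2i)) hsq)
  obtain ⟨y, hy, he⟩ := hp qj hj
  have hne : qi * y ≠ y * qi := fun hc => hij ((image_comm D
    (show u * el qi * u⁻¹ = el qi by rw [hiu, mul_inv_cancel_right]) he).2 hc)
  obtain ⟨m, hm⟩ := near_qi y hy hne
  rw [hm, map_mul, map_pow] at he
  set c := el qi ^ m.val
  have hc : u * c = c * u := (show Commute u (el qi) from hiu).pow_right _
  have hpow : ∀ n : ℕ, u ^ n * el qj * (u ^ n)⁻¹ = c ^ n * el qj := by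
    intro n
    induction n with
    | zero => simp
    | succ n ih =>
      rw [pow_succ', show u * u ^ n * el qj * (u * u ^ n)⁻¹ = u * (u ^ n * el qj * (u ^ n)⁻¹) * u⁻¹ by group,
        ih, show u * (c ^ n * el qj) * u⁻¹ = (u * c ^ n * u⁻¹) * (u * el qj * u⁻¹) by group, he,
        ((show Commute u c from hc).pow_right n).eq, mul_inv_cancel_right, pow_succ, mul_assoc]
  have hc4 : c ^ 4 = 1 := by
    rw [← pow_mul, mul_comm, pow_mul, ← map_pow,
      show qi ^ 4 = 1 by decide +kernel, map_one, one_pow]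
  have h4 : u ^ 4 * el qj = el qj * u ^ 4 := by
    have := hpow 4
    rw [hc4, one_mul] at this
    calc u ^ 4 * el qj = (u ^ 4 * el qj * (u ^ 4)⁻¹) * u ^ 4 := by group
      _ = el qj * u ^ 4 := by rw [this]
  obtain ⟨k, hk⟩ := exists_pow_eq_self_of_coprime (x := u) (n := 4)
    (by rw [show 4 = 2 ^ 2 from rfl]; exact (Nat.coprime_two_left.2 hodd).pow_left 2)
  exact gen_comm hiu (by rw [← hk]; exact (show Commute (u ^ 4) (el qj) from h4).pow_left k) hx

include D in
theorem cent_evens {g : G} (h : ∀ x ∈ qL, g * el x = el x * g)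
    (h' : ∀ x ∈ qL', g * el x = el x * g) : g = 1 ∨ g = el zz := by
  refine D.self g fun x hx => ?_
  obtain ⟨a, ha, b, hb, rfl⟩ := q_decomp x hx
  rw [map_mul el a]
  exact (show Commute g (el a) from h a ha).mul_right (h' _ (mem_qL'.2 ⟨b, hb, rfl⟩))

theorem comm_side {g : G} (h : ∀ x ∈ qL, el qw * g * el qw * el x = el x * (el qw * g * el qw))
    {x : T} (hx : x ∈ qL') : g * el x = el x * g := by
  obtain ⟨a, ha, rfl⟩ := mem_qL'.1 hx
  rw [← conj_qw]
  calc g * (el qw * el a * el qw) = (el qw * el qw) * g * (el qw * el a * el qw) := by rw [qw_sq, one_mul]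
    _ = el qw * (el qw * g * el qw * el a) * el qw := by group
    _ = el qw * (el a * (el qw * g * el qw)) * el qw := by rw [h a ha]
    _ = el qw * el a * el qw * g * (el qw * el qw) := by group
    _ = el qw * el a * el qw * g := by rw [qw_sq, mul_one]

include D in
/-- An element acting as the automorphism of order three on the first quaternion group and trivially on the second. -/
theorem exists_t : ∃ t : G, t * el zz = el zz * t ∧ t ^ 3 = 1 ∧
    (∀ x ∈ qL, t * el x * t⁻¹ = el (sg x)) ∧ ∀ x ∈ qL', t * el x = el x * t := by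
  obtain ⟨hi, hj, hk, hzz, -, hei, hej, hi2, hj2, hij, -⟩ := qgen_mem
  haveI : Fact (Nat.Prime 3) := ⟨Nat.prime_three⟩
  set C := centralizer ({el zz} : Set G)
  obtain ⟨R, hR⟩ := Sylow.exists_subgroup_card_pow_prime (G := C) 3 (n := 2) (by rw [D.card]; norm_num)
  have hodd : ∀ r ∈ R, Odd (orderOf ((r : C) : G)) := fun r hr => by
    rw [orderOf_coe]
    refine Odd.of_dvd_nat ?_ (orderOf_dvd_natCard R hr)
    rw [hR]; decide
  have hz : ∀ r : C, (r : G) * el zz = el zz * r := fun r => mem_centralizer_singleton_iff.1 r.2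
  have hpres : ∀ r ∈ R, Pres el ((r : C) : G) := fun r hr => by
    obtain ⟨m, hm⟩ := exists_pow_eq_self_of_coprime (x := ((r : C) : G)) (n := 2)
      (Nat.coprime_two_left.2 (hodd r hr))
    rw [← hm, ← pow_mul, mul_comm, pow_mul, sq]
    exact pres_sq D (show Commute ((r : G) ^ m) (el zz) from (show Commute (r : G) (el zz) from hz r).pow_left m)
  have hoddw : ∀ g : G, orderOf (el qw * g * el qw) = orderOf g := fun g => by
    have h : el qw * g * el qw = MulAut.conj (el qw) g := by rw [MulAut.conj_apply, qw_inv]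
    rw [h, MulEquiv.orderOf_eq]
  have hpresw : ∀ r ∈ R, Pres el (el qw * (r : C) * el qw) := fun r hr => by
    obtain ⟨m, hm⟩ := exists_pow_eq_self_of_coprime (x := el qw * ((r : C) : G) * el qw) (n := 2)
      (Nat.coprime_two_left.2 (by rw [hoddw]; exact hodd r hr))
    rw [← hm, ← pow_mul, mul_comm, pow_mul, sq]
    exact pres_sq D ((show Commute _ _ from qw_mem_cent D (hz r)).pow_left m)
  choose f hfm hf using fun r : R => hpres r.1 r.2 qi hi
  choose f' hfm' hf' using fun r : R => hpresw r.1 r.2 qi hi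
  have hf2 : ∀ {g : G} {y : T}, g * el zz = el zz * g → g * el qi * g⁻¹ = el y → y * y = zz := by
    intro g y hg h
    obtain ⟨y', -, h2, h'⟩ := image_four D hg hei hi2
    rwa [D.inj (h.symm.trans h')]
  -- equal classes of images give equal elements
  have hsame : ∀ {a b : G} {y y' : T}, a * el zz = el zz * a → b * el zz = el zz * b → y ∈ qL → y' ∈ qL →
      a * el qi * a⁻¹ = el y → b * el qi * b⁻¹ = el y' → cls y = cls y' →
      b⁻¹ * a * el qi * (b⁻¹ * a)⁻¹ = el qi ∨ b⁻¹ * a * el qi * (b⁻¹ * a)⁻¹ = el (qi * zz) := by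
    intro a b y y' ha hb hy hy' e e' hcls
    have e2 : b⁻¹ * a * el qi * (b⁻¹ * a)⁻¹ = b⁻¹ * el y * b := by rw [← e]; group
    have e3 : b⁻¹ * el y' * b = el qi := by rw [← e']; group
    rcases cls_eq y hy (hf2 ha e) y' hy' (hf2 hb e') hcls with rfl | rfl
    · exact Or.inl (e2.trans e3)
    · refine Or.inr ?_
      rw [e2, map_mul el qi, ← e3, map_mul]
      calc b⁻¹ * (el y' * el zz) * b = b⁻¹ * el y' * b * (b⁻¹ * (el zz * b)) := by group
        _ = b⁻¹ * el y' * b * el zz := by rw [← hb]; group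
  have hinj : Function.Injective fun r : R => (cls (f r), cls (f' r)) := by
    intro a b hab
    obtain ⟨h1, h2⟩ := Prod.mk.inj hab
    have hu : (b⁻¹ * a : R).1 = b.1⁻¹ * a.1 := rfl
    have hcu : (((b⁻¹ * a : R).1 : C) : G) = ((b.1 : C) : G)⁻¹ * (a.1 : C) := rfl
    have hw1 : el qw * (((b⁻¹ * a : R).1 : C) : G) * el qw
        = (el qw * (b.1 : C) * el qw)⁻¹ * (el qw * (a.1 : C) * el qw) := by
      rw [hcu, mul_inv_rev, mul_inv_rev, qw_inv]
      calc el qw * (((b.1 : C) : G)⁻¹ * (a.1 : C)) * el qw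
          = el qw * ((b.1 : C) : G)⁻¹ * 1 * ((a.1 : C) : G) * el qw := by group
        _ = _ := by rw [← qw_sq (el := el)]; group
    have c1 : ∀ x ∈ qL, (((b⁻¹ * a : R).1 : C) : G) * el x = el x * (((b⁻¹ * a : R).1 : C) : G) := fun x hx =>
      cent_of_fix (hodd _ (b⁻¹ * a).2) (hpres _ (b⁻¹ * a).2) D (hz _) (by
        rw [hcu]; exact hsame (hz _) (hz _) (hfm a) (hfm b) (hf a) (hf b) h1) hx
    have c2 : ∀ x ∈ qL', (((b⁻¹ * a : R).1 : C) : G) * el x = el x * (((b⁻¹ * a : R).1 : C) : G) := fun x hx =>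
      comm_side (fun x hx => cent_of_fix (by rw [hoddw]; exact hodd _ (b⁻¹ * a).2) (hpresw _ (b⁻¹ * a).2) D
        (qw_mem_cent D (hz _)) (by
          rw [hw1]
          exact hsame (qw_mem_cent D (hz _)) (qw_mem_cent D (hz _)) (hfm' a) (hfm' b) (hf' a) (hf' b) h2) hx) hx
    rcases cent_evens D c1 c2 with h | h
    · have h' : b⁻¹ * a = 1 := Subtype.ext (Subtype.ext h)
      exact (inv_mul_eq_one.1 h').symm
    · exfalso
      have ho := hodd _ (b⁻¹ * a).2
      rw [h, orderOf_injective el D.inj zz, orderOf_eq_prime (p := 2) (by decide +kernel) (by decide +kernel)] at ho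
      exact absurd ho (by decide)
  have hsurj := ((Nat.bijective_iff_injective_and_card _).2 ⟨hinj, by rw [hR]; simp⟩).2
  obtain ⟨r, hr⟩ := hsurj (1, 0)
  obtain ⟨hr1, hr2⟩ := Prod.mk.inj hr
  set g := ((r.1 : C) : G)
  have hgz : g * el zz = el zz * g := hz _
  have hgB : ∀ x ∈ qL', g * el x = el x * g := fun x hx =>
    comm_side (fun x hx => cent_of_fix (by rw [hoddw]; exact hodd _ r.2) (hpresw _ r.2) D
      (qw_mem_cent D (hz _)) (by
        rcases cls_eq (f' r) (hfm' r) (hf2 (qw_mem_cent D (hz _)) (hf' r)) qi hi hi2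
          (hr2.trans cls_gen.1.symm) with e | e
        · exact Or.inl (by rw [hf' r, e])
        · exact Or.inr (by rw [hf' r, e])) hx) hx
  obtain ⟨b, hb, heb⟩ := hpres r.1 r.2 qj hj
  have hb2 : b * b = zz := by
    obtain ⟨y', -, h2, h'⟩ := image_four D hgz hej hj2
    rwa [D.inj (heb.symm.trans h')]
  have hab : f r * b ≠ b * f r := fun hc => hij ((image_comm D (hf r) heb).2 hc)
  have hb0 : cls b ≠ 0 := by
    intro hb0
    have hiz : ∀ {y : T}, y ∈ qL → y * y = zz → cls y = 0 → y = qi ∨ y = qi * zz := fun hy h2 h0 =>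
      cls_eq _ hy h2 qi hi hi2 (h0.trans cls_gen.1.symm)
    -- the square fixes the class of the first generator
    have hfr : f r = qj ∨ f r = qj * zz :=
      cls_eq (f r) (hfm r) (hf2 hgz (hf r)) qj hj hj2 (hr1.trans cls_gen.2.symm)
    have hgzz : g * el zz * g⁻¹ = el zz := by rw [hgz, mul_inv_cancel_right]
    have hgg : ∃ y, (y = qi ∨ y = qi * zz) ∧ g * g * el qi * (g * g)⁻¹ = el y := by
      rw [show g * g * el qi * (g * g)⁻¹ = g * (g * el qi * g⁻¹) * g⁻¹ by group, hf r]
      have hzsq : zz * zz = 1 := by decide +kernel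
      rcases hfr with e | e <;> rcases hiz hb hb2 hb0 with e' | e' <;> rw [e]
      · exact ⟨_, Or.inl rfl, by rw [heb, e']⟩
      · exact ⟨_, Or.inr rfl, by rw [heb, e']⟩
      · refine ⟨_, Or.inr rfl, ?_⟩
        rw [map_mul, map_mul, ← hgzz]
        nth_rewrite 1 [hgzz]
        calc g * (el qj * el zz) * g⁻¹ = (g * el qj * g⁻¹) * (g * el zz * g⁻¹) := by group
          _ = el qi * el zz := by rw [heb, e', hgzz]
          _ = el qi * (g * el zz * g⁻¹) := by rw [hgzz]
      · refine ⟨_, Or.inl rfl, ?_⟩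
        calc g * el (qj * zz) * g⁻¹ = (g * el qj * g⁻¹) * (g * el zz * g⁻¹) := by rw [map_mul]; group
          _ = el qi := by rw [heb, e', hgzz, ← map_mul, mul_assoc, hzsq, mul_one]
    obtain ⟨y, hy, hye⟩ := hgg
    have hc : ∀ x ∈ qL, g * g * el x = el x * (g * g) := fun x hx => cent_of_fix
      ((hodd _ r.2).of_dvd_nat (by rw [← sq]; exact orderOf_pow_dvd 2))
      (by rw [show g * g = ((r * r : R).1 : C) from rfl]; exact hpres _ (r * r).2) D
      ((show Commute g (el zz) from hgz).mul_left hgz)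
      (by rcases hy with e | e <;> rw [hye, e] <;> simp) hx
    obtain ⟨m, hm⟩ := exists_pow_eq_self_of_coprime (x := g) (n := 2) (Nat.coprime_two_left.2 (hodd _ r.2))
    have hgi : g * el qi = el qi * g := by
      rw [← hm, sq]
      exact (show Commute (g * g) (el qi) from hc qi hi).pow_left m
    have : f r = qi := D.inj ((hf r).symm.trans (by rw [hgi, mul_inv_cancel_right]))
    rw [this, cls_gen.1] at hr1
    exact absurd hr1 (by decide)
  obtain ⟨q, hq, hqa, hqb⟩ := fix_inner (f r) (hfm r) (hf2 hgz (hf r)) hr1 b hb hb2 hab hb0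
  set s := el q * g
  have hsz : s * el zz = el zz * s :=
    ((show Commute (el q) (el zz) from zz_cen D q).mul_left hgz).eq
  have hsB : ∀ x ∈ qL', s * el x = el x * s := fun x hx => by
    refine ((show Commute (el q) (el x) from ?_).mul_left (show Commute g (el x) from hgB x hx)).eq
    rw [commute_iff_eq, ← map_mul, q_side q hq x hx, map_mul]
  have hsA : ∀ x ∈ qL, s * el x * s⁻¹ = el (sg x) := by
    intro x hx
    obtain ⟨n, m, rfl⟩ := qL_words x hx
    rw [sg_words n m]
    have h1 : MulAut.conj s (el qi) = el qj := by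
      rw [MulAut.conj_apply, show s * el qi * s⁻¹ = el q * (g * el qi * g⁻¹) * (el q)⁻¹ by simp only [s]; group,
        hf r, ← map_inv, ← map_mul, ← map_mul, hqa]
    have h2 : MulAut.conj s (el qj) = el qk := by
      rw [MulAut.conj_apply, show s * el qj * s⁻¹ = el q * (g * el qj * g⁻¹) * (el q)⁻¹ by simp only [s]; group,
        heb, ← map_inv, ← map_mul, ← map_mul, hqb]
    rw [← MulAut.conj_apply]
    simp only [map_mul, map_pow, h1, h2]
  have hs3 : s ^ 3 = 1 ∨ s ^ 3 = el zz := by
    refine cent_evens D (fun x hx => ?_) fun x hx => (show Commute s (el x) from hsB x hx).pow_left 3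
    have key : s ^ 3 * el x * (s ^ 3)⁻¹ = el x := by
      rw [show s ^ 3 * el x * (s ^ 3)⁻¹ = s * (s * (s * el x * s⁻¹) * s⁻¹) * s⁻¹ by
          simp only [pow_succ, pow_zero, one_mul]; group, hsA x hx,
        hsA _ (sg_mem x hx), hsA _ (sg_mem _ (sg_mem x hx)), sg_three x hx]
    calc s ^ 3 * el x = (s ^ 3 * el x * (s ^ 3)⁻¹) * s ^ 3 := by group
      _ = el x * s ^ 3 := by rw [key]
  have hs3c : ∀ x, Commute (s ^ 3) (el x) := fun x => by
    rcases hs3 with e | e <;> rw [e]
    · exact Commute.one_left _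
    · exact (zz_cen D x).symm
  refine ⟨s * s ^ 3, ((show Commute s (el zz) from hsz).mul_left (hs3c zz)).eq, ?_, fun x hx => ?_,
    fun x hx => ((show Commute s (el x) from hsB x hx).mul_left (hs3c x)).eq⟩
  · rw [(Commute.self_pow s 3).mul_pow]
    rcases hs3 with e | e <;> rw [e]
    · simp
    · rw [← map_pow, show zz ^ 3 = zz by decide +kernel, ← map_mul, show zz * zz = 1 by decide +kernel,
        map_one]
  · rw [mul_inv_rev, show s * s ^ 3 * el x * ((s ^ 3)⁻¹ * s⁻¹) = s * (s ^ 3 * el x * (s ^ 3)⁻¹) * s⁻¹ by group,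
      (hs3c x).eq, mul_inv_cancel_right, hsA x hx]

include D in
theorem setup : Nonempty (PSpFourInvol.Setup G) := by
  obtain ⟨t, htz, ht3, htA, htB⟩ := exists_t D
  obtain ⟨hi, hj, hk, hzz, hone, hei, hej, hi2, hj2, hij, hw2⟩ := qgen_mem
  set w := el qw with hw
  set t₂ := w * t * w with ht₂
  have hww : w * w = 1 := qw_sq
  have hwc : ∀ x y : G, Commute x y → Commute (w * x * w) (w * y * w) := fun x y h => by
    rw [commute_iff_eq]
    calc w * x * w * (w * y * w) = w * x * (w * w) * y * w := by group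
      _ = w * y * (w * w) * x * w := by rw [hww, mul_one, mul_one, mul_assoc w x, h.eq, ← mul_assoc]
      _ = w * y * w * (w * x * w) := by group
  have hwm : ∀ x y : G, w * (x * y) * w = (w * x * w) * (w * y * w) := fun x y => by
    calc w * (x * y) * w = w * x * 1 * y * w := by group
      _ = w * x * (w * w) * y * w := by rw [hww]
      _ = _ := by group
  have hww' : ∀ x : G, w * (w * x * w) * w = x := fun x => by
    calc w * (w * x * w) * w = (w * w) * x * (w * w) := by group
      _ = x := by rw [hww, one_mul, mul_one]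
  have htp : ∀ n : ℕ, ∀ x ∈ qL, t ^ n * el x = el (sg^[n] x) * t ^ n ∧ sg^[n] x ∈ qL := by
    intro n
    induction n with
    | zero => intro x hx; simp [hx]
    | succ n ih =>
      intro x hx
      obtain ⟨h1, h2⟩ := ih (sg x) (sg_mem x hx)
      refine ⟨?_, by rwa [Function.iterate_succ_apply]⟩
      rw [Function.iterate_succ_apply, pow_succ, mul_assoc]
      calc t ^ n * (t * el x) = t ^ n * ((t * el x * t⁻¹) * t) := by group
        _ = t ^ n * el (sg x) * t := by rw [htA x hx]; group
        _ = el (sg^[n] (sg x)) * (t ^ n * t) := by rw [h1]; group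
  let φ : PSpFourInvol.S → G := fun a => el (qs a) * t ^ (cs a).val
  have hφ : ∀ a b, φ (PSpFourInvol.sm a b) = φ a * φ b := by
    intro a b
    obtain ⟨h1, h2⟩ := qs_mul a b
    show el (qs _) * t ^ _ = el (qs a) * t ^ _ * (el (qs b) * t ^ _)
    rw [h1, h2, map_mul, Fin.val_add, ← pow_eq_pow_mod _ ht3,
      show el (qs a) * t ^ (cs a).val * (el (qs b) * t ^ (cs b).val)
        = el (qs a) * (t ^ (cs a).val * el (qs b)) * t ^ (cs b).val by group,
      (htp _ _ (qs_mem b)).1, pow_add]
    group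
  have ht2A : ∀ x ∈ qL, Commute t₂ (el x) := fun x hx => by
    have := hwc _ _ (show Commute t (el (qw * x * qw)) from htB _ (mem_qL'.2 ⟨x, hx, rfl⟩))
    rwa [hw, conj_qw, qw_qw] at this
  have ht2z : Commute t₂ (el zz) := qw_mem_cent D htz
  have ht2' : ∀ x ∈ qL', ∃ y ∈ qL', t₂ * el x * t₂⁻¹ = el y := by
    intro x hx
    obtain ⟨a, ha, rfl⟩ := mem_qL'.1 hx
    refine ⟨qw * sg a * qw, mem_qL'.2 ⟨_, sg_mem a ha, rfl⟩, ?_⟩
    rw [← conj_qw, ← conj_qw, ← htA a ha, ← hw, mul_inv_eq_iff_eq_mul, ht₂, ← hwm, ← hwm]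
    congr 2
    group
  have htt : Commute t t₂ := by
    have hc : t * t₂ * t⁻¹ * t₂⁻¹ = 1 ∨ t * t₂ * t⁻¹ * t₂⁻¹ = el zz := by
      refine cent_evens D (fun x hx => ?_) fun x hx => ?_
      · obtain ⟨y, hy, e⟩ : ∃ y ∈ qL, t⁻¹ * el x * t = el y := by
          refine ⟨sg (sg x), sg_mem _ (sg_mem x hx), ?_⟩
          have h := htA _ (sg_mem _ (sg_mem x hx))
          rw [sg_three x hx] at h
          rw [← h]; group
        calc t * t₂ * t⁻¹ * t₂⁻¹ * el x = t * t₂ * t⁻¹ * (t₂⁻¹ * el x) := by group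
          _ = t * t₂ * (t⁻¹ * el x * t) * t⁻¹ * t₂⁻¹ := by rw [(ht2A x hx).inv_left.eq]; group
          _ = t * (t₂ * el y) * t⁻¹ * t₂⁻¹ := by rw [e]; group
          _ = t * el y * t₂ * t⁻¹ * t₂⁻¹ := by rw [(ht2A y hy).eq]; group
          _ = el x * (t * t₂ * t⁻¹ * t₂⁻¹) := by rw [← e]; group
      · obtain ⟨y, hy, e⟩ : ∃ y ∈ qL', t₂⁻¹ * el x * t₂ = el y := by
          obtain ⟨a, ha, rfl⟩ := mem_qL'.1 hx
          refine ⟨qw * sg (sg a) * qw, mem_qL'.2 ⟨_, sg_mem _ (sg_mem a ha), rfl⟩, ?_⟩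
          rw [mul_assoc, inv_mul_eq_iff_eq_mul, ← conj_qw, ← conj_qw, ← hw, ht₂, ← hwm, ← hwm]
          have h := htA _ (sg_mem _ (sg_mem a ha))
          rw [sg_three a ha] at h
          rw [← h]
          congr 2
          group
        have hty := htB y hy
        calc t * t₂ * t⁻¹ * t₂⁻¹ * el x = t * t₂ * t⁻¹ * (t₂⁻¹ * el x * t₂) * t₂⁻¹ := by group
          _ = t * t₂ * t⁻¹ * el y * t₂⁻¹ := by rw [e]
          _ = t * t₂ * (el y * t⁻¹) * t₂⁻¹ := by
            rw [mul_assoc (t * t₂), (show Commute t (el y) from hty).inv_left.eq]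
          _ = t * (t₂ * el y * t₂⁻¹) * t₂ * t⁻¹ * t₂⁻¹ := by group
          _ = (t * el x) * t₂ * t⁻¹ * t₂⁻¹ := by rw [← e]; group
          _ = el x * (t * t₂ * t⁻¹ * t₂⁻¹) := by rw [htB x hx]; group
    rcases hc with e | e
    · rw [commute_iff_eq]
      calc t * t₂ = (t * t₂ * t⁻¹ * t₂⁻¹) * t₂ * t := by group
        _ = t₂ * t := by rw [e, one_mul]
    · exfalso
      have h3 : t₂ ^ 3 = 1 := by
        rw [ht₂, show (w * t * w) ^ 3 = w * (t * (w * w) * t * (w * w) * t) * w by
          simp only [pow_succ, pow_zero, one_mul]; group, hww, mul_one,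
          mul_one, ← pow_three', ht3, mul_one, hww]
      have e' : t * t₂ * t⁻¹ = el zz * t₂ := by rw [← e]; group
      have : (el zz * t₂) ^ 3 = 1 := by rw [← e', conj_pow, h3, mul_one, mul_inv_cancel]
      rw [ht2z.symm.mul_pow, h3, mul_one, ← map_pow, ← map_one el] at this
      exact absurd (D.inj this) (by decide +kernel)
  have hxy : ∀ a b : PSpFourInvol.S, Commute (φ a) (w * φ b * w) := by
    intro a b
    have e1 : w * φ b * w = el (qw * qs b * qw) * t₂ ^ (cs b).val := by
      show w * (el (qs b) * t ^ _) * w = _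
      rw [hwm, hw, conj_qw, ← hw]
      congr 1
      have hc : w * t * w = MulAut.conj w t := by rw [MulAut.conj_apply, hw, qw_inv]
      rw [ht₂, hc, ← map_pow, MulAut.conj_apply, hw, qw_inv]
    rw [e1]
    have hb := mem_qL'.2 ⟨qs b, qs_mem b, rfl⟩
    refine Commute.mul_left (Commute.mul_right ?_ ?_) (Commute.mul_right ?_ ?_)
    · rw [commute_iff_eq, ← map_mul, q_side _ (qs_mem a) _ hb, map_mul]
    · exact ((ht2A _ (qs_mem a)).symm).pow_right _
    · exact (show Commute t _ from htB _ hb).pow_left _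
    · exact htt.pow_pow _ _
  have hφ1 : φ 0 = 1 := by show el (qs 0) * t ^ (cs 0).val = 1; simp [qs_special.1, qs_special.2.1]
  let ι : PSpFourInvol.W →* G :=
    { toFun := fun a => φ a.x * (w * φ a.y * w) * if a.b then w else 1
      map_one' := by
        show φ 0 * (w * φ 0 * w) * 1 = 1
        rw [hφ1, mul_one, mul_one, hww, one_mul]
      map_mul' := by
        rintro ⟨x, y, c⟩ ⟨x', y', c'⟩
        have hsw : ∀ u v, w * (φ u * (w * φ v * w)) = φ v * (w * φ u * w) * w := fun u v => by
          calc w * (φ u * (w * φ v * w)) = (w * φ u * w) * φ v * w := by group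
            _ = φ v * (w * φ u * w) * w := by rw [(hxy v u).symm.eq]
        have hmm : ∀ u v u' v', φ (PSpFourInvol.sm u u') * (w * φ (PSpFourInvol.sm v v') * w)
            = φ u * (w * φ v * w) * (φ u' * (w * φ v' * w)) := fun u v u' v' => by
          rw [hφ, hφ, hwm]
          calc φ u * φ u' * (w * φ v * w * (w * φ v' * w))
              = φ u * (φ u' * (w * φ v * w)) * (w * φ v' * w) := by group
            _ = φ u * ((w * φ v * w) * φ u') * (w * φ v' * w) := by rw [(hxy u' v).eq]
            _ = _ := by group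
        cases c
        · show φ (PSpFourInvol.sm x x') * (w * φ (PSpFourInvol.sm y y') * w) * (if c' then w else 1) = _
          rw [hmm]
          simp [mul_assoc]
        · show φ (PSpFourInvol.sm x y') * (w * φ (PSpFourInvol.sm y x') * w) * (if !c' then w else 1)
            = φ x * (w * φ y * w) * w * (φ x' * (w * φ y' * w) * if c' then w else 1)
          rw [hmm, show ∀ A X I : G, A * w * (X * I) = A * (w * X) * I from fun A X I => by group, hsw]
          cases c'
          · simp [mul_assoc]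
          · simp only [Bool.not_true, Bool.false_eq_true, if_false, if_true, mul_one]
            simp only [mul_assoc, hww, mul_one] }
  have hι : ∀ a, ι a = φ a.x * (w * φ a.y * w) * if a.b then w else 1 := fun _ => rfl
  have hιt : ι PSpFourInvol.tW = el zz := by
    rw [hι]
    show φ 1 * (w * φ 0 * w) * 1 = el zz
    rw [hφ1, mul_one, mul_one, hww, mul_one]
    show el (qs 1) * t ^ (cs 1).val = el zz
    simp [qs_special.2.2.1, qs_special.2.2.2.1]
  set C := centralizer ({el zz} : Set G)
  have hle : ι.range ≤ C := by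
    rintro _ ⟨a, rfl⟩
    have hmem : ∀ u, φ u ∈ C := fun u =>
      mul_mem (D.cen _) (pow_mem (mem_centralizer_singleton_iff.2 htz) _)
    rw [hι]
    refine mul_mem (mul_mem (hmem _) (mul_mem (mul_mem (D.cen _) (hmem _)) (D.cen _))) ?_
    split_ifs
    exacts [D.cen _, one_mem _]
  have hwR : w ∈ ι.range := ⟨⟨0, 0, true⟩, by rw [hι]; simp [hφ1, hww]⟩
  have hA : ∀ x ∈ qL, el x ∈ ι.range := fun x hx => by
    obtain ⟨a, ha, hc⟩ := qs_surj x hx
    refine ⟨⟨a, 0, false⟩, ?_⟩
    rw [hι]
    simp [hφ1, hww, φ, ha, hc]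
  have hev : ∀ x, ev x.a = true → el x ∈ ι.range := fun x hx => by
    obtain ⟨a, ha, b, hb, rfl⟩ := q_decomp x hx
    rw [map_mul el a, ← conj_qw, ← hw]
    exact mul_mem (hA a ha) (mul_mem (mul_mem hwR (hA b hb)) hwR)
  have helR : el.range ≤ ι.range := by
    rintro _ ⟨x, rfl⟩
    by_cases hx : ev x.a = true
    · exact hev x hx
    · have := mul_mem (hev (x * qw) (by rw [qw_flip]; simpa using hx)) hwR
      rwa [hw, ← map_mul, mul_assoc, hw2, mul_one] at this
  have htR : t ∈ ι.range := ⟨⟨4, 0, false⟩, by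
    rw [hι]
    simp [hφ1, hww, φ, qs_special.2.2.2.2.1, qs_special.2.2.2.2.2]⟩
  have ht2R : t₂ ∈ ι.range := mul_mem (mul_mem hwR htR) hwR
  haveI : Fact (Nat.Prime 3) := ⟨Nat.prime_three⟩
  have htne : t ≠ 1 := fun e => by
    have := htA qi hi
    rw [e, one_mul, inv_one, mul_one] at this
    exact absurd (D.inj this) (by decide +kernel)
  have ho : orderOf t = 3 := orderOf_eq_prime ht3 htne
  have ho2 : orderOf t₂ = 3 := by
    rw [ht₂, show w * t * w = MulAut.conj w t by rw [MulAut.conj_apply, hw, qw_inv],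
      MulEquiv.orderOf_eq, ho]
  have hK : ∀ u : G, orderOf u = 3 → IsPGroup 3 (zpowers u) := fun u hu =>
    IsPGroup.of_card (n := 1) (by rw [Nat.card_zpowers, hu, pow_one])
  set H := zpowers t ⊔ zpowers t₂
  have hH : IsPGroup 3 H := (hK t ho).to_sup_of_normal_left' (hK t₂ ho2) (zpowers_le.2
    (mem_normalizer_iff.2 fun x => by
      constructor
      · rintro ⟨n, rfl⟩
        refine ⟨n, ?_⟩
        rw [(htt.zpow_left n).symm.eq, mul_inv_cancel_right]
      · rintro ⟨n, hn⟩
        refine ⟨n, ?_⟩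
        have hn' : t ^ n = t₂ * x * t₂⁻¹ := hn
        show t ^ n = x
        calc t ^ n = t₂⁻¹ * (t₂ * t ^ n) := by group
          _ = t₂⁻¹ * (t ^ n * t₂) := by rw [(htt.zpow_left n).symm.eq]
          _ = x := by rw [hn']; group))
  have h9 : 9 ∣ Nat.card ι.range := by
    obtain ⟨k, hk⟩ := hH.exists_card_eq
    have h3 : Nat.card (zpowers t) = 3 := by rw [Nat.card_zpowers, ho]
    have hne : zpowers t ≠ H := fun e => by
      have h2 : t₂ ∈ zpowers t := e ▸ mem_sup_right (mem_zpowers t₂)
      obtain ⟨n, hn⟩ := h2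
      have hc : Commute t₂ (el qi) := ht2A qi hi
      obtain ⟨m, hm⟩ := (mem_powers_iff_mem_zpowers (x := t) (y := t₂)).2 ⟨n, hn⟩
      have hm' : t ^ (m % 3) = t₂ := by rw [← pow_eq_pow_mod _ ht3]; exact hm
      have := (htp (m % 3) qi hi).1
      rw [hm', hc.eq, mul_left_inj] at this
      have h0 := D.inj this
      have hne2 : t₂ ≠ 1 := fun e2 => by rw [e2, orderOf_one] at ho2; omega
      rcases (show m % 3 = 0 ∨ m % 3 = 1 ∨ m % 3 = 2 by omega) with e3 | e3 | e3 <;> rw [e3] at hm' h0
      · exact hne2 (by rw [← hm', pow_zero])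
      · exact absurd h0 (by decide +kernel)
      · exact absurd h0 (by decide +kernel)
    have hlt := Nat.lt_of_le_of_ne (card_le_of_le (le_sup_left : zpowers t ≤ H))
      (fun e => hne (eq_of_le_of_card_ge le_sup_left e.ge))
    rw [h3, hk] at hlt
    have hk2 : 2 ≤ k := by
      by_contra hc
      interval_cases k <;> simp at hlt
    refine (show 9 ∣ 3 ^ k from (show 9 = 3 ^ 2 from rfl) ▸ pow_dvd_pow 3 hk2).trans (hk ▸ card_dvd_of_le ?_)
    exact sup_le (zpowers_le.2 htR) (zpowers_le.2 ht2R)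
  have h64 : 64 ∣ Nat.card ι.range := by
    have := card_dvd_of_le helR
    rwa [← Nat.card_congr (MonoidHom.ofInjective D.inj).toEquiv, card_T] at this
  have h576 : 576 ∣ Nat.card ι.range := Nat.Coprime.mul_dvd_of_dvd_of_dvd (by decide : Nat.Coprime 64 9) h64 h9
  have hrC : ι.range = C := eq_of_le_of_card_ge hle (by
    rw [D.card]; exact Nat.le_of_dvd Nat.card_pos h576)
  have hker : Nat.card ι.ker = 2 := by
    have h := card_eq_card_quotient_mul_card_subgroup ι.ker
    rw [Nat.card_congr (QuotientGroup.quotientKerEquivRange ι).toEquiv, hrC, D.card,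
      show Nat.card PSpFourInvol.W = 1152 by
        rw [Nat.card_congr PSpFourInvol.W.equiv]; simp] at h
    omega
  have hιz : ι PSpFourInvol.z = 1 := by
    rw [hι]
    show φ 1 * (w * φ 1 * w) * 1 = 1
    have e : φ 1 = el zz := by simp [φ, qs_special.2.2.1, qs_special.2.2.2.1]
    rw [e, mul_one, hw, conj_qw, ← map_mul, show zz * (qw * zz * qw) = 1 by decide +kernel, map_one]
  refine ⟨⟨ι, fun a => ⟨fun ha => ?_, fun ha => ?_⟩, fun g => ?_⟩⟩
  · obtain ⟨y, -, huniq⟩ := (Nat.card_eq_two_iff' (1 : ι.ker)).1 hker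
    rcases eq_or_ne a 1 with e | e
    · exact Or.inl e
    · refine Or.inr ?_
      have h1 := huniq ⟨a, ha⟩ fun e' => e (congrArg Subtype.val e')
      have h2 := huniq ⟨PSpFourInvol.z, hιz⟩ fun e' =>
        (show PSpFourInvol.z ≠ 1 by decide +kernel) (congrArg Subtype.val e')
      exact congrArg Subtype.val (h1.trans h2.symm)
  · rcases ha with rfl | rfl
    exacts [map_one ι, hιz]
  · rw [hιt, ← mem_centralizer_singleton_iff, show (g ∈ centralizer ({el zz} : Set G)) = (g ∈ C) from rfl,
      ← hrC, MonoidHom.mem_range]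

end Proof

open CfsgLib.A8Three in
/-- The centralizer data give a setup of the recognition of `PSp₄(3)`. -/
theorem setup_of_cent {G : Type*} [Group G] [Finite G] (el : T →* G) (hinj : Function.Injective el)
    (hcen : ∀ x, el x ∈ Subgroup.centralizer ({el zz} : Set G))
    (hnorm : ∀ g : G, g * el zz = el zz * g → ∀ x : T, ev x.a = true → ∃ y : T, ev y.a = true ∧ g * el x * g⁻¹ = el y)
    (hself : ∀ g : G, (∀ x : T, ev x.a = true → g * el x = el x * g) → g = 1 ∨ g = el zz)
    (hcard : Nat.card (Subgroup.centralizer ({el zz} : Set G)) = 576) :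
    Nonempty (CfsgLib.PSpFourInvol.Setup G) :=
  setup ⟨hinj, hcen, hnorm, hself, hcard⟩

end CfsgLib.A8Rec
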