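import Cfsg.Agent.A8Rec.Counts
import Cfsg.Agent.A8Rec.Ident192
import Cfsg.Agent.A8Rec.PSpCent
import Cfsg.Agent.PSpFourInvol.Recognition

/-!
Groups with a Sylow 2-subgroup of type `Alt(8)` and solvable centralizer of the central involution.
-/

set_option autoImplicit false
set_option linter.unusedSectionVars false
set_option linter.style.haveILetI false
set_option maxRecDepth 100000

namespace CfsgLib.A8Rec

open Subgroup CfsgLib.SylL34
open CfsgLib.A8Three

theorem flip_facts : flipW zz = zz ∧ flipW ⟨7, 0⟩ = ⟨8, 0⟩ ∧ flipW ⟨1, 0⟩ = ⟨14, 0⟩ ∧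
    (∀ p : Fin 4, flipW ⟨pe p, 0⟩ = ⟨pe p, 0⟩) := by decide +kernel

variable {G : Type*} [Group G] [Finite G] {S : Sylow 2 G} {el : T →* G}

namespace Rec

variable (D : Rec S el)
include D

theorem flip : Rec S (el.comp flipW.toMonoidHom) where
  inj := D.inj.comp flipW.injective
  range := by
    rw [MonoidHom.range_comp, MonoidHom.range_eq_top.2 (show Function.Surjective flipW.toMonoidHom from flipW.surjective),
      ← MonoidHom.range_eq_map, D.range]
  res := D.res
  core2 := D.core2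
  odd := D.odd
  sol := by
    rw [MonoidHom.comp_apply, show flipW.toMonoidHom zz = zz from flip_facts.1]
    exact D.sol

theorem cls_flip {a b : Fin 16} (h : flipW ⟨a, 0⟩ = ⟨b, 0⟩) : Cls (el.comp flipW.toMonoidHom) a ↔ Cls el b := by
  have hz : flipW.toMonoidHom zz = zz := flip_facts.1
  have ha : flipW.toMonoidHom ⟨a, 0⟩ = ⟨b, 0⟩ := h
  simp only [Cls, MonoidHom.comp_apply, hz, ha]

/-- The centre is fused in the base. -/
theorem not_isolated : (∃ p : Fin 4, p ≠ 0 ∧ Cls el (pe p)) ∨ Cls el 1 ∨ Cls el 7 := by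
  by_contra h
  push Not at h
  obtain ⟨hP, h1, h7⟩ := h
  have hzS : el zz ∈ (S : Subgroup G) := D.mem_S zz
  have hiso : Cfsg.IsIsolatedInvolution (el zz) := by
    refine Invol.isolated_of_sylow S (D.order_el (by decide)) fun g hg => ?_
    obtain ⟨w, hw⟩ := D.exists_el hg
    have hconj : IsConj (el zz) (el w) := isConj_iff.2 ⟨g, hw.symm⟩
    rw [← hw]
    by_cases hw0 : w.p = 0
    · obtain ⟨a, t⟩ := w
      obtain rfl : t = 0 := hw0
      rcases kind_cases a with e | e | e | e
      · exact absurd (e ▸ hconj) D.not_cls_zero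
      · rw [e]; rfl
      · obtain ⟨p, hp, ho⟩ := D.six_orb e
        exact absurd ((D.cls_congr ho).2 hconj) (hP p hp)
      · have := (D.cls_odd e).1 hconj
        cases hb : big a <;> rw [hb] at this
        exacts [absurd this h1, absurd this h7]
    · exfalso
      have hww : w * w = 1 := D.inj (by
        rw [map_mul, map_one, hw]; exact conj_sq _ _ (by rw [← map_mul, zz_sq, map_one]))
      obtain ⟨c, hc⟩ := out_conj w (D.out_ty hw0 hww)
      exact hP w.p hw0 (D.out_zclass hw0 ((isConj_iff.2 ⟨el ⟨c, 0⟩,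
        by rw [← map_inv, ← map_mul, ← map_mul, hc]⟩).trans hconj.symm))
  have hcen : ∀ g : G, Commute g (el zz) := fun g => by
    obtain ⟨o, ho, c, hc, rfl⟩ := IsoApps.exists_mul hiso g
    rw [D.odd, mem_bot] at ho
    rw [ho, one_mul]
    exact mem_centralizer_singleton_iff.1 hc
  have hn : (zpowers (el zz)).Normal := ⟨fun x hx g => by
    obtain ⟨i, rfl⟩ := mem_zpowers_iff.1 hx
    rwa [((hcen g).zpow_right i).eq, mul_inv_cancel_right]⟩
  have hle := Solvable.le_pCore 2 hn (isPGroup_zpowers_of (g := el zz) (k := 1)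
    (by rw [pow_one, sq, ← map_mul, zz_sq, map_one]))
  rw [D.core2] at hle
  exact D.el_ne_one (show (15 : Fin 16) ≠ 0 by decide) (mem_bot.1 (hle (mem_zpowers _)))

/-- The coordinates can be normalised. -/
theorem normalise : ∃ el' : T →* G, Rec S el' ∧ Nrm el' := by
  by_cases hp : ∃ p : Fin 4, p ≠ 0 ∧ Cls el (pe p)
  · exact ⟨el, D, Or.inl hp⟩
  push Not at hp
  rcases D.not_isolated with ⟨p, hp0, h⟩ | h | h
  · exact absurd h (hp p hp0)
  · have h7 : ¬ Cls el 7 := fun h' => D.no_both hp ⟨h, h'⟩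
    refine ⟨_, D.flip, Or.inr ⟨fun p hp0 h' => hp p hp0 ((D.cls_flip (flip_facts.2.2.2 p)).1 h'), ?_, ?_⟩⟩
    · rw [D.cls_flip flip_facts.2.1, D.cls_odd (show ev (8 : Fin 16) = false by decide)]
      exact h
    · rw [D.cls_flip flip_facts.2.2.1, D.cls_odd (show ev (14 : Fin 16) = false by decide)]
      exact h7
  · exact ⟨el, D, Or.inr ⟨hp, h, fun h' => D.no_both hp ⟨h', h⟩⟩⟩

/-- The centralizer of the even part is generated by the centre. -/
theorem self_cent (hN : Nrm el) {g : G} (hg : ∀ x : T, ev x.a = true → g * el x = el x * g) :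
    g = 1 ∨ g = el zz := by
  haveI : Fact (Nat.Prime 2) := ⟨Nat.prime_two⟩
  set C := centralizer ({el zz} : Set G)
  have hgC : g ∈ C := mem_centralizer_singleton_iff.2 (hg zz (by decide))
  obtain ⟨k, m, hm, hk⟩ := Nat.exists_eq_two_pow_mul_odd (orderOf_pos g).ne'
  have h1 : g ^ 2 ^ k = 1 := by
    have h := D.odd_cent_M (n := g ^ 2 ^ k) (pow_mem hgC _) (by
      rw [orderOf_pow' _ (pow_ne_zero _ two_ne_zero), hk, Nat.gcd_mul_right_left,
        Nat.mul_div_cancel_left _ (by positivity)]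
      exact hm) fun x hx => ((show Commute g (el x) from hg x hx).pow_left _).eq
    rwa [D.Oc_zz hN, mem_bot] at h
  obtain ⟨c, hc⟩ := exists_cj_le (S.subtype D.S_cent) (P := (zpowers g).subgroupOf C)
    (isPGroup_zpowers_of h1).comap_subtype
  have hm' := hc ((conj_mem_cj (g := c)).2 (show (⟨g, hgC⟩ : C) ∈ (zpowers g).subgroupOf C from mem_zpowers g))
  rw [Sylow.coe_subtype, mem_subgroupOf] at hm'
  obtain ⟨x, hx⟩ := D.exists_el hm'
  have hx' : el x = (c : G) * g * (c : G)⁻¹ := hx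
  have hxc := cent_M x fun y hy => D.inj (by
    rw [map_mul, map_mul, hx']
    obtain ⟨y', hy', e⟩ := conj_mem_of_normalizer (inv_mem (D.cent_norm hN c.2)) (D.el_mem_evens.2 hy)
    have e' : el y' = (c : G)⁻¹ * el y * (c : G)⁻¹⁻¹ := e
    have h2 := hg y' hy'
    rw [e', inv_inv] at h2
    calc (c : G) * g * (c : G)⁻¹ * el y = c * (g * ((c : G)⁻¹ * el y * c)) * (c : G)⁻¹ := by group
      _ = c * ((c : G)⁻¹ * el y * c * g) * (c : G)⁻¹ := by rw [h2]
      _ = el y * (c * g * (c : G)⁻¹) := by group)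
  have hgx : g = (c : G)⁻¹ * el x * c := by rw [hx']; group
  rcases hxc with rfl | rfl
  · left
    rw [hgx, map_one, mul_one, inv_mul_cancel]
  · right
    rw [hgx, mul_assoc, ← mem_centralizer_singleton_iff.1 c.2, inv_mul_cancel_left]

/-- The three possible groups. -/
theorem classify (hN : Nrm el) : Nonempty (G ≃* alternatingGroup (Fin 8)) ∨ Nonempty (G ≃* alternatingGroup (Fin 9)) ∨
    (∃ (F : Type) (_ : Field F) (_ : Fintype F), Fintype.card F = 3 ∧ Nonempty (G ≃* Cfsg.PSp 2 F)) := by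
  by_cases hp : ∃ q : Fin 4, q ≠ 0 ∧ Cls el (pe q)
  · obtain ⟨q, hq, hc⟩ := hp
    obtain ⟨hcard, hR⟩ := D.count_small hN hq hc
    rcases ident192 D (fun g hg => D.cent_norm hN hg) (fun g hg ho v hv h => D.odd_fix_one hN hv hg ho h) hR hcard
      ⟨pe q, (pe_six q hq).1, hc⟩ with h | h
    exacts [Or.inl h, Or.inr (Or.inl h)]
  · push Not at hp
    obtain ⟨D'⟩ := setup_of_cent el D.inj (fun x => D.S_cent (D.mem_S x))
      (fun g hg x hx => by
        obtain ⟨y, hy, e⟩ := conj_mem_of_normalizer (D.cent_norm hN (mem_centralizer_singleton_iff.2 hg))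
          (D.el_mem_evens.2 hx)
        exact ⟨y, hy, e.symm⟩)
      (fun g hg => D.self_cent hN hg) (D.count_five hN hp)
    obtain ⟨e⟩ := PSpFourInvol.iso_of_setups D' D.res PSpFourInvol.Concrete.setup PSpFourInvol.no_index_two
    haveI : Fact (Nat.Prime 3) := ⟨Nat.prime_three⟩
    obtain ⟨φ⟩ := PSpFourInvol.exists_field_iso (ZMod 3) (ZMod.card 3)
    exact Or.inr (Or.inr ⟨ZMod 3, inferInstance, inferInstance, ZMod.card 3, ⟨e.trans φ⟩⟩)

end Rec

end CfsgLib.A8Rec
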