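import Cfsg.Agent.A8Rec.Fusion

/-!
The possible orbits of the central involution on the base, and elements fixed by the stabilizer of a pair.
-/

set_option autoImplicit false
set_option linter.unusedSectionVars false
set_option linter.style.haveILetI false
set_option maxRecDepth 100000

namespace CfsgLib.A8Rec

open Subgroup CfsgLib.SylL34
open CfsgLib.A8Three

theorem others : ∀ p : Fin 4, p ≠ 0 → ∃ q r : Fin 4, q ≠ 0 ∧ r ≠ 0 ∧ q ≠ p ∧ r ≠ p ∧ q ≠ r ∧
    ∀ s : Fin 4, s ≠ 0 → s = p ∨ s = q ∨ s = r := by decide +kernel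

theorem big_fifteen : ∀ a : Fin 16, (big a = true ↔ a = 15 ∨ (ev a = false ∧ big a = true)) := by decide +kernel

theorem five_iff : five 7 = true ∧ five 11 = true ∧ five 13 = true ∧ five 14 = true ∧
    (∀ a : Fin 16, five a = true ↔ big a = true) := by decide +kernel

theorem act_abelian : ∀ x : T, ∀ p : Fin 4, ∀ a : Fin 16,
    sh x.p (sh p a) = sh p (sh x.p a) := by decide +kernel

theorem conj_vec : ∀ x : T, ∀ a : Fin 16, x * ⟨a, 0⟩ * x⁻¹ = ⟨sh x.p a, 0⟩ := by decide +kernel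

theorem sh_fifteen : ∀ p : Fin 4, sh p 15 = 15 := by decide +kernel

theorem vec14 : ev (14 : Fin 16) = false ∧ big (14 : Fin 16) = true ∧ ev (1 : Fin 16) = false ∧ big (1 : Fin 16) = false ∧
    ev (7 : Fin 16) = false ∧ big (7 : Fin 16) = true := by decide +kernel

theorem six_big : ∀ a : Fin 16, six a = true → big a = false ∧ ev a = true ∧ a ≠ 0 ∧ a ≠ 15 := by decide +kernel

/-- The vector completing a pair to a block of odd weight. -/
def uu (β : Bool) : Fin 16 := if β then 14 else 1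

/-- The vectors outside the class of the centre when two pairs lie in it. -/
def nz (p : Fin 4) (β : Bool) (a : Fin 16) : Bool :=
  a == pe p || a == pe p ^^^ 15 || (!ev a && big a == β)

theorem uu_spec : ∀ p : Fin 4, p ≠ 0 → ∀ β : Bool, ev (uu β) = false ∧ big (uu β) = β ∧
    sh p (uu β) = uu β ^^^ pe p ∧ ev (uu β ^^^ pe p) = false ∧ big (uu β ^^^ pe p) = β := by decide +kernel

theorem uu_five : ∀ p : Fin 4, p ≠ 0 → ∀ y : Fin 16, big y = true → big (y ^^^ pe p) = true →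
    y = uu true ∨ y = uu true ^^^ pe p := by decide +kernel

theorem uu_two : ∀ p : Fin 4, p ≠ 0 → ∀ β : Bool, ∀ y : Fin 16, nz p β y = true → nz p β (y ^^^ pe p) = true →
    y = uu β ∨ y = uu β ^^^ pe p := by decide +kernel

theorem coset_cls : ∀ p : Fin 4, p ≠ 0 → ∀ β : Bool, ∀ a : Fin 16,
    a ≠ 0 → a ≠ pe p → a ≠ uu β → a ≠ uu β ^^^ pe p →
    [0, pe p, uu β, uu β ^^^ pe p].any (fun v : Fin 16 => !nz p β (a ^^^ v) && a ^^^ v != 0) = true := by
  decide +kernel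

theorem pure_four : ∀ p : Fin 4, p ≠ 0 → ∀ β : Bool, ∀ x y : Fin 16, nz p β x = true → nz p β y = true →
    nz p β (x ^^^ y) = true →
    [x, y, x ^^^ y].any (fun v : Fin 16 => six v) = true ∧ [x, y, x ^^^ y].any (fun v : Fin 16 => !ev v) = true := by
  decide +kernel

theorem three_xor : ∀ p q r : Fin 4, p ≠ 0 → q ≠ 0 → r ≠ 0 → p ≠ q → r ≠ p → r ≠ q →
    (pe q ^^^ pe p = pe r ∨ pe q ^^^ pe p = pe r ^^^ 15) ∧
      (pe q ^^^ 15 ^^^ pe p = pe r ∨ pe q ^^^ 15 ^^^ pe p = pe r ^^^ 15) := by decide +kernel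

variable {G : Type*} [Group G] [Finite G] {S : Sylow 2 G} {el : T →* G}

namespace Rec

variable (D : Rec S el)
include D

theorem normS_zz {n : G} (hn : n ∈ normalizer ((S : Subgroup G) : Set G)) : n * el zz * n⁻¹ = el zz := by
  obtain ⟨y, hy⟩ := D.exists_el (conj_mem_of_normalizer hn (D.mem_S zz))
  have hc : ∀ u, y * u = u * y := by
    intro u
    refine D.inj ?_
    obtain ⟨v, hv⟩ := D.exists_el (conj_mem_of_normalizer (inv_mem hn) (D.mem_S u))
    have h1 : el zz * el v = el v * el zz := by rw [← map_mul, ← map_mul, zz_comm v]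
    have h2 : el u = n * el v * n⁻¹ := by rw [hv]; group
    rw [map_mul, map_mul, hy, h2, show n * el zz * n⁻¹ * (n * el v * n⁻¹) = n * (el zz * el v) * n⁻¹ by group, h1]
    group
  rcases center_zz y hc with rfl | rfl
  · rw [map_one, eq_comm, conj_eq_one_iff, D.el_eq_one] at hy
    exact absurd hy (by decide)
  · exact hy.symm

theorem odd_orb {a : Fin 16} (ha : ev a = false) :
    Orb el (base.map el) (if big a then 7 else 1) a := by
  rcases odd_four a ha with ⟨hb, r, rfl⟩ | ⟨hb, r, rfl⟩ <;> rw [hb]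
  · exact D.orb_shift r 7
  · exact D.orb_shift r 1

theorem six_orb {a : Fin 16} (ha : six a = true) : ∃ p : Fin 4, p ≠ 0 ∧ Orb el (base.map el) (pe p) a := by
  obtain ⟨p, r, hp, rfl⟩ := six_rep a ha
  exact ⟨p, hp, D.orb_shift r _⟩

/-- An element of the normalizer exchanging the centre with a pair and commuting with its translation. -/
theorem exch {p : Fin 4} (hp : p ≠ 0) (hc : Cls el (pe p)) :
    ∃ n ∈ normalizer (base.map el : Set G), ∃ c1 c2 c4 : Fin 16,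
      (∀ a, n * el ⟨a, 0⟩ * n⁻¹ = el ⟨lin c1 c2 c4 (last (pe p) c1 c2 c4) a, 0⟩) ∧
        comm p c1 c2 c4 (last (pe p) c1 c2 c4) = true ∧ ok c1 c2 c4 (last (pe p) c1 c2 c4) = true := by
  haveI : Fact (Nat.Prime 2) := ⟨Nat.prime_two⟩
  set A := base.map el
  set N := normalizer (A : Set G)
  obtain ⟨n, hn, hne⟩ := D.cls_orb.1 hc
  set b := el ⟨pe p, 0⟩
  have hne' : n * el zz * n⁻¹ = b := hne
  -- the translation lies in a conjugate of `S` centralizing the pair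
  set Y := N ⊓ centralizer ({b} : Set G)
  have hτY : el ⟨0, p⟩ ∈ Y := ⟨D.S_le (D.mem_S _), mem_centralizer_singleton_iff.2 (by
    rw [← map_mul, ← map_mul, pe_comm p])⟩
  have hSY : cj n (S : Subgroup G) ≤ Y := by
    rintro _ ⟨s, hs, rfl⟩
    refine ⟨N.mul_mem (N.mul_mem hn (D.S_le hs)) (N.inv_mem hn), mem_centralizer_singleton_iff.2 ?_⟩
    show n * s * n⁻¹ * b = b * (n * s * n⁻¹)
    rw [← hne', show n * s * n⁻¹ * (n * el zz * n⁻¹) = n * (s * el zz) * n⁻¹ by group,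
      mem_centralizer_singleton_iff.1 (D.S_cent hs)]
    group
  obtain ⟨Q, hQ⟩ := exists_sylow_eq hSY (S.2.map _) fun R hR hSR _ => by
    obtain ⟨g, hg⟩ := exists_cj_le S hR
    refine (eq_of_le_of_card_ge hSR ?_).ge
    have := card_le_of_le hg
    rwa [card_cj, ← card_cj n (S : Subgroup G)] at this
  obtain ⟨c, hc'⟩ := exists_cj_le Q (P := (zpowers (el ⟨0, p⟩)).subgroupOf Y)
    (isPGroup_zpowers_of (g := el ⟨0, p⟩) (k := 1) (by rw [pow_one, sq, ← map_mul, tau_sq, map_one])).comap_subtype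
  have hτ := hc' ((conj_mem_cj (g := c)).2 (show (⟨_, hτY⟩ : Y) ∈ (zpowers (el ⟨0, p⟩)).subgroupOf Y from
    mem_zpowers (el ⟨0, p⟩)))
  rw [hQ, mem_subgroupOf] at hτ
  obtain ⟨s, hs, hse⟩ := hτ
  obtain ⟨x, rfl⟩ := D.exists_el hs
  set n₁ := (c : G)⁻¹ * n
  have hn₁ : n₁ ∈ N := N.mul_mem (N.inv_mem (mem_inf.1 c.2).1) hn
  have hx : n₁ * el x * n₁⁻¹ = el ⟨0, p⟩ := by
    have hse' : n * el x * n⁻¹ = (c : G) * el ⟨0, p⟩ * (c : G)⁻¹ := hse
    calc n₁ * el x * n₁⁻¹ = (c : G)⁻¹ * (n * el x * n⁻¹) * c := by simp only [n₁]; group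
      _ = _ := by rw [hse']; group
  have hn₁z : n₁ * el zz * n₁⁻¹ = b := by
    calc n₁ * el zz * n₁⁻¹ = (c : G)⁻¹ * (n * el zz * n⁻¹) * c := by simp only [n₁]; group
      _ = (c : G)⁻¹ * (b * c) := by rw [hne']; group
      _ = b := by rw [← mem_centralizer_singleton_iff.1 (mem_inf.1 c.2).2]; group
  -- the centralizer of the translation in the automizer
  let φ : N →* MulAut A := A.normalizerMonoidHom
  have hφ : ∀ (g : N) (a : A), ((φ g a : A) : G) = g * a * (g : G)⁻¹ := fun _ _ => rfl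
  set K := (centralizer ({φ ⟨el ⟨0, p⟩, D.S_le (D.mem_S _)⟩} : Set (MulAut A))).comap φ
  have hK : ∀ g : N, g ∈ K ↔ ∀ a : Fin 16, (g : G) * (el ⟨0, p⟩ * el ⟨a, 0⟩ * (el ⟨0, p⟩)⁻¹) * (g : G)⁻¹ =
      el ⟨0, p⟩ * ((g : G) * el ⟨a, 0⟩ * (g : G)⁻¹) * (el ⟨0, p⟩)⁻¹ := by
    intro g
    rw [mem_comap, mem_centralizer_singleton_iff]
    constructor
    · intro h a
      exact congrArg Subtype.val (MulEquiv.ext_iff.1 h ⟨_, D.mem_A a⟩)
    · intro h
      refine MulEquiv.ext fun ⟨y, hy⟩ => Subtype.ext ?_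
      obtain ⟨a, rfl⟩ := D.exists_vec hy
      exact h a
  have hact : ∀ (w v : T) (y : G), y ∈ A →
      el w * (el v * y * (el v)⁻¹) * (el w)⁻¹ = el v * (el w * y * (el w)⁻¹) * (el v)⁻¹ := by
    intro w v y hy
    obtain ⟨a, rfl⟩ := D.exists_vec hy
    simp only [← map_inv, ← map_mul, conj_vec]
    exact congrArg el (by rw [act_abelian])
  have hSK : (S.subtype D.S_le : Subgroup N) ≤ K := fun g hg => by
    rw [Sylow.coe_subtype, mem_subgroupOf] at hg
    obtain ⟨w, hw⟩ := D.exists_el hg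
    rw [hK]
    intro a
    rw [← hw]
    exact hact w _ _ (D.mem_A a)
  have hS'K : (cj n₁ (S : Subgroup G)).subgroupOf N ≤ K := fun g hg => by
    obtain ⟨_, hw, hwe⟩ := hg
    obtain ⟨w, rfl⟩ := D.exists_el hw
    rw [hK]
    intro a
    have e : n₁ * el w * n₁⁻¹ = (g : G) := hwe
    rw [← e, ← hx]
    have h1 := hact w x _ (conj_mem_of_normalizer (inv_mem hn₁) (D.mem_A a))
    calc n₁ * el w * n₁⁻¹ * (n₁ * el x * n₁⁻¹ * el ⟨a, 0⟩ * (n₁ * el x * n₁⁻¹)⁻¹) * (n₁ * el w * n₁⁻¹)⁻¹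
        = n₁ * (el w * (el x * (n₁⁻¹ * el ⟨a, 0⟩ * n₁⁻¹⁻¹) * (el x)⁻¹) * (el w)⁻¹) * n₁⁻¹ := by group
      _ = n₁ * (el x * (el w * (n₁⁻¹ * el ⟨a, 0⟩ * n₁⁻¹⁻¹) * (el w)⁻¹) * (el x)⁻¹) * n₁⁻¹ := by rw [h1]
      _ = _ := by group
  obtain ⟨m, hm⟩ := exists_cj_le ((S.subtype D.S_le).subtype hSK)
    (P := ((cj n₁ (S : Subgroup G)).subgroupOf N).subgroupOf K) ((S.2.map _).comap_subtype).comap_subtype
  have hmem : ∀ s ∈ (S : Subgroup G), ((m : N) : G) * n₁ * s * (((m : N) : G) * n₁)⁻¹ ∈ (S : Subgroup G) := by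
    intro s hs
    have hsN : n₁ * s * n₁⁻¹ ∈ N := N.mul_mem (N.mul_mem hn₁ (D.S_le hs)) (N.inv_mem hn₁)
    have hin : (⟨_, hsN⟩ : N) ∈ (cj n₁ (S : Subgroup G)).subgroupOf N := conj_mem_cj.2 hs
    have := hm ((conj_mem_cj (g := m)).2 (show (⟨_, hS'K hin⟩ : K) ∈
      ((cj n₁ (S : Subgroup G)).subgroupOf N).subgroupOf K from hin))
    rw [Sylow.coe_subtype, mem_subgroupOf, Sylow.coe_subtype, mem_subgroupOf] at this
    simpa only [Subgroup.coe_mul, Subgroup.coe_inv, mul_inv_rev, mul_assoc] using this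
  have hmz : ((m : N) : G) * b * ((m : N) : G)⁻¹ = el zz := by
    have h1 := D.normS_zz (n := ((m : N) : G) * n₁) (mem_normalizer_of_conj_mem hmem)
    calc ((m : N) : G) * b * ((m : N) : G)⁻¹
        = ((m : N) : G) * n₁ * el zz * (((m : N) : G) * n₁)⁻¹ := by rw [← hn₁z]; group
      _ = el zz := h1
  set n₂ := ((m : N) : G)⁻¹
  have hn₂ : n₂ ∈ N := N.inv_mem (m : N).2
  obtain ⟨c1, c2, c4, c8, hlin⟩ := D.exists_lin hn₂
  have h15 : lin c1 c2 c4 c8 15 = pe p := D.vec_inj (by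
    rw [← hlin, show (⟨15, 0⟩ : T) = zz from rfl, ← hmz]
    show ((m : N) : G)⁻¹ * (((m : N) : G) * b * ((m : N) : G)⁻¹) * ((m : N) : G)⁻¹⁻¹ = b
    group)
  obtain rfl := last_eq _ _ _ _ _ h15
  refine ⟨n₂, hn₂, c1, c2, c4, hlin, ?_, D.lin_ok hn₂ hlin⟩
  have hcomm : ∀ a, sh p (lin c1 c2 c4 (last (pe p) c1 c2 c4) a) = lin c1 c2 c4 (last (pe p) c1 c2 c4) (sh p a) := by
    intro a
    refine D.vec_inj ?_
    have h1 := (hK _).1 (K.inv_mem m.2) a
    have e : (((m : N)⁻¹ : N) : G) = n₂ := rfl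
    rw [e] at h1
    rw [← hlin, ← conj_base, map_mul, map_mul, map_inv, ← hlin, ← conj_base, map_mul, map_mul, map_inv]
    exact h1.symm
  have hb : ∀ c1 c2 c4 c8 : Fin 16, lin c1 c2 c4 c8 1 = c1 ∧ lin c1 c2 c4 c8 2 = c2 ∧ lin c1 c2 c4 c8 4 = c4 ∧
      lin c1 c2 c4 c8 8 = c8 := fun a b c d => by
    have h0 : ∀ x : Fin 16, x ^^^ 0 = x ∧ 0 ^^^ x = x := by decide +kernel
    simp (config := { decide := true }) [lin, h0]
  obtain ⟨e1, e2, e4, e8⟩ := hb c1 c2 c4 (last (pe p) c1 c2 c4)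
  have g1 := hcomm 1
  have g2 := hcomm 2
  have g4 := hcomm 4
  have g8 := hcomm 8
  rw [e1] at g1
  rw [e2] at g2
  rw [e4] at g4
  rw [e8] at g8
  simp [comm, g1, g2, g4, g8]

/-- A pair in the class of the centre links the two other pairs with the two blocks of odd weight. -/
theorem link {p q r : Fin 4} (hp : p ≠ 0) (hq : q ≠ 0) (hr : r ≠ 0) (hqp : q ≠ p) (hrp : r ≠ p) (hqr : q ≠ r)
    (hc : Cls el (pe p)) : ∃ β : Bool, Orb el (base.map el) (pe q) (if β then 7 else 1) ∧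
      Orb el (base.map el) (pe r) (if β then 1 else 7) := by
  obtain ⟨n, hn, c1, c2, c4, hlin, hcm, hok⟩ := D.exch hp hc
  have h := pair_link p hp c1 c2 c4
  rw [hcm, hok, Bool.not_true, Bool.false_or, Bool.false_or, List.all_eq_true] at h
  have hm : ∀ x : Fin 4, x ≠ 0 → x ∈ ([1, 2, 3] : List (Fin 4)) := by decide +kernel
  have h2 := List.all_eq_true.1 (h q (hm q hq)) r (hm r hr)
  simp only [Bool.or_eq_true, beq_iff_eq, hqp, hrp, hqr, false_or, Bool.and_eq_true, Bool.not_eq_true', bne_iff_ne] at h2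
  obtain ⟨⟨h3, h4⟩, h5⟩ := h2
  set L := lin c1 c2 c4 (last (pe p) c1 c2 c4)
  refine ⟨big (L (pe q)), (D.map_orb hn hlin _).trans (D.odd_orb h3).symm, ?_⟩
  have := (D.map_orb hn hlin (pe r)).trans (D.odd_orb h4).symm
  revert h5 this
  cases big (L (pe q)) <;> cases big (L (pe r)) <;> simp

theorem cls_odd {a : Fin 16} (ha : ev a = false) : Cls el a ↔ Cls el (if big a then 7 else 1) :=
  (D.cls_congr (D.odd_orb ha)).symm

/-- Not all pairs lie in the class of the centre. -/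
theorem no_all : ∃ p : Fin 4, p ≠ 0 ∧ ¬ Cls el (pe p) := by
  by_contra hcon
  push Not at hcon
  have key : ∀ p : Fin 4, p ≠ 0 → ∃ n ∈ normalizer (base.map el : Set G), ∃ c ∈ cands p,
      ∀ a, n * el ⟨a, 0⟩ * n⁻¹ = el ⟨cmap p c a, 0⟩ := by
    intro p hp
    obtain ⟨n, hn, c1, c2, c4, hlin, hcm, hok⟩ := D.exch hp (hcon p hp)
    refine ⟨n, hn, (c1, c2, c4), ?_, hlin⟩
    simp only [cands, List.mem_filter, List.mem_flatMap, List.mem_map, List.mem_finRange, true_and,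
      Prod.mk.injEq, Bool.and_eq_true]
    exact ⟨⟨c1, c2, c4, rfl, rfl, rfl⟩, hcm, hok⟩
  have hbad : ∀ {n m : G} {f g : Fin 16 → Fin 16}, n ∈ normalizer (base.map el : Set G) →
      m ∈ normalizer (base.map el : Set G) → (∀ a, n * el ⟨a, 0⟩ * n⁻¹ = el ⟨f a, 0⟩) →
      (∀ a, m * el ⟨a, 0⟩ * m⁻¹ = el ⟨g a, 0⟩) → bad f g = false := by
    intro n m f g hn hm hf hg
    have hu : ∀ (u : Fin 4) (a : Fin 16),
        el ⟨0, u⟩ * (n * m) * el ⟨a, 0⟩ * (el ⟨0, u⟩ * (n * m))⁻¹ = el ⟨sh u (f (g a)), 0⟩ := fun u a => by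
      rw [show el ⟨0, u⟩ * (n * m) * el ⟨a, 0⟩ * (el ⟨0, u⟩ * (n * m))⁻¹ =
        el ⟨0, u⟩ * (n * (m * el ⟨a, 0⟩ * m⁻¹) * n⁻¹) * (el ⟨0, u⟩)⁻¹ by group,
        hg, hf, ← map_inv, ← map_mul, ← map_mul, conj_base]
    have hmem : ∀ u, el ⟨0, u⟩ * (n * m) ∈ normalizer (base.map el : Set G) := fun u =>
      mul_mem (D.S_le (D.mem_S _)) (mul_mem hn hm)
    have h0 : ∀ a, n * m * el ⟨a, 0⟩ * (n * m)⁻¹ = el ⟨f (g a), 0⟩ := fun a => by rw [← hf, ← hg]; group
    simp only [bad, Bool.or_eq_false_iff]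
    exact ⟨⟨⟨D.no_four (mul_mem hn hm) h0, D.no_four (hmem 1) (hu 1)⟩, D.no_four (hmem 2) (hu 2)⟩,
      D.no_four (hmem 3) (hu 3)⟩
  obtain ⟨n1, hn1, a, ha, h1⟩ := key 1 (by decide)
  obtain ⟨n2, hn2, b, hb, h2⟩ := key 2 (by decide)
  obtain ⟨n3, hn3, c, hc, h3⟩ := key 3 (by decide)
  have h := List.all_eq_true.1 (List.all_eq_true.1 no_triple a ha) b hb
  rw [hbad hn1 hn2 h1 h2, Bool.false_or] at h
  have h' := List.all_eq_true.1 h c hc
  rw [hbad hn1 hn3 h1 h3, hbad hn2 hn3 h2 h3] at h'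
  exact Bool.false_ne_true h'

/-- Without a pair in the class of the centre, at most one block of odd weight is in it. -/
theorem no_both (hP : ∀ p : Fin 4, p ≠ 0 → ¬ Cls el (pe p)) : ¬ (Cls el 1 ∧ Cls el 7) := by
  rintro ⟨h1, h7⟩
  obtain ⟨n, hn, hne⟩ := D.cls_orb.1 h1
  obtain ⟨c1, c2, c4, c8, hlin⟩ := D.exists_lin hn
  have h15 : lin c1 c2 c4 c8 15 = 1 := D.vec_inj ((hlin 15).symm.trans hne)
  obtain rfl := last_eq _ _ _ _ _ h15
  set L := lin c1 c2 c4 (last 1 c1 c2 c4)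
  have hsix : ∀ a : Fin 16, six a = true → six (L a) = true := by
    intro a ha
    obtain ⟨p, hp, ho⟩ := D.six_orb ha
    have hna : ¬ Cls el (L a) := fun h => hP p hp ((D.cls_congr (ho.trans (D.map_orb hn hlin a))).2 h)
    rcases kind_cases (L a) with h | h | h | h
    · exfalso
      have e := hlin a
      rw [h, show (⟨0, 0⟩ : T) = 1 from rfl, map_one, conj_eq_one_iff, D.el_eq_one] at e
      exact (six_big a ha).2.2.1 (congrArg T.a e)
    · exact absurd (h ▸ D.cls_15) hna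
    · exact h
    · refine absurd ((D.cls_odd h).2 ?_) hna
      cases big (L a)
      · exact h1
      · exact h7
  have h := no_nine c1 c2 c4
  rw [D.lin_ok hn hlin, hsix 3 (by decide), hsix 5 (by decide), hsix 9 (by decide)] at h
  exact Bool.false_ne_true h

/-- A pair in the class keeps one other pair and a block of odd weight out of it. -/
theorem shape_one {q : Fin 4} (hq : q ≠ 0) (hc : Cls el (pe q))
    (h1 : ∀ s : Fin 4, s ≠ 0 → Cls el (pe s) → s = q) :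
    ∀ a : Fin 16, Cls el a ↔ a = 15 ∨ a = pe q ∨ a = pe q ^^^ 15 := by
  intro a
  constructor
  · intro h
    rcases kind_cases a with ha | ha | ha | ha
    · exact absurd (ha ▸ h) D.not_cls_zero
    · exact Or.inl ha
    · obtain ⟨p, r, hp, rfl⟩ := six_rep a ha
      obtain rfl := h1 p hp ((D.cls_congr (D.orb_shift r _)).2 h)
      have : ∀ p r : Fin 4, p ≠ 0 → sh r (pe p) = pe p ∨ sh r (pe p) = pe p ^^^ 15 := by decide +kernel
      exact Or.inr (this p r hp)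
    · exfalso
      obtain ⟨p, r, hp, hr, hpq, hrq, hpr, -⟩ := others q hq
      obtain ⟨β, o1, o2⟩ := D.link hq hp hr hpq hrq hpr hc
      have h' := (D.cls_odd ha).1 h
      have hP : ¬ Cls el (pe p) := fun e => hpq (h1 p hp e)
      have hR : ¬ Cls el (pe r) := fun e => hrq (h1 r hr e)
      revert o1 o2 h'
      cases β <;> cases big a <;> intro o1 o2 h'
      exacts [hP ((D.cls_congr o1).2 h'), hR ((D.cls_congr o2).2 h'), hR ((D.cls_congr o2).2 h'),
        hP ((D.cls_congr o1).2 h')]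
  · rintro (rfl | rfl | rfl)
    exacts [D.cls_15, hc, (D.cls_congr (D.orb_flip hq)).1 hc]

/-- Two pairs in the class: it is the complement of a pair and a block of odd weight. -/
theorem shape_two {p q q' : Fin 4} (hp : p ≠ 0) (hq : q ≠ 0) (hq' : q' ≠ 0) (hqp : q ≠ p) (hq'p : q' ≠ p)
    (hqq : q ≠ q') (hP : ¬ Cls el (pe p)) (hc : Cls el (pe q)) (hc' : Cls el (pe q')) :
    ∃ β : Bool, (∀ a : Fin 16, Cls el a ↔ a ≠ 0 ∧ nz p β a = false) ∧
      Orb el (base.map el) (pe p) (if β then 7 else 1) := by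
  obtain ⟨β, o1, o2⟩ := D.link hq hp hq' hqp.symm hqq.symm hq'p.symm hc
  refine ⟨β, fun a => ?_, o1⟩
  have hfl : ∀ s : Fin 4, s ≠ 0 → (Cls el (pe s ^^^ 15) ↔ Cls el (pe s)) := fun s hs =>
    (D.cls_congr (D.orb_flip hs)).symm
  rcases kind_cases a with ha | ha | ha | ha
  · subst ha
    exact iff_of_false D.not_cls_zero (fun h => h.1 rfl)
  · subst ha
    refine iff_of_true D.cls_15 ⟨by decide, ?_⟩
    have : ∀ p : Fin 4, ∀ β : Bool, p ≠ 0 → nz p β 15 = false := by decide +kernel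
    exact this p β hp
  · have hs : ∀ a : Fin 16, six a = true → a ≠ 0 ∧ ∃ s : Fin 4, s ≠ 0 ∧ (a = pe s ∨ a = pe s ^^^ 15) := by
      decide +kernel
    obtain ⟨ha0, s, hs0, hsa⟩ := hs a ha
    have hnz : ∀ p s : Fin 4, ∀ β : Bool, p ≠ 0 → s ≠ 0 → nz p β (pe s) = (s == p) ∧ nz p β (pe s ^^^ 15) = (s == p) := by
      decide +kernel
    obtain ⟨e1, e2⟩ := hnz p s β hp hs0
    have hsq : s = p ∨ s = q ∨ s = q' := by
      revert hp hq hq' hqp hq'p hqq hs0
      clear * - s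
      revert p q q' s
      decide +kernel
    have hiff : Cls el a ↔ s ≠ p := by
      have h0 : Cls el a ↔ Cls el (pe s) := by rcases hsa with rfl | rfl; exacts [Iff.rfl, hfl s hs0]
      rw [h0]
      rcases hsq with rfl | rfl | rfl
      · exact iff_of_false hP (fun h => h rfl)
      · exact iff_of_true hc hqp
      · exact iff_of_true hc' hq'p
    rw [hiff]
    rcases hsa with rfl | rfl
    · simp [ha0, e1]
    · simp [ha0, e2]
  · have hodd : ∀ p : Fin 4, ∀ β : Bool, ∀ a : Fin 16, p ≠ 0 → ev a = false →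
        a ≠ 0 ∧ nz p β a = (big a == β) := by decide +kernel
    obtain ⟨ha0, e1⟩ := hodd p β a hp ha
    rw [D.cls_odd ha, e1]
    revert o1 o2
    cases β <;> cases big a <;> intro o1 o2
    · exact iff_of_false (fun h => hP ((D.cls_congr o1).2 h)) (fun h => by simp at h)
    · exact iff_of_true ((D.cls_congr o2).1 hc') ⟨ha0, by simp⟩
    · exact iff_of_true ((D.cls_congr o2).1 hc') ⟨ha0, by simp⟩
    · exact iff_of_false (fun h => hP ((D.cls_congr o1).2 h)) (fun h => by simp at h)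

/-- The normalised situation with a nontrivial orbit. -/
def Nrm (el : T →* G) : Prop :=
  (∃ p : Fin 4, p ≠ 0 ∧ Cls el (pe p)) ∨ ((∀ p : Fin 4, p ≠ 0 → ¬ Cls el (pe p)) ∧ Cls el 7 ∧ ¬ Cls el 1)

theorem shape_five (hP : ∀ p : Fin 4, p ≠ 0 → ¬ Cls el (pe p)) (h7 : Cls el 7) (h1 : ¬ Cls el 1) :
    ∀ a : Fin 16, Cls el a ↔ big a = true := by
  intro a
  rcases kind_cases a with ha | ha | ha | ha
  · subst ha; exact iff_of_false D.not_cls_zero (by decide)
  · subst ha; exact iff_of_true D.cls_15 (by decide)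
  · obtain ⟨p, hp, ho⟩ := D.six_orb ha
    exact iff_of_false (fun h => hP p hp ((D.cls_congr ho).2 h)) (by rw [(six_big a ha).1]; simp)
  · rw [D.cls_odd ha]
    cases big a
    · exact iff_of_false h1 (by simp)
    · exact iff_of_true h7 rfl

/-- Every element outside the class is conjugate to a pair. -/
theorem rep (hN : Nrm el) {a : Fin 16} (ha : a ≠ 0) :
    Cls el a ∨ ∃ p : Fin 4, p ≠ 0 ∧ ¬ Cls el (pe p) ∧ Orb el (base.map el) (pe p) a := by
  by_cases hc : Cls el a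
  · exact Or.inl hc
  refine Or.inr ?_
  have close : ∀ p : Fin 4, p ≠ 0 → Orb el (base.map el) (pe p) a →
      ∃ p : Fin 4, p ≠ 0 ∧ ¬ Cls el (pe p) ∧ Orb el (base.map el) (pe p) a :=
    fun p hp ho => ⟨p, hp, fun h => hc ((D.cls_congr ho).1 h), ho⟩
  rcases kind_cases a with h | h | h | h
  · exact absurd h ha
  · exact absurd (h ▸ D.cls_15) hc
  · obtain ⟨p, hp, ho⟩ := D.six_orb h
    exact close p hp ho
  rcases hN with ⟨p, hp, hP⟩ | ⟨hP, h7, h1⟩
  · obtain ⟨q, r, hq, hr, hqp, hrp, hqr, -⟩ := others p hp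
    obtain ⟨β, o1, o2⟩ := D.link hp hq hr hqp hrp hqr hP
    have ho := D.odd_orb h
    revert o1 o2 ho
    cases β <;> cases big a <;> intro o1 o2 ho
    exacts [close q hq (o1.trans ho), close r hr (o2.trans ho), close r hr (o2.trans ho), close q hq (o1.trans ho)]
  · have hsh := D.shape_five hP h7 h1
    obtain ⟨n, hn, hne⟩ := D.cls_orb.1 ((hsh 14).2 vec14.2.1)
    obtain ⟨c1, c2, c4, c8, hlin⟩ := D.exists_lin hn
    obtain rfl := last_eq _ _ _ _ _ (D.vec_inj ((hlin 15).symm.trans hne))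
    set L := lin c1 c2 c4 (last 14 c1 c2 c4)
    have hL : ∀ x : Fin 16, big x = true → five (L x) = true := fun x hx => by
      rw [five_iff.2.2.2.2, ← hsh, ← D.cls_congr (D.map_orb hn hlin x)]
      exact (hsh x).2 hx
    have hp := five_pair c1 c2 c4
    rw [hL 7 (by decide), hL 11 (by decide), hL 13 (by decide), hL 14 (by decide), D.lin_ok hn hlin] at hp
    simp only [Bool.and_self, Bool.not_true, Bool.false_or, List.any_eq_true, Bool.and_eq_true, Bool.not_eq_true'] at hp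
    obtain ⟨p, hpm, he, hb⟩ := hp
    have hp0 : p ≠ 0 := by rintro rfl; simp at hpm
    refine close p hp0 ((D.map_orb hn hlin (pe p)).trans ((D.odd_orb he).symm.trans ?_))
    have hba : big a = false := by
      rw [← Bool.not_eq_true]
      exact fun h' => hc ((hsh a).2 h')
    have := D.odd_orb h
    rw [hba] at this
    rwa [hb]

/-- An element fixed by the stabilizer of a pair outside the class. -/
theorem stab (hN : Nrm el) {p : Fin 4} (hp : p ≠ 0) (hP : ¬ Cls el (pe p)) :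
    ∃ u : Fin 16, u ≠ 0 ∧ u ≠ pe p ∧ (sh p u = u ∨ sh p u = u ^^^ pe p) ∧
      (∀ n ∈ normalizer (base.map el : Set G), n * el ⟨pe p, 0⟩ * n⁻¹ = el ⟨pe p, 0⟩ →
        n * el ⟨u, 0⟩ * n⁻¹ = el ⟨u, 0⟩ ∨ n * el ⟨u, 0⟩ * n⁻¹ = el ⟨u ^^^ pe p, 0⟩) ∧
      ((Cls el u ∧ ∀ q q' : Fin 4, q ≠ 0 → q' ≠ 0 → Cls el (pe q) → Cls el (pe q') → q = q') ∨
        ∃ β : Bool, u = uu β ∧ (∀ a : Fin 16, Cls el a ↔ a ≠ 0 ∧ nz p β a = false)) := by
  have img : ∀ {n : G}, n ∈ normalizer (base.map el : Set G) → n * el ⟨pe p, 0⟩ * n⁻¹ = el ⟨pe p, 0⟩ → ∀ u,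
      ∃ y, n * el ⟨u, 0⟩ * n⁻¹ = el ⟨y, 0⟩ ∧ Orb el (base.map el) u y ∧
        Orb el (base.map el) (u ^^^ pe p) (y ^^^ pe p) := by
    intro n hn hb u
    obtain ⟨y, hy⟩ := D.exists_vec (conj_mem_of_normalizer hn (D.mem_A u))
    refine ⟨y, hy.symm, ⟨n, hn, hy.symm⟩, n, hn, ?_⟩
    rw [← vec_mul u, map_mul, ← vec_mul y, map_mul, hy]
    conv_rhs => rw [← hb]
    group
  rcases hN with ⟨q, hq, hQ⟩ | ⟨hP0, h7, h1⟩
  swap
  · have hsh := D.shape_five hP0 h7 h1
    obtain ⟨u1, u2, u3, u4, u5⟩ := uu_spec p hp true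
    refine ⟨uu true, fun e => ?_, fun e => ?_, Or.inr u3, fun n hn hb => ?_,
      Or.inl ⟨(hsh _).2 u2, fun s _ hs _ h _ => absurd h (hP0 s hs)⟩⟩
    · rw [e] at u1; exact absurd u1 (by decide)
    · rw [e, (pe_xor p p).2.1] at u1; exact Bool.false_ne_true u1.symm
    · obtain ⟨y, hy, o1, o2⟩ := img hn hb (uu true)
      rcases uu_five p hp y ((hsh y).1 ((D.cls_congr o1).1 ((hsh _).2 u2)))
        ((hsh _).1 ((D.cls_congr o2).1 ((hsh _).2 u5))) with rfl | rfl
      exacts [Or.inl hy, Or.inr hy]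
  have hqp : q ≠ p := fun e => hP (e ▸ hQ)
  by_cases h2 : ∃ q' : Fin 4, q' ≠ 0 ∧ q' ≠ q ∧ Cls el (pe q')
  · obtain ⟨q', hq', hq'q, hQ'⟩ := h2
    have hq'p : q' ≠ p := fun e => hP (e ▸ hQ')
    obtain ⟨β, hsh, -⟩ := D.shape_two hp hq hq' hqp hq'p (Ne.symm hq'q) hP hQ hQ'
    obtain ⟨u1, u2, u3, u4, u5⟩ := uu_spec p hp β
    refine ⟨uu β, fun e => ?_, fun e => ?_, Or.inr u3, fun n hn hb => ?_, Or.inr ⟨β, rfl, hsh⟩⟩
    · rw [e] at u1; exact absurd u1 (by decide)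
    · rw [e, (pe_xor p p).2.1] at u1; exact Bool.false_ne_true u1.symm
    · obtain ⟨y, hy, o1, o2⟩ := img hn hb (uu β)
      have key : ∀ x y : Fin 16, Orb el (base.map el) x y → ev x = false → big x = β → nz p β y = true := by
        intro x y ho hx hxb
        have hnx : ¬ Cls el x := fun h => by
          have := ((hsh x).1 h).2
          have e : nz p β x = true := by simp [nz, hx, hxb]
          rw [e] at this
          exact Bool.false_ne_true this.symm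
        by_contra hy
        refine hnx ((D.cls_congr ho).2 ((hsh y).2 ⟨?_, by simpa using hy⟩))
        rintro rfl
        obtain ⟨m, hm, e⟩ := ho
        rw [show (⟨0, 0⟩ : T) = 1 from rfl, map_one, conj_eq_one_iff, D.el_eq_one] at e
        rw [show x = 0 from congrArg T.a e] at hx
        exact absurd hx (by decide)
      rcases uu_two p hp β y (key _ _ o1 u1 u2) (key _ _ o2 u4 u5) with rfl | rfl
      exacts [Or.inl hy, Or.inr hy]
  push Not at h2
  have hsh := D.shape_one hq hQ fun s hs h => by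
    by_contra hne
    exact h2 s hs hne h
  obtain ⟨hp6, hp0, hp15⟩ := pe_six p hp
  refine ⟨15, by decide, Ne.symm hp15, Or.inl (sh_fifteen p), fun n hn hb => ?_,
    Or.inl ⟨D.cls_15, fun s t hs ht h h' => ?_⟩⟩
  swap
  · have key : ∀ x : Fin 4, x ≠ 0 → Cls el (pe x) → x = q := fun x hx hxc => by
      by_contra hne
      exact h2 x hx hne hxc
    exact (key s hs h).trans (key t ht h').symm
  obtain ⟨y, hy, o1, o2⟩ := img hn hb 15
  rcases (hsh y).1 ((D.cls_congr o1).1 D.cls_15) with rfl | hyq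
  · exact Or.inl hy
  exfalso
  obtain ⟨s, t, hs, ht, hsp, htp, hst, hall⟩ := others p hp
  obtain ⟨r, hr, hrp, hrq⟩ : ∃ r : Fin 4, r ≠ 0 ∧ r ≠ p ∧ r ≠ q := by
    by_cases h : s = q
    · exact ⟨t, ht, htp, fun e => hst (h.trans e.symm)⟩
    · exact ⟨s, hs, hsp, h⟩
  obtain ⟨e1, e2⟩ := three_xor p q r hp hq hr hqp.symm hrp hrq
  have hbr : Orb el (base.map el) (pe p) (pe r) := by
    refine (D.orb_flip hp).trans ?_
    have h15 : pe p ^^^ 15 = 15 ^^^ pe p := by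
      have : ∀ x : Fin 16, x ^^^ 15 = 15 ^^^ x := by decide +kernel
      exact this _
    rw [h15]
    refine o2.trans ?_
    rcases hyq with rfl | rfl
    · rcases e1 with e | e <;> rw [e]
      exacts [Orb.rfl' _ _ _, (D.orb_flip hr).symm]
    · rcases e2 with e | e <;> rw [e]
      exacts [Orb.rfl' _ _ _, (D.orb_flip hr).symm]
  obtain ⟨m, hm, hme⟩ := hbr
  obtain ⟨c1, c2, c4, c8, hlin⟩ := D.exists_lin hm
  have hq3 : ∀ x, Cls el x → three q x = true := fun x hx => by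
    rcases (hsh x).1 hx with rfl | rfl | rfl <;> simp [three]
  have hLc : ∀ x, Cls el x → Cls el (lin c1 c2 c4 c8 x) := fun x hx => (D.cls_congr (D.map_orb hm hlin x)).1 hx
  obtain ⟨t', ht'⟩ : ∃ t', lin c1 c2 c4 c8 15 = t' := ⟨_, rfl⟩
  obtain rfl := last_eq t' c1 c2 c4 c8 ht'
  have hmg := no_merge q p r hq hp hr hqp.symm hrq hrp c1 c2 c4
  have htm : t' ∈ ([15, pe q, pe q ^^^ 15] : List (Fin 16)) := by
    rcases (hsh t').1 (ht' ▸ hLc 15 D.cls_15) with e | e | e <;> simp [e]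
  have h := List.all_eq_true.1 hmg t' htm
  have e1' : lin c1 c2 c4 (last t' c1 c2 c4) (pe p) = pe r := D.vec_inj ((hlin _).symm.trans hme)
  rw [e1', hq3 _ (hLc _ hQ), D.lin_ok hm hlin] at h
  simp at h

end Rec

end CfsgLib.A8Rec
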