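import Cfsg.Agent.A8Three.Model
import Cfsg.Agent.PSpFourInvol.Code

/-!
The even part of the model as a central product of two quaternion groups, and the coordinates of
`SL₂(3)` over one of them.
-/

set_option autoImplicit false
set_option linter.style.longLine false
set_option maxRecDepth 100000

namespace CfsgLib.A8Rec

open CfsgLib.A8Three

/-- Generators of the first quaternion group. -/
def qi : T := ⟨5, 1⟩
/-- Second generator. -/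
def qj : T := ⟨6, 2⟩
/-- Their product. -/
def qk : T := ⟨12, 3⟩
/-- The involution exchanging the two quaternion groups. -/
def qw : T := ⟨7, 0⟩

/-- The first quaternion group. -/
def qL : List T := [⟨0, 0⟩, ⟨15, 0⟩, ⟨5, 1⟩, ⟨10, 1⟩, ⟨6, 2⟩, ⟨9, 2⟩, ⟨3, 3⟩, ⟨12, 3⟩]

/-- The second quaternion group. -/
def qL' : List T := qL.map fun x => qw * x * qw

/-- The automorphism of order three. -/
def sg (x : T) : T :=
  if x = ⟨5, 1⟩ then ⟨6, 2⟩ else if x = ⟨10, 1⟩ then ⟨9, 2⟩ else if x = ⟨6, 2⟩ then ⟨12, 3⟩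
  else if x = ⟨9, 2⟩ then ⟨3, 3⟩ else if x = ⟨12, 3⟩ then ⟨5, 1⟩ else if x = ⟨3, 3⟩ then ⟨10, 1⟩ else x

/-- The quaternion coordinate of a code. -/
def qs : PSpFourInvol.S → T :=
  ![⟨0, 0⟩, ⟨15, 0⟩, ⟨5, 1⟩, ⟨9, 2⟩, ⟨0, 0⟩, ⟨10, 1⟩, ⟨15, 0⟩, ⟨6, 2⟩, ⟨5, 1⟩, ⟨9, 2⟩, ⟨10, 1⟩, ⟨6, 2⟩,
    ⟨15, 0⟩, ⟨12, 3⟩, ⟨12, 3⟩, ⟨12, 3⟩, ⟨6, 2⟩, ⟨10, 1⟩, ⟨3, 3⟩, ⟨3, 3⟩, ⟨3, 3⟩, ⟨5, 1⟩, ⟨0, 0⟩, ⟨9, 2⟩]

/-- The exponent coordinate of a code. -/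
def cs : PSpFourInvol.S → Fin 3 :=
  ![0, 0, 0, 2, 1, 0, 1, 2, 2, 1, 1, 0, 2, 2, 1, 0, 1, 2, 2, 0, 1, 1, 2, 0]

theorem qs_mul : ∀ a b : PSpFourInvol.S,
    qs (PSpFourInvol.sm a b) = qs a * sg^[(cs a).val] (qs b) ∧ cs (PSpFourInvol.sm a b) = cs a + cs b := by
  decide +kernel

theorem qs_mem : ∀ a : PSpFourInvol.S, qs a ∈ qL := by decide +kernel
theorem qs_surj : ∀ x ∈ qL, ∃ a : PSpFourInvol.S, qs a = x ∧ cs a = 0 := by decide +kernel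
theorem qs_special : qs 0 = 1 ∧ cs 0 = 0 ∧ qs 1 = zz ∧ cs 1 = 0 ∧ qs 4 = 1 ∧ cs 4 = 1 := by decide +kernel

theorem qL_even : ∀ x ∈ qL, ev x.a = true ∧ ev (qw * x * qw).a = true := by decide +kernel
theorem qw_four : ∀ x ∈ qL, x * x = zz → qw * x * qw * (qw * x * qw) = zz := by decide +kernel
theorem sg_mem : ∀ x ∈ qL, sg x ∈ qL := by decide +kernel
theorem sg_three : ∀ x ∈ qL, sg (sg (sg x)) = x := by decide +kernel
theorem qL_words : ∀ x ∈ qL, ∃ n : Fin 4, ∃ m : Fin 2, x = qi ^ n.val * qj ^ m.val := by decide +kernel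
theorem sg_words : ∀ n : Fin 4, ∀ m : Fin 2, sg (qi ^ n.val * qj ^ m.val) = qj ^ n.val * qk ^ m.val := by
  decide +kernel
theorem qgen_mem : qi ∈ qL ∧ qj ∈ qL ∧ qk ∈ qL ∧ zz ∈ qL ∧ (1 : T) ∈ qL ∧ ev qi.a = true ∧ ev qj.a = true ∧
    qi * qi = zz ∧ qj * qj = zz ∧ qi * qj ≠ qj * qi ∧ qw * qw = 1 := by decide +kernel
theorem qL_mul : ∀ x ∈ qL, ∀ y ∈ qL, x * y ∈ qL := by decide +kernel
theorem qL'_mul : ∀ x ∈ qL', ∀ y ∈ qL', x * y ∈ qL' := by decide +kernel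
theorem qL'_one : (1 : T) ∈ qL' := by decide +kernel
theorem qw_flip : ∀ x : T, ev (x * qw).a = !ev x.a := by decide +kernel
theorem q_comm : ∀ x ∈ qL, ∀ y ∈ qL, x * (qw * y * qw) = qw * y * qw * x := by decide +kernel
theorem q_four : ∀ x : T, ev x.a = true → x * x = zz → x ∈ qL ∨ x ∈ qL' := by decide +kernel
theorem q_side : ∀ x ∈ qL, ∀ y ∈ qL', x * y = y * x := by decide +kernel
theorem q_inner : ∀ y ∈ qL', ∀ y' ∈ qL', y * y' ≠ y' * y → ∀ x ∈ qL', x * x = zz →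
    x * y ≠ y * x ∨ x * y' ≠ y' * x := by decide +kernel
theorem q_decomp : ∀ x : T, ev x.a = true → ∃ a ∈ qL, ∃ b ∈ qL, x = a * (qw * b * qw) := by decide +kernel

/-- The cyclic subgroup of order four of an element. -/
def cls (x : T) : Fin 3 := if x.p = 1 then 0 else if x.p = 2 then 1 else 2

theorem cls_eq : ∀ x ∈ qL, x * x = zz → ∀ y ∈ qL, y * y = zz → cls x = cls y → x = y ∨ x = y * zz := by
  decide +kernel
theorem cls_gen : cls qi = 0 ∧ cls qj = 1 := by decide +kernel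
theorem near_qi : ∀ y ∈ qL, qi * y ≠ y * qi → ∃ m : Fin 4, y = qi ^ m.val * qj := by decide +kernel
theorem fix_inner : ∀ a ∈ qL, a * a = zz → cls a = 1 → ∀ b ∈ qL, b * b = zz → a * b ≠ b * a → cls b ≠ 0 →
    ∃ q ∈ qL, q * a * q⁻¹ = qj ∧ q * b * q⁻¹ = qk := by decide +kernel

end CfsgLib.A8Rec
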