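import Cfsg.Agent.A8Rec.Orbit

/-!
Elements fixing a pair, and the involutions outside the base as conjugates of pairs.
-/

set_option autoImplicit false
set_option linter.unusedSectionVars false
set_option linter.style.haveILetI false
set_option maxRecDepth 100000

namespace CfsgLib.A8Rec

open Subgroup CfsgLib.SylL34
open CfsgLib.A8Three

theorem pair_cent : ∀ p : Fin 4, p ≠ 0 → ∀ y : T, ev y.a = true → y * y = 1 → y * ⟨pe p, 0⟩ = ⟨pe p, 0⟩ * y →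
    y.p = 0 ∨ (y.p = p ∧ sh p y.a = y.a) := by decide +kernel

theorem pe_cent : ∀ p : Fin 4, p ≠ 0 → ∀ y : T, (y * ⟨pe p, 0⟩ = ⟨pe p, 0⟩ * y ↔ (y.p = 0 ∨ y.p = p)) := by
  decide +kernel

theorem six_ev : ∀ v : Fin 16, six v = true → ev v = true := by decide +kernel

theorem Ep_closed : ∀ p : Fin 4, ∀ x y : T, (x.p = 0 ∨ x.p = p) → sh p x.a = x.a → (y.p = 0 ∨ y.p = p) → sh p y.a = y.a →
    ((x * y).p = 0 ∨ (x * y).p = p) ∧ sh p (x * y).a = (x * y).a ∧ (x⁻¹.p = 0 ∨ x⁻¹.p = p) ∧ sh p x⁻¹.a = x⁻¹.a := by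
  decide +kernel

/-- The subgroup of order eight attached to a coset of the base. -/
def Ep (p : Fin 4) : Subgroup T where
  carrier := {x | (x.p = 0 ∨ x.p = p) ∧ sh p x.a = x.a}
  one_mem' := ⟨Or.inl rfl, (shift_zero p 0).2.1⟩
  mul_mem' {x y} hx hy := ⟨(Ep_closed p x y hx.1 hx.2 hy.1 hy.2).1, (Ep_closed p x y hx.1 hx.2 hy.1 hy.2).2.1⟩
  inv_mem' {x} hx := ⟨(Ep_closed p x x hx.1 hx.2 hx.1 hx.2).2.2.1, (Ep_closed p x x hx.1 hx.2 hx.1 hx.2).2.2.2⟩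

theorem mem_Ep {p : Fin 4} {x : T} : x ∈ Ep p ↔ (x.p = 0 ∨ x.p = p) ∧ sh p x.a = x.a := Iff.rfl

theorem Ep_count : ∀ p : Fin 4, p ≠ 0 →
    elems.countP (fun x : T => decide ((x.p = 0 ∨ x.p = p) ∧ sh p x.a = x.a)) = 8 := by decide +kernel

theorem card_Ep {p : Fin 4} (hp : p ≠ 0) : Nat.card (Ep p) = 8 := by
  rw [← Ep_count p hp, ← card_filter]
  exact Nat.card_congr (Equiv.subtypeEquivRight fun x => Iff.rfl)

theorem Ep_sq : ∀ p : Fin 4, p ≠ 0 → ∀ x : T, (x.p = 0 ∨ x.p = p) → sh p x.a = x.a → x * x = 1 ∧ ev x.a = true := by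
  decide +kernel

variable {G : Type*} [Group G] [Finite G] {S : Sylow 2 G} {el : T →* G}

namespace Rec

variable (D : Rec S el)
include D

/-- An element of `N(M) ∩ C` fixing a pair preserves the even base. -/
theorem pair_keep {p : Fin 4} (hp : p ≠ 0) {m : G} (hmC : m ∈ centralizer ({el zz} : Set G))
    (hmM : m ∈ normalizer (evens.map el : Set G)) (hmb : m * el ⟨pe p, 0⟩ = el ⟨pe p, 0⟩ * m) :
    ∀ v : Fin 16, ev v = true → m * el ⟨v, 0⟩ * m⁻¹ ∈ base.map el := by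
  intro v hv
  by_contra hout
  obtain ⟨y, hy, hye⟩ := conj_mem_of_normalizer hmM (D.el_mem_evens.2 (show ev (⟨v, 0⟩ : T).a = true from hv))
  have hy' : el y = m * el ⟨v, 0⟩ * m⁻¹ := hye
  have hb : m * el ⟨pe p, 0⟩ * m⁻¹ = el ⟨pe p, 0⟩ := by rw [hmb, mul_inv_cancel_right]
  have hz : m * el zz * m⁻¹ = el zz := by rw [mem_centralizer_singleton_iff.1 hmC, mul_inv_cancel_right]
  have hyy : y * y = 1 := D.inj (by rw [map_mul, map_one, hy']; exact conj_sq m _ (D.base_sq _ (D.mem_A v)))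
  have hyb : y * ⟨pe p, 0⟩ = ⟨pe p, 0⟩ * y := D.inj (by
    rw [map_mul, map_mul, hy']
    nth_rw 1 [← hb]
    nth_rw 2 [← hb]
    rw [show m * el ⟨v, 0⟩ * m⁻¹ * (m * el ⟨pe p, 0⟩ * m⁻¹) = m * (el ⟨v, 0⟩ * el ⟨pe p, 0⟩) * m⁻¹ by group,
      D.base_comm (D.mem_A v) (D.mem_A (pe p))]
    group)
  rcases pair_cent p hp y hy hyy hyb with hy0 | ⟨hyp, hya⟩
  · exact hout (hy' ▸ D.el_mem_base.2 hy0)
  refine D.no_E hp m⁻¹ fun e he => ?_
  have h1 : ∀ e : Fin 16, sh p e = e → m⁻¹ * el ⟨e, 0⟩ * m⁻¹⁻¹ ∈ base.map el := by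
    intro e he
    have hb' : m⁻¹ * el ⟨pe p, 0⟩ * m⁻¹⁻¹ = el ⟨pe p, 0⟩ := by
      conv_rhs => rw [← show m⁻¹ * (m * el ⟨pe p, 0⟩ * m⁻¹) * m⁻¹⁻¹ = el ⟨pe p, 0⟩ by group, hb]
    have hz' : m⁻¹ * el zz * m⁻¹⁻¹ = el zz := by
      conv_rhs => rw [← show m⁻¹ * (m * el zz * m⁻¹) * m⁻¹⁻¹ = el zz by group, hz]
    rcases (fix_cases p hp e).1 he with rfl | rfl | rfl | rfl
    · rw [show (⟨0, 0⟩ : T) = 1 from rfl, map_one, mul_one, mul_inv_cancel]; exact one_mem _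
    · rw [show (⟨15, 0⟩ : T) = zz from rfl, hz']; exact D.mem_A 15
    · rw [hb']; exact D.mem_A _
    · rw [← vec_mul, map_mul, show (⟨15, 0⟩ : T) = zz from rfl, show m⁻¹ * (el ⟨pe p, 0⟩ * el zz) * m⁻¹⁻¹ =
        m⁻¹ * el ⟨pe p, 0⟩ * m⁻¹⁻¹ * (m⁻¹ * el zz * m⁻¹⁻¹) by group, hb', hz']
      exact mul_mem (D.mem_A _) (D.mem_A 15)
  refine ⟨h1 e he, ?_⟩
  have hsplit : (⟨e, p⟩ : T) = ⟨e ^^^ y.a, 0⟩ * y := by
    have h : ∀ e : Fin 16, ∀ y : T, (⟨e, y.p⟩ : T) = ⟨e ^^^ y.a, 0⟩ * y := by decide +kernel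
    exact hyp ▸ h e y
  rw [hsplit, map_mul, show m⁻¹ * (el ⟨e ^^^ y.a, 0⟩ * el y) * m⁻¹⁻¹ =
    m⁻¹ * el ⟨e ^^^ y.a, 0⟩ * m⁻¹⁻¹ * (m⁻¹ * el y * m⁻¹⁻¹) by group, hy',
    show m⁻¹ * (m * el ⟨v, 0⟩ * m⁻¹) * m⁻¹⁻¹ = el ⟨v, 0⟩ by group]
  exact mul_mem (h1 _ (by rw [sh_xor, he, hya])) (D.mem_A v)

/-- In `O(C) (N(M) ∩ C)` the part in the normalizer of an element of odd order has odd order. -/
theorem odd_part {g o m : G} (hgC : g ∈ centralizer ({el zz} : Set G)) (hg : Odd (orderOf g)) (ho : o ∈ Oc (el zz))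
    (e : g = o * m) : Odd (orderOf m) := by
  have hgX : zpowers g ≤ normalizer (Oc (el zz) : Set G) := zpowers_le.2 (cent_le_normalizer_Oc _ hgC)
  have hoddH : Odd (Nat.card (Oc (el zz) ⊔ zpowers g : Subgroup G)) := by
    rw [sup_comm]
    refine Odd.of_dvd_nat ((show Odd (Nat.card (zpowers g)) from ?_).mul (Oc_odd _)) (Solvable.card_sup_dvd hgX)
    rwa [Nat.card_zpowers]
  refine odd_orderOf_of_mem hoddH ?_
  have := mul_mem (inv_mem (mem_sup_left ho : o ∈ Oc (el zz) ⊔ zpowers g))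
    (mem_sup_right (mem_zpowers g) : g ∈ Oc (el zz) ⊔ zpowers g)
  rw [← inv_mul_cancel_left o m, ← e]
  exact this

/-- An odd element of `C` fixing a pair lies in the core. -/
theorem odd_fix_pair {p : Fin 4} (hp : p ≠ 0) {g : G} (hg : g ∈ centralizer ({el zz} : Set G))
    (ho : Odd (orderOf g)) (hgb : g * el ⟨pe p, 0⟩ = el ⟨pe p, 0⟩ * g) : g ∈ Oc (el zz) := by
  obtain ⟨o, hoO, m, hm, hmM, e⟩ := D.cent_split g hg
  set b := el ⟨pe p, 0⟩
  set O := Oc (el zz)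
  have hbM : b ∈ evens.map el := D.el_mem_evens.2 (six_ev _ (pe_six p hp).1)
  have h1 : m * b * m⁻¹ * b⁻¹ ∈ O := by
    rw [show m * b * m⁻¹ * b⁻¹ = o⁻¹ * (o * m * b) * m⁻¹ * b⁻¹ by group, ← e, hgb, e,
      show o⁻¹ * (b * (o * m)) * m⁻¹ * b⁻¹ = o⁻¹ * (b * o * b⁻¹) by group]
    exact mul_mem (inv_mem hoO) (conj_mem_of_normalizer (cent_le_normalizer_Oc _ (D.A_cent (D.mem_A _))) hoO)
  have hmb : m * b = b * m := mul_inv_eq_iff_eq_mul.1 (mul_inv_eq_one.1 (inf_eq_bot_of_odd (Oc_odd _) D.isPGroup_evens h1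
    (mul_mem (conj_mem_of_normalizer hmM hbM) (inv_mem hbM))))
  rw [e]
  refine mul_mem hoO (D.odd_pair (pe_six p hp).1 hm (D.odd_part hg ho hoO e) hmM hmb fun v hv => ?_)
  obtain ⟨y, hy, hye⟩ := conj_mem_of_normalizer hmM (D.el_mem_evens.2 (show ev (⟨v, 0⟩ : T).a = true from hv))
  have hy' : el y = m * el ⟨v, 0⟩ * m⁻¹ := hye
  obtain ⟨a, q⟩ := y
  obtain rfl : q = 0 := D.el_mem_base.1 (hy'.symm ▸ D.pair_keep hp hm hmM hmb v hv)
  exact ⟨a, hy, hy'.symm⟩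

theorem odd_fix_six {v : Fin 16} (hv : six v = true) {g : G} (hg : g ∈ centralizer ({el zz} : Set G))
    (ho : Odd (orderOf g)) (hgb : g * el ⟨v, 0⟩ = el ⟨v, 0⟩ * g) : g ∈ Oc (el zz) := by
  obtain ⟨p, r, hp, rfl⟩ := six_rep v hv
  set w := el ⟨0, r⟩
  have hwC : w ∈ centralizer ({el zz} : Set G) := D.S_cent (D.mem_S _)
  have hv' : el ⟨sh r (pe p), 0⟩ = w * el ⟨pe p, 0⟩ * w⁻¹ := by rw [← map_inv, ← map_mul, ← map_mul, conj_base]
  have h1 := D.odd_fix_pair hp (g := w⁻¹ * g * w) (mul_mem (mul_mem (inv_mem hwC) hg) hwC)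
    (by
      have h := Invol.orderOf_conj_eq (G := G) w⁻¹ g
      rw [inv_inv] at h
      rwa [h])
    (by
      rw [hv'] at hgb
      calc w⁻¹ * g * w * el ⟨pe p, 0⟩ = w⁻¹ * (g * (w * el ⟨pe p, 0⟩ * w⁻¹)) * w := by group
        _ = w⁻¹ * (w * el ⟨pe p, 0⟩ * w⁻¹ * g) * w := by rw [hgb]
        _ = el ⟨pe p, 0⟩ * (w⁻¹ * g * w) := by group)
  have h2 := conj_mem_of_normalizer (cent_le_normalizer_Oc _ hwC) h1
  rwa [show w * (w⁻¹ * g * w) * w⁻¹ = g by group] at h2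

/-- An odd subgroup of `C` normalised by a pair lies in the core. -/
theorem le_of_six {v : Fin 16} (hv : six v = true) {X : Subgroup G}
    (hXC : X ≤ centralizer ({el zz} : Set G)) (hodd : Odd (Nat.card X))
    (hXv : el ⟨v, 0⟩ ∈ normalizer (X : Set G)) : X ≤ Oc (el zz) := by
  have hXO : X ≤ normalizer (Oc (el zz) : Set G) := hXC.trans (cent_le_normalizer_Oc _)
  have hoddH : Odd (Nat.card (Oc (el zz) ⊔ X : Subgroup G)) := by
    rw [sup_comm]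
    exact Odd.of_dvd_nat (hodd.mul (Oc_odd _)) (Solvable.card_sup_dvd hXO)
  intro d hd
  obtain ⟨o, ho, n, hn, hnM, e⟩ := D.cent_split d (hXC hd)
  set H := Oc (el zz) ⊔ X
  have hnH : n ∈ H := by
    have := mul_mem (inv_mem (mem_sup_left ho : o ∈ H)) (mem_sup_right hd)
    rwa [e, inv_mul_cancel_left] at this
  have hvH : el ⟨v, 0⟩ ∈ normalizer (H : Set G) :=
    join_normalized (cent_le_normalizer_Oc _ (D.A_cent (D.mem_A v))) hXv
  have hvM : el ⟨v, 0⟩ ∈ evens.map el := D.el_mem_evens.2 (six_ev v hv)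
  rw [e]
  refine mul_mem ho (D.odd_fix_six hv hn (odd_orderOf_of_mem hoddH hnH) ?_)
  exact mul_inv_eq_iff_eq_mul.1 (mul_inv_eq_one.1 (inf_eq_bot_of_odd hoddH D.isPGroup_evens (comm_mem_odd hnH hvH)
    (mul_mem (conj_mem_of_normalizer hnM hvM) (inv_mem hvM))))

/-- A pair in the class of the centre forces a mover. -/
theorem mover_of_pair {q : Fin 4} (hq : q ≠ 0) (hc : Cls el (pe q)) : Mover el := by
  by_contra hm
  obtain ⟨p, hp, hP⟩ := D.no_all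
  exact hP ((D.cls_congr (D.pairs_same hm hq hp (fun e => hP (e ▸ hc)))).1 hc)

/-- With a mover each involution outside the base is conjugate to a pair. -/
theorem out_pair (hm : Mover el) {y : T} (hy : ty y = 3) :
    ∃ g ∈ centralizer ({el zz} : Set G), g ∈ normalizer (evens.map el : Set G) ∧ ∃ r : Fin 4, r ≠ 0 ∧
      g * el ⟨pe r, 0⟩ * g⁻¹ = el y := by
  obtain ⟨n, hnC, hnM, h⟩ := D.mover_cover hm
  obtain ⟨r, hr, y', hy'p, hy't, e⟩ := h y.p (ty_out y hy).1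
  obtain ⟨c1, h1⟩ := out_conj y hy
  obtain ⟨c2, h2⟩ := out_conj y' hy't
  rw [hy'p] at h2
  set w := el ⟨c1, 0⟩ * (el ⟨c2, 0⟩)⁻¹
  have hwS : w ∈ (S : Subgroup G) := mul_mem (D.mem_S _) (inv_mem (D.mem_S _))
  refine ⟨w * n, mul_mem (D.S_cent hwS) hnC, mul_mem (D.S_evens hwS) hnM, r, hr, ?_⟩
  rw [show w * n * el ⟨pe r, 0⟩ * (w * n)⁻¹ = w * (n * el ⟨pe r, 0⟩ * n⁻¹) * w⁻¹ by group, e, ← h1, ← h2]
  simp only [w, map_mul, map_inv]
  group

/-- A coset whose pair lies in the class contains conjugates of the centre. -/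
theorem coset_class {q : Fin 4} (hq : q ≠ 0) (hc : Cls el (pe q)) : IsConj (el ⟨0, q⟩) (el zz) := by
  obtain ⟨n, hnC, hnM, h⟩ := D.mover_cover (D.mover_of_pair hq hc)
  choose! r hr y hyp hyt hye using h
  have hinj : ∀ s t : Fin 4, s ≠ 0 → t ≠ 0 → r s = r t → s = t := by
    intro s t hs ht e
    rw [← hyp s hs, ← hyp t ht, D.inj ((hye s hs).symm.trans ((congrArg (fun x => n * el ⟨pe x, 0⟩ * n⁻¹) e).trans (hye t ht)))]
  have hτ : ∀ s : Fin 4, s ≠ 0 → IsConj (el ⟨pe (r s), 0⟩) (el ⟨0, s⟩) := by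
    intro s hs
    obtain ⟨c, hcc⟩ := out_conj (y s) (hyt s hs)
    rw [hyp s hs] at hcc
    refine (isConj_iff.2 ⟨n, hye s hs⟩).trans (IsConj.symm (isConj_iff.2 ⟨el ⟨c, 0⟩, ?_⟩))
    rw [← map_inv, ← map_mul, ← map_mul, hcc]
  have hP : ∀ s : Fin 4, s ≠ 0 → Cls el (pe (r s)) → IsConj (el ⟨0, s⟩) (el zz) ∧ Cls el (pe s) := by
    intro s hs h
    have h1 := (h.trans (hτ s hs)).symm
    exact ⟨h1, D.out_zclass hs h1⟩
  obtain ⟨p, hp, hnp⟩ := D.no_all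
  obtain ⟨q', s, hq', hs, hq'p, hsp, hq's, hall⟩ := others p hp
  -- the preimages of the pairs
  have hsur : ∀ t : Fin 4, t ≠ 0 → ∃ s : Fin 4, s ≠ 0 ∧ r s = t := by
    intro t ht
    let f : Fin 4 → Fin 4 := fun x => if x = 0 then 0 else r x
    have hf : Function.Injective f := by
      intro a b e
      by_cases ha : a = 0 <;> by_cases hb : b = 0
      · rw [ha, hb]
      · simp only [f, ha, hb, if_true, if_false] at e; exact absurd e.symm (hr b hb)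
      · simp only [f, ha, hb, if_true, if_false] at e; exact absurd e (hr a ha)
      · simp only [f, ha, hb, if_false] at e; exact hinj a b ha hb e
    obtain ⟨x, hx⟩ := Finite.injective_iff_surjective.1 hf t
    by_cases h0 : x = 0
    · simp only [f, h0, if_true] at hx; exact absurd hx.symm ht
    · simp only [f, h0, if_false] at hx; exact ⟨x, h0, hx⟩
  obtain ⟨a, ha, hra⟩ := hsur q hq
  obtain ⟨h1, h2⟩ := hP a ha (hra ▸ hc)
  by_cases haq : a = q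
  · exact haq ▸ h1
  obtain ⟨b, hb, hrb⟩ := hsur a ha
  obtain ⟨h3, h4⟩ := hP b hb (hrb ▸ h2)
  rcases hall b hb with e | e | e
  · exact absurd (e ▸ h4) hnp
  all_goals
    rcases hall a ha with e' | e' | e'
    · exact absurd (e' ▸ h2) hnp
    all_goals
      rcases hall q hq with e'' | e'' | e''
      · exact absurd (e'' ▸ hc) hnp
      all_goals first
        | exact absurd (e'.trans e''.symm) haq
        | exact (e.trans e''.symm) ▸ h3
        | exact absurd ((hra.symm.trans ((congrArg r (e'.trans e.symm)).trans hrb))) (Ne.symm haq)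

end Rec

end CfsgLib.A8Rec
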