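import Cfsg.Agent.A8Three.Tools
import Cfsg.Agent.A8Three.Model
import Cfsg.Agent.A8Rec.Checks
import Cfsg.Prelude.Def_Transfer

/-!
Groups with a Sylow 2-subgroup of type `Alt(8)` and solvable centralizer of the central involution:
fusion in the elementary abelian subgroup of order sixteen and the linear maps induced on it.
-/

set_option autoImplicit false
set_option linter.unusedSectionVars false
set_option linter.style.haveILetI false
set_option maxRecDepth 100000

namespace CfsgLib.A8Rec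

open Subgroup CfsgLib.SylL34
open CfsgLib.A8Three

/-- The hypotheses, with coordinates on the Sylow subgroup. -/
structure Rec {G : Type*} [Group G] (S : Sylow 2 G) (el : T →* G) : Prop where
  inj : Function.Injective el
  range : el.range = (S : Subgroup G)
  res : ∀ H : Subgroup G, H.index ≠ 2
  core2 : Cfsg.pCore 2 G = ⊥
  odd : Cfsg.oddCore G = ⊥
  sol : Group.IsSolvable ↥(centralizer ({el zz} : Set G))

/-- No subgroup of index two. -/
theorem index_ne_two {G : Type*} [Group G] [Finite G] (h : Cfsg.pResidual 2 G = ⊤) (H : Subgroup G) :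
    H.index ≠ 2 := by
  intro hH
  haveI := normal_of_index_eq_two hH
  have hle : Cfsg.pResidual 2 G ≤ H := (closure_le _).2 fun g hg => by
    have h2 : g ^ 2 ∈ H := (by rw [sq]; exact Subgroup.mul_self_mem_of_index_two hH g)
    obtain ⟨j, hj⟩ := Nat.coprime_two_right.1 hg
    have h1 : g ^ (2 * j + 1) = 1 := by rw [← hj]; exact pow_orderOf_eq_one g
    rw [pow_succ, pow_mul] at h1
    show g ∈ H
    rw [eq_inv_of_mul_eq_one_right h1]
    exact inv_mem (pow_mem h2 j)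
  rw [h, top_le_iff] at hle
  rw [hle, index_top] at hH
  omega

theorem vec_mul : ∀ a b : Fin 16, (⟨a, 0⟩ : T) * ⟨b, 0⟩ = ⟨a ^^^ b, 0⟩ := by decide +kernel

theorem square_base : ∀ x : T, (x * x).p = 0 := by decide +kernel

variable {G : Type*} [Group G] [Finite G] {S : Sylow 2 G} {el : T →* G}

namespace Rec

variable (D : Rec S el)
include D

theorem mem_S (x : T) : el x ∈ (S : Subgroup G) := D.range ▸ ⟨x, rfl⟩

theorem exists_el {g : G} (hg : g ∈ (S : Subgroup G)) : ∃ x, el x = g := by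
  rwa [← D.range] at hg

theorem el_eq_one {x : T} : el x = 1 ↔ x = 1 :=
  ⟨fun h => D.inj (h.trans (map_one el).symm), fun h => h ▸ map_one el⟩

theorem order_el {x : T} (hx : ty x ≠ 0) : orderOf (el x) = 2 :=
  order_two (by rw [← map_mul, (ty_sq x hx).2, map_one]) fun h => (ty_sq x hx).1 (D.el_eq_one.1 h)

theorem el_mem_base {x : T} : el x ∈ base.map el ↔ x.p = 0 :=
  ⟨fun ⟨y, hy, e⟩ => D.inj e ▸ hy, fun h => mem_map_of_mem el h⟩

theorem mem_A (a : Fin 16) : el ⟨a, 0⟩ ∈ base.map el := mem_map_of_mem el rfl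

theorem base_le : base.map el ≤ (S : Subgroup G) := by rintro _ ⟨x, -, rfl⟩; exact D.mem_S x

theorem exists_vec {g : G} (hg : g ∈ base.map el) : ∃ a : Fin 16, el ⟨a, 0⟩ = g := by
  obtain ⟨⟨a, p⟩, hp, rfl⟩ := hg
  obtain rfl : p = 0 := hp
  exact ⟨a, rfl⟩

theorem vec_inj {a b : Fin 16} (h : el ⟨a, 0⟩ = el ⟨b, 0⟩) : a = b := congrArg T.a (D.inj h)

theorem base_sq : ∀ g ∈ base.map el, g * g = 1 := by
  rintro _ ⟨x, hx, rfl⟩
  rw [← map_mul, A8Three.base_sq x hx, map_one]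

theorem base_comm {a b : G} (ha : a ∈ base.map el) (hb : b ∈ base.map el) : a * b = b * a :=
  comm_of_sq D.base_sq ha hb

theorem card_base : Nat.card (base.map el) = 16 := by
  rw [card_map_of_injective D.inj, Nat.card_congr (Equiv.ofBijective (fun x : base => (x : T).a)
    ⟨fun x y h => Subtype.ext (T.ext h (x.2.trans y.2.symm)), fun a => ⟨⟨⟨a, 0⟩, rfl⟩, rfl⟩⟩)]
  simp

theorem S_le : (S : Subgroup G) ≤ normalizer (base.map el : Set G) := fun s hs => by
  obtain ⟨y, rfl⟩ := D.exists_el hs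
  refine mem_normalizer_of_conj_mem ?_
  rintro _ ⟨x, hx, rfl⟩
  have h : ∀ x y : T, x.p = 0 → (y * x * y⁻¹).p = 0 := by decide +kernel
  exact ⟨y * x * y⁻¹, h x y hx, by simp⟩

theorem S_cent : (S : Subgroup G) ≤ centralizer ({el zz} : Set G) := fun s hs => by
  obtain ⟨y, rfl⟩ := D.exists_el hs
  exact mem_centralizer_singleton_iff.2 (by rw [← map_mul, ← map_mul, zz_comm])

/-- The only elementary abelian subgroup of order sixteen. -/
theorem unique {X : Subgroup G} (hXS : X ≤ (S : Subgroup G)) (hsq : ∀ x ∈ X, x * x = 1)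
    (hc : Nat.card X = 16) : X = base.map el := by
  refine eq_of_le_of_card_ge (fun g hg => ?_) (by rw [hc, D.card_base])
  obtain ⟨x, rfl⟩ := D.exists_el (hXS hg)
  refine D.el_mem_base.2 ?_
  by_contra hp
  have hxx : x * x = 1 := D.inj (by rw [map_mul, map_one]; exact hsq _ hg)
  have hty : ty x = 3 := by
    have h : ∀ x : T, x.p ≠ 0 → x * x = 1 → ty x = 3 := by decide +kernel
    exact h x hp hxx
  have hf := out_few x hty
  rw [← card_filter] at hf
  refine absurd hf (not_lt.2 ?_)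
  rw [← hc]
  choose w hw using fun a : X => D.exists_el (hXS a.2)
  refine Nat.card_le_card_of_injective
    (fun a => (⟨w a, D.inj (by rw [map_mul, map_one, hw]; exact hsq _ a.2),
      D.inj (by rw [map_mul, map_mul, hw]; exact comm_of_sq hsq a.2 hg)⟩ : {v : T // v * v = 1 ∧ v * x = x * v})) ?_
  intro a b h
  refine Subtype.ext ?_
  rw [← hw a, ← hw b]
  exact congrArg el (congrArg Subtype.val h)

/-- Fusion in the base is controlled by its normalizer, in every subgroup containing it. -/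
theorem fus_base {H : Subgroup G} (hA : base.map el ≤ H) {g a b : G} (hg : g ∈ H) (ha : a ∈ base.map el)
    (hb : b ∈ base.map el) (h : g * a * g⁻¹ = b) :
    ∃ n ∈ H, n ∈ normalizer (base.map el : Set G) ∧ n * a * n⁻¹ = b := by
  haveI : Fact (Nat.Prime 2) := ⟨Nat.prime_two⟩
  set A := base.map el
  set K := H ⊓ centralizer ({b} : Set G)
  have hAK : A ≤ K := le_inf hA fun x hx => mem_centralizer_singleton_iff.2 (D.base_comm hx hb)
  have hA2 : IsPGroup 2 A := isPGroup_of_sq D.base_sq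
  have hgAK : cj g A ≤ K := by
    rintro _ ⟨x, hx, rfl⟩
    refine ⟨H.mul_mem (H.mul_mem hg (hA hx)) (H.inv_mem hg), mem_centralizer_singleton_iff.2 ?_⟩
    show g * x * g⁻¹ * b = b * (g * x * g⁻¹)
    rw [← h, show g * x * g⁻¹ * (g * a * g⁻¹) = g * (x * a) * g⁻¹ by group, D.base_comm hx ha]
    group
  obtain ⟨R, hR⟩ := (hA2.comap_subtype (K := K)).exists_le_sylow
  obtain ⟨c, hc⟩ := exists_cj_le R (P := (cj g A).subgroupOf K) ((hA2.map _).comap_subtype)
  obtain ⟨d, hd⟩ := exists_cj_le S (P := (R : Subgroup K).map K.subtype) (R.2.map _)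
  have h16 : ∀ {k : G}, cj k A ≤ (R : Subgroup K).map K.subtype → cj (d * k) A = A := by
    intro k hk
    refine D.unique ?_ ?_ (by rw [card_cj, D.card_base])
    · rintro _ ⟨x, hx, rfl⟩
      have := hd (conj_mem_cj (g := d) |>.2 (hk (conj_mem_cj.2 hx)))
      simpa [mul_assoc] using this
    · rintro _ ⟨x, hx, rfl⟩
      exact conj_sq _ _ (D.base_sq x hx)
  have h1 : cj (d * 1) A = A := h16 (by
    rintro _ ⟨x, hx, rfl⟩
    exact ⟨⟨x, hAK hx⟩, hR hx, by simp⟩)
  have h2 : cj (d * ((c : G) * g)) A = A := h16 (by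
    rintro _ ⟨x, hx, rfl⟩
    have hm : (⟨g * x * g⁻¹, hgAK (conj_mem_cj.2 hx)⟩ : K) ∈ (cj g A).subgroupOf K := conj_mem_cj.2 hx
    exact ⟨_, hc ((conj_mem_cj (g := c)).2 hm), by simp [mul_assoc]⟩)
  have hd1 : d ∈ normalizer (A : Set G) := mem_normalizer_of_cj (by rwa [mul_one] at h1)
  refine ⟨c * g, mul_mem (mem_inf.1 c.2).1 hg, ?_, ?_⟩
  · have := mul_mem (inv_mem hd1) (mem_normalizer_of_cj h2)
    rwa [inv_mul_cancel_left] at this
  · have hcb := mem_centralizer_singleton_iff.1 (mem_inf.1 c.2).2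
    rw [show (c : G) * g * a * ((c : G) * g)⁻¹ = c * (g * a * g⁻¹) * (c : G)⁻¹ by group, h, hcb,
      mul_inv_cancel_right]

/-- The map induced by an element of the normalizer is linear. -/
theorem exists_lin {n : G} (hn : n ∈ normalizer (base.map el : Set G)) :
    ∃ c1 c2 c4 c8 : Fin 16, ∀ a, n * el ⟨a, 0⟩ * n⁻¹ = el ⟨lin c1 c2 c4 c8 a, 0⟩ := by
  choose f hf using fun a => D.exists_vec (conj_mem_of_normalizer hn (D.mem_A a))
  have hadd : ∀ a b, f (a ^^^ b) = f a ^^^ f b := fun a b => D.vec_inj (by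
    rw [hf, ← vec_mul, ← vec_mul, map_mul, map_mul, hf, hf]; group)
  have h0 : f 0 = 0 := D.vec_inj (by
    rw [hf, show (⟨0, 0⟩ : T) = 1 from rfl, map_one, mul_one, mul_inv_cancel])
  refine ⟨f 1, f 2, f 4, f 8, fun a => ?_⟩
  rw [← hf]
  have e : f (lin 1 2 4 8 a) = lin (f 1) (f 2) (f 4) (f 8) a := by
    simp only [lin, hadd, apply_ite f, h0]
  rw [lin_basis] at e
  rw [e]

/-- No element of the normalizer acts on the base with order four. -/
theorem no_four {n : G} (hn : n ∈ normalizer (base.map el : Set G)) {f : Fin 16 → Fin 16}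
    (hf : ∀ a, n * el ⟨a, 0⟩ * n⁻¹ = el ⟨f a, 0⟩) : four f = false := by
  haveI : Fact (Nat.Prime 2) := ⟨Nat.prime_two⟩
  rw [← Bool.not_eq_true]
  intro h
  simp only [four, Bool.and_eq_true, Bool.not_eq_true', beq_iff_eq] at h
  obtain ⟨⟨⟨⟨h2, h41⟩, h42⟩, h44⟩, h48⟩ := h
  obtain ⟨m, k, ⟨j, rfl⟩, hk⟩ := exists_odd_pow n
  set t := n ^ (2 * j + 1)
  have htN : t ∈ normalizer (base.map el : Set G) := pow_mem hn _
  obtain ⟨g, hg⟩ := exists_cj_le (S.subtype D.S_le)
    (P := (zpowers t).subgroupOf (normalizer (base.map el : Set G))) (isPGroup_zpowers_of hk).comap_subtype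
  have hgt := hg ((conj_mem_cj (g := g)).2 (show (⟨t, htN⟩ : normalizer (base.map el : Set G)) ∈
    (zpowers t).subgroupOf _ from mem_zpowers t))
  rw [Sylow.coe_subtype, mem_subgroupOf] at hgt
  obtain ⟨x, hx⟩ := D.exists_el hgt
  have hx' : el x = (g : G) * t * (g : G)⁻¹ := hx
  have ht2 : t * t ∈ base.map el := by
    have h1 : (g : G) * (t * t) * (g : G)⁻¹ ∈ base.map el := by
      rw [show (g : G) * (t * t) * (g : G)⁻¹ = g * t * (g : G)⁻¹ * (g * t * (g : G)⁻¹) by group, ← hx', ← map_mul]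
      exact D.el_mem_base.2 (square_base x)
    have h1' := conj_mem_of_normalizer (inv_mem g.2) h1
    rwa [show (g : G)⁻¹ * ((g : G) * (t * t) * (g : G)⁻¹) * ((g : G)⁻¹)⁻¹ = t * t by group] at h1'
  have hc : ∀ a, f (f (f (f a))) = a → f (f a) = a := by
    intro a ha
    have hpow : ∀ (g : G) (b c : Fin 16), Commute g (el ⟨b, 0⟩) ↔ (g * el ⟨b, 0⟩ * g⁻¹ = el ⟨c, 0⟩ → c = b) ∧
        g * el ⟨b, 0⟩ * g⁻¹ = el ⟨b, 0⟩ := fun g b c =>
      ⟨fun hgc => ⟨fun e => (D.vec_inj ((by rw [hgc.eq, mul_inv_cancel_right] : el ⟨b, 0⟩ = g * el ⟨b, 0⟩ * g⁻¹).trans e)).symm,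
        by rw [hgc.eq, mul_inv_cancel_right]⟩, fun e => mul_inv_eq_iff_eq_mul.1 e.2⟩
    have e2 : ∀ b, n * n * el ⟨b, 0⟩ * (n * n)⁻¹ = el ⟨f (f b), 0⟩ := fun b => by
      rw [← hf, ← hf]; group
    have h4 : Commute ((n * n) * (n * n)) (el ⟨a, 0⟩) := mul_inv_eq_iff_eq_mul.1 (by
      rw [show (n * n) * (n * n) * el ⟨a, 0⟩ * ((n * n) * (n * n))⁻¹ =
        (n * n) * ((n * n) * el ⟨a, 0⟩ * (n * n)⁻¹) * (n * n)⁻¹ by group, e2, e2, ha])
    have ht : Commute (t * t) (el ⟨a, 0⟩) := D.base_comm ht2 (D.mem_A a)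
    have he : t * t = ((n * n) * (n * n)) ^ j * (n * n) := by
      simp only [t, ← pow_two, ← pow_mul, ← pow_add]
      ring_nf
    have h2' : Commute (n * n) (el ⟨a, 0⟩) := by
      have := ((h4.pow_left j).inv_left).mul_left ht
      rwa [he, inv_mul_cancel_left] at this
    exact ((hpow (n * n) a (f (f a))).1 h2').1 (e2 a)
  rw [hc 1 h41, hc 2 h42, hc 4 h44, hc 8 h48] at h2
  simp at h2

/-- The maps induced by the normalizer satisfy the test. -/
theorem lin_ok {n : G} (hn : n ∈ normalizer (base.map el : Set G)) {c1 c2 c4 c8 : Fin 16}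
    (hc : ∀ a, n * el ⟨a, 0⟩ * n⁻¹ = el ⟨lin c1 c2 c4 c8 a, 0⟩) : ok c1 c2 c4 c8 = true := by
  have hu : ∀ (u : Fin 4) (a : Fin 16),
      el ⟨0, u⟩ * n * el ⟨a, 0⟩ * (el ⟨0, u⟩ * n)⁻¹ = el ⟨sh u (lin c1 c2 c4 c8 a), 0⟩ := fun u a => by
    rw [show el ⟨0, u⟩ * n * el ⟨a, 0⟩ * (el ⟨0, u⟩ * n)⁻¹ = el ⟨0, u⟩ * (n * el ⟨a, 0⟩ * n⁻¹) * (el ⟨0, u⟩)⁻¹ by group,
      hc, ← map_inv, ← map_mul, ← map_mul, conj_base]
  have hmem : ∀ u, el ⟨0, u⟩ * n ∈ normalizer (base.map el : Set G) := fun u => mul_mem (D.S_le (D.mem_S _)) hn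
  simp only [ok, Bool.and_eq_true, Bool.not_eq_true', Bool.or_eq_false_iff]
  refine ⟨⟨⟨⟨D.no_four hn hc, D.no_four (hmem 1) (hu 1)⟩, D.no_four (hmem 2) (hu 2)⟩, D.no_four (hmem 3) (hu 3)⟩, ?_⟩
  refine List.all_eq_true.2 fun a _ => ?_
  by_cases ha : a = 0
  · simp [ha]
  · simp only [Bool.or_eq_true, bne_iff_ne, ne_eq, beq_iff_eq]
    refine Or.inr fun e => ha ?_
    have h1 := hc a
    rw [e, show (⟨0, 0⟩ : T) = 1 from rfl, map_one, conj_eq_one_iff] at h1
    exact congrArg T.a (D.el_eq_one.1 h1)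

end Rec

end CfsgLib.A8Rec
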