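import Cfsg.Agent.A8Rec.WThree
import Cfsg.Agent.A8Rec.KleinCore

/-!
The signalizer when two pairs lie in the class of the centre: it is built on a pure group of order eight.
-/

set_option autoImplicit false
set_option linter.unusedSectionVars false
set_option linter.style.haveILetI false
set_option maxRecDepth 100000

namespace CfsgLib.A8Rec

open Subgroup CfsgLib.SylL34
open CfsgLib.A8Three

theorem four_sum : ∀ p u a : Fin 16, (a = 0 ∨ a = p ∨ a = u ∨ a = u ^^^ p) → ∀ b : Fin 16,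
    (b = 0 ∨ b = p ∨ b = u ∨ b = u ^^^ p) → (a ^^^ b = 0 ∨ a ^^^ b = p ∨ a ^^^ b = u ∨ a ^^^ b = u ^^^ p) := by
  decide +kernel

theorem inv_vec : ∀ a : Fin 16, (⟨a, 0⟩ : T)⁻¹ = ⟨a, 0⟩ := by decide +kernel

/-- The four group of two vectors. -/
def Span (p u : Fin 16) : Subgroup T where
  carrier := {x | x.p = 0 ∧ (x.a = 0 ∨ x.a = p ∨ x.a = u ∨ x.a = u ^^^ p)}
  one_mem' := ⟨rfl, Or.inl rfl⟩
  mul_mem' {x y} hx hy := by
    obtain ⟨a, s⟩ := x
    obtain ⟨b, t⟩ := y
    obtain ⟨rfl : s = 0, ha⟩ := hx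
    obtain ⟨rfl : t = 0, hb⟩ := hy
    rw [Set.mem_ofPred_eq, vec_mul]
    exact ⟨rfl, four_sum p u a ha b hb⟩
  inv_mem' {x} hx := by
    obtain ⟨a, s⟩ := x
    obtain ⟨rfl : s = 0, ha⟩ := hx
    rw [Set.mem_ofPred_eq, inv_vec]
    exact ⟨rfl, ha⟩

theorem Span_count : ∀ p u : Fin 16, p ≠ 0 → u ≠ 0 → u ≠ p →
    elems.countP (fun x : T => decide (x.p = 0 ∧ (x.a = 0 ∨ x.a = p ∨ x.a = u ∨ x.a = u ^^^ p))) = 4 := by
  decide +kernel

theorem three_cosets : ∀ s x : Fin 4, s ≠ 0 → x ≠ 0 → x ≠ s →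
    s ^^^ x ≠ 0 ∧ ∀ p : Fin 4, p ≠ 0 → p = s ∨ p = x ∨ p = s ^^^ x := by decide +kernel

theorem comm_fix : ∀ x y : T, ty x = 3 → (y.p = 0 ∨ y.p = x.p) → y * y = 1 → x * y = y * x → sh x.p y.a = y.a := by
  decide +kernel

/-- The core of a subgroup modulo a central 2-group. -/
theorem core_mod_central {K : Type*} [Group K] [Finite K] {V : Subgroup K} [V.Normal] (hV : IsPGroup 2 V)
    (hc : ∀ g : K, ∀ v ∈ V, g * v = v * g) {x : K} (hx : (x : K ⧸ V) ∈ Cfsg.oddCore (K ⧸ V))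
    (ho : Odd (orderOf x)) : x ∈ Cfsg.oddCore K := by
  set f := QuotientGroup.mk' V
  set X := (Cfsg.oddCore (K ⧸ V)).comap f
  have hXn : X.Normal := ocore_normal.comap f
  have hVX : V ≤ X := fun v hv => by
    show f v ∈ Cfsg.oddCore (K ⧸ V)
    rw [show f v = 1 from (QuotientGroup.eq_one_iff v).2 hv]
    exact one_mem _
  obtain ⟨-, h2⟩ := twoNil_sub hVX hV
    (fun R hR _ hRX r hr => by
      obtain ⟨k, hk⟩ := hR ⟨r, hr⟩
      refine (QuotientGroup.eq_one_iff r).1 (eq_one_odd_two (k := k)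
        (odd_orderOf_of_mem ocore_odd (mem_comap.1 (hRX hr))) ?_)
      have := congrArg f (congrArg Subtype.val hk)
      simpa [f] using this)
    (fun n _ _ p hp => hc n p hp)
  exact core_le_ocore hXn (h2 x hx ho)

variable {G : Type*} [Group G] [Finite G] {S : Sylow 2 G} {el : T →* G}

namespace Rec

variable (D : Rec S el)
include D

/-- The group of order eight attached to a pair in the class is pure. -/
theorem Ep_cls {s : Fin 4} (hs : s ≠ 0) (hc : Cls el (pe s)) {x : T} (hx : x ∈ Ep s) (hx1 : x ≠ 1) :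
    IsConj (el zz) (el x) := by
  obtain ⟨hp, ha⟩ := hx
  by_cases h0 : x.p = 0
  · obtain ⟨a, q⟩ := x
    obtain rfl : q = 0 := h0
    rcases (fix_cases s hs a).1 ha with h | h | h | h
    · exact absurd (show (⟨a, 0⟩ : T) = 1 from T.ext h rfl) hx1
    · exact h ▸ D.cls_15
    · exact h ▸ hc
    · exact h ▸ (D.cls_congr (D.orb_flip hs)).1 hc
  · have hps : x.p = s := hp.resolve_left h0
    obtain ⟨c, hcc⟩ := out_conj x (D.out_ty h0 (Ep_sq s hs x hp ha).1)
    rw [hps] at hcc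
    exact (D.coset_class hs hc).symm.trans (isConj_iff.2 ⟨el ⟨c, 0⟩, by rw [← map_inv, ← map_mul, ← map_mul, hcc]⟩)

/-- Conjugates of such a group inside the Sylow subgroup are again such groups. -/
theorem image_Ep {q : Fin 4} (hq : q ≠ 0) (hc : Cls el (pe q)) {g : G}
    (hS : ∀ x ∈ Ep q, g * el x * g⁻¹ ∈ (S : Subgroup G)) :
    ∃ s : Fin 4, s ≠ 0 ∧ Cls el (pe s) ∧ cj g ((Ep q).map el) = (Ep s).map el := by
  have hex : ∀ x ∈ Ep q, ∃ y, el y = g * el x * g⁻¹ := fun x hx => D.exists_el (hS x hx)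
  choose! f hf using hex
  have hsq : ∀ x ∈ Ep q, f x * f x = 1 := fun x hx => D.inj (by
    rw [map_mul, map_one, hf x hx]
    exact conj_sq g _ (by rw [← map_mul, (Ep_sq q hq x hx.1 hx.2).1, map_one]))
  have hcomm : ∀ x ∈ Ep q, ∀ y ∈ Ep q, f x * f y = f (x * y) ∧ f x * f y = f y * f x := by
    intro x hx y hy
    have hxy := mul_mem hx hy
    have hsq' : ∀ z ∈ Ep q, z * z = 1 := fun z hz => (Ep_sq q hq z hz.1 hz.2).1
    have e1 : f x * f y = f (x * y) := D.inj (by rw [map_mul, hf x hx, hf y hy, hf _ hxy, map_mul]; group)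
    exact ⟨e1, D.inj (by
      rw [map_mul, map_mul, hf x hx, hf y hy, show g * el x * g⁻¹ * (g * el y * g⁻¹) = g * (el x * el y) * g⁻¹ by group,
        ← map_mul, comm_of_sq hsq' hx hy, map_mul]
      group)⟩
  have hcl : ∀ x ∈ Ep q, (f x).p ≠ 0 → Cls el (pe (f x).p) := by
    intro x hx h0
    obtain ⟨c, hcc⟩ := out_conj (f x) (D.out_ty h0 (hsq x hx))
    have hx1 : x ≠ 1 := fun e => h0 (by
      have h1 : f x = 1 := D.inj (by rw [hf x hx, e, map_one, mul_one, mul_inv_cancel])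
      rw [h1]; rfl)
    refine D.out_zclass h0 ((isConj_iff.2 ⟨el ⟨c, 0⟩, ?_⟩).trans ((D.Ep_cls hq hc hx hx1).trans
      (isConj_iff.2 ⟨g, (hf x hx).symm⟩)).symm)
    rw [← map_inv, ← map_mul, ← map_mul, hcc]
  obtain ⟨x₀, hx₀, h0⟩ : ∃ x ∈ Ep q, (f x).p ≠ 0 := by
    by_contra h
    push Not at h
    refine D.no_E hq g fun e he => ⟨?_, ?_⟩
    · rw [← hf ⟨e, 0⟩ ⟨Or.inl rfl, he⟩]; exact D.el_mem_base.2 (h _ ⟨Or.inl rfl, he⟩)
    · rw [← hf ⟨e, q⟩ ⟨Or.inr rfl, he⟩]; exact D.el_mem_base.2 (h _ ⟨Or.inr rfl, he⟩)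
  set s := (f x₀).p
  have hcs : Cls el (pe s) := hcl x₀ hx₀ h0
  have hp : ∀ x ∈ Ep q, (f x).p = 0 ∨ (f x).p = s := by
    intro x hx
    by_contra h
    push Not at h
    obtain ⟨hy0, hall⟩ := three_cosets s (f x).p h0 h.1 h.2
    have e : (f (x₀ * x)).p = s ^^^ (f x).p := by rw [← (hcomm x₀ hx₀ x hx).1]; rfl
    obtain ⟨p, hp, hP⟩ := D.no_all
    rcases hall p hp with e' | e' | e'
    · exact hP (e' ▸ hcs)
    · exact hP (e' ▸ hcl x hx h.1)
    · exact hP (e' ▸ e ▸ hcl _ (mul_mem hx₀ hx) (e ▸ hy0))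
  refine ⟨s, h0, hcs, eq_of_le_of_card_ge ?_ ?_⟩
  · rintro _ ⟨_, ⟨x, hx, rfl⟩, rfl⟩
    refine ⟨f x, ⟨hp x hx, ?_⟩, hf x hx⟩
    exact comm_fix (f x₀) (f x) (D.out_ty h0 (hsq x₀ hx₀)) (hp x hx) (hsq x hx) (hcomm x₀ hx₀ x hx).2
  · rw [card_cj, card_map_of_injective D.inj, card_map_of_injective D.inj, card_Ep h0, card_Ep hq]

/-- Balance on a pure group of order eight. -/
theorem bal_pure {s : Fin 4} (hs : s ≠ 0) (hc : Cls el (pe s)) {x : T} (hx : x ∈ Ep s) (hx1 : x ≠ 1) {X : Subgroup G}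
    (hXC : X ≤ centralizer ({el x} : Set G)) (hodd : Odd (Nat.card X))
    (hXE : (Ep s).map el ≤ normalizer (X : Set G)) : X ≤ Oc (el x) := by
  haveI : Fact (Nat.Prime 2) := ⟨Nat.prime_two⟩
  obtain ⟨g, hg⟩ := isConj_iff.1 (D.Ep_cls hs hc hx hx1).symm
  set C := centralizer ({el zz} : Set G)
  have hgC : cj g ((Ep s).map el) ≤ C := by
    rintro _ ⟨_, ⟨y, hy, rfl⟩, rfl⟩
    refine mem_centralizer_singleton_iff.2 ?_
    show g * el y * g⁻¹ * el zz = el zz * (g * el y * g⁻¹)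
    have hsq' : ∀ z ∈ Ep s, z * z = 1 := fun z hz => (Ep_sq s hs z hz.1 hz.2).1
    rw [← hg, show g * el y * g⁻¹ * (g * el x * g⁻¹) = g * (el y * el x) * g⁻¹ by group, ← map_mul,
      comm_of_sq hsq' hy hx, map_mul]
    group
  obtain ⟨c, hcS⟩ := exists_cj_le (S.subtype D.S_cent) (P := (cj g ((Ep s).map el)).subgroupOf C)
    (((IsPGroup.to_le S.2 (by rintro _ ⟨y, -, rfl⟩; exact D.mem_S y)).map _).comap_subtype)
  set h := (c : G) * g
  have hS : ∀ y ∈ Ep s, h * el y * h⁻¹ ∈ (S : Subgroup G) := fun y hy => by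
    have hm : (⟨g * el y * g⁻¹, hgC (conj_mem_cj.2 (mem_map_of_mem el hy))⟩ : C) ∈
        (cj g ((Ep s).map el)).subgroupOf C := conj_mem_cj.2 (mem_map_of_mem el hy)
    have := hcS ((conj_mem_cj (g := c)).2 hm)
    rw [Sylow.coe_subtype, mem_subgroupOf] at this
    simpa [h, mul_assoc] using this
  obtain ⟨t, ht, -, hE⟩ := D.image_Ep hs hc hS
  have hh : h⁻¹ * el zz * h⁻¹⁻¹ = el x := by
    have h1 : h * el x * h⁻¹ = el zz := by
      rw [show h * el x * h⁻¹ = c * (g * el x * g⁻¹) * (c : G)⁻¹ by simp only [h]; group, hg,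
        mem_centralizer_singleton_iff.1 c.2, mul_inv_cancel_right]
    rw [← h1]; group
  obtain ⟨w, hw, hwe⟩ := (hE.symm ▸ mem_map_of_mem el (show (⟨pe t, 0⟩ : T) ∈ Ep t from ⟨Or.inl rfl, (pe_spec t ht).1⟩) :
    el ⟨pe t, 0⟩ ∈ cj h ((Ep s).map el))
  have hwe' : h * w * h⁻¹ = el ⟨pe t, 0⟩ := hwe
  refine D.le_conj hh (pe_six t ht).1 hXC hodd ?_
  rw [← hwe', show h⁻¹ * (h * w * h⁻¹) * h⁻¹⁻¹ = w by group]
  exact hXE hw

/-- The closure on the base in the case of two pairs. -/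
theorem exists_sig_nine {p q q' : Fin 4} (hp : p ≠ 0) (hq : q ≠ 0) (hq' : q' ≠ 0) (hqq : q ≠ q')
    (hP : ¬ Cls el (pe p)) (hc : Cls el (pe q)) (hc' : Cls el (pe q')) (hN : Nrm el) :
    ∃ W : Subgroup G, Sig el W := by
  haveI : Fact (Nat.Prime 2) := ⟨Nat.prime_two⟩
  obtain ⟨u, hu0, hup, hshu, hst, ⟨-, H1⟩ | ⟨β, rfl, hsh⟩⟩ := D.stab hN hp hP
  · exact absurd (H1 q q' hq hq' hc hc') hqq
  set A := base.map el
  have hC : ∀ z ∈ A, ∀ w ∈ A, z ∈ centralizer ({w} : Set G) := fun z hz w hw =>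
    mem_centralizer_singleton_iff.2 (D.base_comm hz hw)
  set W := ⨆ a : {a : Fin 16 // Cls el a}, Oc (el ⟨(a : Fin 16), 0⟩) with hWdef
  have hWle : ∀ a : Fin 16, Cls el a → Oc (el ⟨a, 0⟩) ≤ W := fun a ha =>
    le_iSup (fun a : {a : Fin 16 // Cls el a} => Oc (el ⟨(a : Fin 16), 0⟩)) ⟨a, ha⟩
  -- the closures on the pure groups
  have hWs : ∀ s : Fin 4, s ≠ 0 → Cls el (pe s) → Odd (Nat.card W) ∧
      (∀ x ∈ Ep s, x ≠ 1 → Oc (el x) ≤ W) ∧
      W ≤ ⨆ e : {e : G // e ∈ (Four (pe s)).map el ∧ e ≠ 1}, Oc (e : G) := by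
    intro s hs hcs
    set E := (Ep s).map el
    have hEsq : ∀ v ∈ E, v * v = 1 := by
      rintro _ ⟨x, hx, rfl⟩
      rw [← map_mul, (Ep_sq s hs x hx.1 hx.2).1, map_one]
    obtain ⟨W', hW', hle', -, -, hgen'⟩ := closure_props (V := E) hEsq
      (by rw [card_map_of_injective D.inj, card_Ep hs]) (by
        rintro _ ⟨x, hx, rfl⟩ hx1 _ ⟨y, hy, rfl⟩ hy1 d hd hdy
        have hy1' : y ≠ 1 := fun e => hy1 (by rw [e, map_one])
        refine D.bal_pure hs hcs hy hy1' (X := Oc (el x) ⊓ centralizer ({el y} : Set G)) inf_le_right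
          (Odd.of_dvd_nat (Oc_odd _) (card_dvd_of_le inf_le_left))
          (fun v hv => inf_normalizer_le_normalizer_inf
            ⟨cent_le_normalizer_Oc _ (mem_centralizer_singleton_iff.2 (comm_of_sq hEsq hv (mem_map_of_mem el hx))),
              le_normalizer (mem_centralizer_singleton_iff.2 (comm_of_sq hEsq hv (mem_map_of_mem el hy)))⟩)
          ⟨hd, mem_centralizer_singleton_iff.2 hdy⟩)
    have hFE : (Four (pe s)).map el ≤ E := map_mono fun x hx => ⟨Or.inl hx.1, by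
      rcases hx.2 with e | e | e | e <;> rw [e]
      · exact (shift_zero s 0).2.1
      · exact sh_fifteen s
      · exact (pe_spec s hs).1
      · rw [sh_xor, (pe_spec s hs).1, sh_fifteen]⟩
    obtain ⟨h60, h615⟩ := (pe_six s hs).2
    have hgen := hgen' _ hFE (D.card_four h60 h615).ge
    have hcv : ∀ c : Fin 16, c = 15 ∨ c = pe s ∨ c = pe s ^^^ 15 → Cls el c := by
      rintro c (rfl | rfl | rfl)
      exacts [D.cls_15, hcs, (D.cls_congr (D.orb_flip hs)).1 hcs]
    have hin : ∀ a : Fin 16, Cls el a → Oc (el ⟨a, 0⟩) ≤ W' := by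
      intro a ha
      refine D.gen_four h60 h615 (Oc_odd _) (fun c _ => cent_le_normalizer_Oc _ (hC _ (D.mem_A c) _ (D.mem_A a)))
        fun c hc4 => ?_
      refine le_trans (D.bal_cls (hcv c hc4) _ inf_le_right (Odd.of_dvd_nat (Oc_odd _) (card_dvd_of_le inf_le_left))
        fun z hz => inf_normalizer_le_normalizer_inf
          ⟨cent_le_normalizer_Oc _ (hC z hz _ (D.mem_A a)), le_normalizer (hC z hz _ (D.mem_A c))⟩) (hle' _ ?_ ?_)
      · exact hFE (mem_map_of_mem el (show (⟨c, 0⟩ : T) ∈ Four (pe s) from ⟨rfl, Or.inr hc4⟩))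
      · exact D.el_ne_one fun e => D.not_cls_zero (e ▸ hcv c hc4)
    have heq : W = W' := by
      refine le_antisymm (iSup_le fun a => hin a a.2) (hgen.trans (iSup_le fun e => ?_))
      obtain ⟨⟨a, t⟩, ⟨ht, ha⟩, he⟩ := e.2.1
      obtain rfl : t = 0 := ht
      rw [← he]
      refine hWle a (hcv a (ha.resolve_left fun h => e.2.2 ?_))
      change a = 0 at h
      rw [← he, h]
      exact map_one el
    rw [heq]
    exact ⟨hW', fun x hx hx1 => hle' _ (mem_map_of_mem el hx) fun e => hx1 (D.el_eq_one.1 e), hgen⟩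
  obtain ⟨hWodd, -, hgenq⟩ := hWs q hq hc
  have hNA : normalizer (A : Set G) ≤ normalizer (W : Set G) := by
    intro g hg
    refine mem_normalizer_of_cj (eq_of_le_of_card_ge ?_ (card_cj g W).ge)
    rw [cj, hWdef, Subgroup.map_iSup]
    refine iSup_le fun a => ?_
    show cj g (Oc (el ⟨(a : Fin 16), 0⟩)) ≤ _
    obtain ⟨c, hce⟩ := D.exists_vec (conj_mem_of_normalizer hg (D.mem_A (a : Fin 16)))
    rw [cj_Oc, ← hce]
    exact hWle c ((D.cls_congr ⟨g, hg, hce.symm⟩).1 a.2)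
  have hAW : A ≤ normalizer (W : Set G) := le_normalizer.trans hNA
  have hWa : ∀ a : Fin 16, Cls el a → W ⊓ centralizer ({el ⟨a, 0⟩} : Set G) ≤ Oc (el ⟨a, 0⟩) := fun a ha =>
    D.bal_cls ha _ inf_le_right (Odd.of_dvd_nat hWodd (card_dvd_of_le inf_le_left)) fun z hz =>
      inf_normalizer_le_normalizer_inf ⟨hAW hz, le_normalizer (hC z hz _ (D.mem_A a))⟩
  -- the centralizer of the centre
  have hnormz : centralizer ({el zz} : Set G) ≤ normalizer (W : Set G) := by
    intro g hg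
    obtain ⟨o, ho, n, hnC, hnM, rfl⟩ := D.cent_split g hg
    refine mul_mem (le_normalizer (hWle 15 D.cls_15 ho)) (mem_normalizer_of_cj (eq_of_le_of_card_ge ?_ (card_cj n W).ge))
    have hevE : ∀ x ∈ Ep q, ev x.a = true := fun x hx => (Ep_sq q hq x hx.1 hx.2).2
    obtain ⟨s, hs, hcs, hE⟩ := D.image_Ep hq hc (g := n) fun x hx => by
      obtain ⟨y, -, hy⟩ := conj_mem_of_normalizer hnM (D.el_mem_evens.2 (hevE x hx))
      exact hy ▸ D.mem_S y
    obtain ⟨-, hsW, -⟩ := hWs s hs hcs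
    refine le_trans (map_mono hgenq) ?_
    rw [Subgroup.map_iSup]
    refine iSup_le fun e => ?_
    show cj n (Oc (e : G)) ≤ W
    rw [cj_Oc]
    obtain ⟨x, ⟨hx0, hxa⟩, hex⟩ := e.2.1
    have hxE : x ∈ Ep q := ⟨Or.inl hx0, by
      rcases hxa with e | e | e | e <;> rw [e]
      · exact (shift_zero q 0).2.1
      · exact sh_fifteen q
      · exact (pe_spec q hq).1
      · rw [sh_xor, (pe_spec q hq).1, sh_fifteen]⟩
    obtain ⟨y, hy, hye⟩ := (hE ▸ conj_mem_cj.2 (mem_map_of_mem el hxE) : n * el x * n⁻¹ ∈ (Ep s).map el)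
    rw [← hex, ← hye]
    refine hsW y hy fun h => e.2.2 ?_
    rw [h, map_one, eq_comm, conj_eq_one_iff] at hye
    rw [← hex, hye]
  -- the centralizer of the pair
  set b := el ⟨pe p, 0⟩
  set w := el ⟨uu β, 0⟩
  obtain ⟨u1, u2, u3, u4, u5⟩ := uu_spec p hp β
  have hnu : ∀ v : Fin 16, nz p β v = true → ¬ Cls el v := fun v hv h => by
    have := ((hsh v).1 h).2; rw [hv] at this; exact Bool.false_ne_true this.symm
  have nu : nz p β (uu β) = true := by simp [nz, u1, u2]
  have nub : nz p β (uu β ^^^ pe p) = true := by simp [nz, u4, u5]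
  have nb : nz p β (pe p) = true := by simp [nz]
  set L := centralizer ({b} : Set G) ⊓ centralizer ({w} : Set G)
  have hAL : A ≤ L := fun z hz => ⟨hC z hz _ (D.mem_A _), hC z hz _ (D.mem_A _)⟩
  have hτC : el ⟨0, p⟩ ∈ centralizer ({b} : Set G) := mem_centralizer_singleton_iff.2 (by
    rw [← map_mul, ← map_mul, pe_comm p])
  have hτL : el ⟨0, p⟩ ∈ normalizer (L : Set G) := mem_normalizer_of_conj_mem fun x hx => by
    set τ := el ⟨0, p⟩
    have hτw : τ * w * τ⁻¹ = w * b := by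
      rw [← map_inv, ← map_mul, ← map_mul, conj_base, u3, ← map_mul, vec_mul]
    have hxC : τ * x * τ⁻¹ ∈ centralizer ({b} : Set G) := mul_mem (mul_mem hτC hx.1) (inv_mem hτC)
    refine ⟨hxC, mem_centralizer_singleton_iff.2 ?_⟩
    have e : w = τ * w * τ⁻¹ * b := by rw [hτw, mul_assoc, D.base_sq b (D.mem_A _), mul_one]
    have h1 : Commute (τ * x * τ⁻¹) (τ * w * τ⁻¹) := by
      show τ * x * τ⁻¹ * (τ * w * τ⁻¹) = τ * w * τ⁻¹ * (τ * x * τ⁻¹)
      rw [show τ * x * τ⁻¹ * (τ * w * τ⁻¹) = τ * (x * w) * τ⁻¹ by group, mem_centralizer_singleton_iff.1 hx.2]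
      group
    rw [e]
    exact (h1.mul_right (mem_centralizer_singleton_iff.1 hxC)).eq
  have hOb : ∀ v : Fin 16, Oc (el ⟨v, 0⟩) ≤ W := by
    intro v
    refine D.gen_four (pe_six q hq).2.1 (pe_six q hq).2.2 (Oc_odd _)
      (fun c _ => cent_le_normalizer_Oc _ (hC _ (D.mem_A c) _ (D.mem_A v))) fun c hc4 => ?_
    have hcc : Cls el c := by
      rcases hc4 with rfl | rfl | rfl
      exacts [D.cls_15, hc, (D.cls_congr (D.orb_flip hq)).1 hc]
    exact (D.bal_cls hcc _ inf_le_right (Odd.of_dvd_nat (Oc_odd _) (card_dvd_of_le inf_le_left))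
      fun z hz => inf_normalizer_le_normalizer_inf
        ⟨cent_le_normalizer_Oc _ (hC z hz _ (D.mem_A v)), le_normalizer (hC z hz _ (D.mem_A c))⟩).trans (hWle c hcc)
  -- the odd part of `W` in `L` lies in its core
  have hWL : ∀ y ∈ W ⊓ L, y ∈ Oc b := by
    obtain ⟨Q, hQ⟩ := exists_sylow_eq hAL (isPGroup_of_sq D.base_sq) fun R hR hAR hRL =>
      D.sylow_pair (pe_six p hp).2.1 hu0 (Ne.symm hup) hP (hnu _ nu) (by
        have hx : pe p ^^^ uu β = uu β ^^^ pe p := by
          have : ∀ x y : Fin 16, x ^^^ y = y ^^^ x := by decide +kernel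
          exact this _ _
        rw [hx]; exact hnu _ nub) hR hAR hRL
    set V := ((Span (pe p) (uu β)).map el).subgroupOf L
    have hVA : (Span (pe p) (uu β)).map el ≤ A := map_mono fun x hx => hx.1
    have hVcen : ∀ g : L, ∀ v ∈ V, g * v = v * g := by
      rintro g v ⟨⟨a, t⟩, ⟨ht, ha⟩, hv⟩
      obtain rfl : t = 0 := ht
      refine Subtype.ext ?_
      show (g : G) * v = v * g
      rw [show (v : G) = el ⟨a, 0⟩ from hv.symm]
      have h1 : Commute (g : G) b := mem_centralizer_singleton_iff.1 g.2.1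
      have h2 : Commute (g : G) w := mem_centralizer_singleton_iff.1 g.2.2
      rcases ha with e | e | e | e <;> change a = _ at e <;> rw [e]
      · rw [show (⟨0, 0⟩ : T) = 1 from rfl, map_one, mul_one, one_mul]
      · exact h1
      · exact h2
      · rw [← vec_mul, map_mul]; exact (h2.mul_right h1).eq
    haveI : V.Normal := ⟨fun v hv g => by rwa [hVcen g v hv, mul_inv_cancel_right]⟩
    have hV2 : IsPGroup 2 V := (isPGroup_of_sq fun v hv => D.base_sq v (hVA hv)).comap_subtype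
    set f := QuotientGroup.mk' V
    have hf : Function.Surjective f := QuotientGroup.mk'_surjective V
    have hQsq : ∀ x ∈ (Q : Subgroup L), x * x = 1 := fun x hx => by
      rw [hQ] at hx
      exact Subtype.ext (D.base_sq _ hx)
    have hK : IsKleinFour ((Q.mapSurjective hf : Sylow 2 (L ⧸ V)) : Subgroup (L ⧸ V)) := by
      rw [Sylow.coe_mapSurjective]
      have hcard : Nat.card ((Q : Subgroup L).map f) = 4 := by
        have h1 := (V.subgroupOf (Q : Subgroup L)).card_mul_index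
        have hVQ : V ≤ (Q : Subgroup L) := by rw [hQ]; exact fun v hv => hVA hv
        have hV4 : Nat.card V = 4 := by
          rw [Nat.card_congr (subgroupOfEquivOfLe (hVA.trans hAL)).toEquiv, card_map_of_injective D.inj,
            ← Span_count (pe p) (uu β) (pe_six p hp).2.1 hu0 hup, ← card_filter]
          exact Nat.card_congr (Equiv.subtypeEquivRight fun x => Iff.rfl)
        have hQ16 : Nat.card (Q : Subgroup L) = 16 := by
          rw [hQ, Nat.card_congr (subgroupOfEquivOfLe hAL).toEquiv, D.card_base]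
        rw [Nat.card_congr (subgroupOfEquivOfLe hVQ).toEquiv, hV4, hQ16] at h1
        have h2 := relIndex_ker (K := (Q : Subgroup L)) f
        rw [QuotientGroup.ker_mk'] at h2
        rw [← h2, relIndex]
        omega
      haveI : Nontrivial ((Q : Subgroup L).map f) := Finite.one_lt_card_iff_nontrivial.1 (by rw [hcard]; norm_num)
      refine ⟨hcard, (Nat.dvd_prime Nat.prime_two).1 (Monoid.exponent_dvd_of_forall_pow_eq_one ?_) |>.resolve_left ?_⟩
      · rintro ⟨_, x, hx, rfl⟩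
        refine Subtype.ext ?_
        show f x ^ 2 = 1
        rw [← map_pow, sq, hQsq x hx, map_one]
      · rw [Monoid.exp_eq_one_iff]
        exact not_subsingleton _
    have hY : Odd (Nat.card ((W.subgroupOf L).map f)) := by
      refine Odd.of_dvd_nat hWodd ((card_map_dvd _ f).trans ?_)
      rw [← card_map_of_injective L.subtype_injective, subgroupOf_map_subtype]
      exact card_dvd_of_le inf_le_left
    have hC' : ∀ pb ∈ ((Q.mapSurjective hf : Sylow 2 (L ⧸ V)) : Subgroup (L ⧸ V)), pb ≠ 1 →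
        ∀ xb : L ⧸ V, xb * pb = pb * xb → Odd (orderOf xb) → xb ∈ (W.subgroupOf L).map f := by
      intro pb hpb hp1 xb hcomm hxo
      rw [Sylow.coe_mapSurjective] at hpb
      obtain ⟨a, ha, rfl⟩ := hpb
      obtain ⟨x₀, rfl⟩ := hf xb
      -- a lift of odd order
      obtain ⟨k, m, hm, hk⟩ := Nat.exists_eq_two_pow_mul_odd (orderOf_pos x₀).ne'
      have hco : Odd (orderOf (x₀ ^ 2 ^ k)) := by
        rw [orderOf_pow' _ (pow_ne_zero _ two_ne_zero), hk, Nat.gcd_mul_right_left,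
          Nat.mul_div_cancel_left _ (by positivity)]
        exact hm
      obtain ⟨j, hj⟩ := exists_pow_eq_self_of_coprime (x := f x₀) (n := 2 ^ k)
        ((Nat.coprime_two_left.2 hxo).pow_left k)
      set x := (x₀ ^ 2 ^ k) ^ j
      have hfx : f x = f x₀ := by simp only [x, map_pow]; exact hj
      have hxodd : Odd (orderOf x) := hco.of_dvd_nat (orderOf_pow_dvd _)
      refine ⟨x, ?_, hfx⟩
      rw [SetLike.mem_coe, mem_subgroupOf]
      -- `x` centralizes the coset
      have hmem : x * a * x⁻¹ * a⁻¹ ∈ V := (QuotientGroup.eq_one_iff _).1 (by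
        show f (x * a * x⁻¹ * a⁻¹) = 1
        rw [map_mul, map_mul, map_mul, map_inv, map_inv, hfx, hcomm, mul_inv_cancel_right, mul_inv_cancel])
      set v := x * a * x⁻¹ * a⁻¹
      have hxv : x * v * x⁻¹ = v := by rw [hVcen x v hmem, mul_inv_cancel_right]
      have hxa : x * a * x⁻¹ = v * a := by simp only [v]; group
      have hit : ∀ i : ℕ, x ^ i * a * (x ^ i)⁻¹ = v ^ i * a := by
        intro i
        induction i with
        | zero => simp
        | succ i ih =>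
          rw [pow_succ' x, show x * x ^ i * a * (x * x ^ i)⁻¹ = x * (x ^ i * a * (x ^ i)⁻¹) * x⁻¹ by group, ih,
            show x * (v ^ i * a) * x⁻¹ = (x * v * x⁻¹) ^ i * (x * a * x⁻¹) by rw [conj_pow]; group, hxv, hxa,
            ← mul_assoc, ← pow_succ]
      have hv1 : v = 1 := by
        have h1 := hit (orderOf x)
        rw [pow_orderOf_eq_one, one_mul, inv_one, mul_one, eq_comm, mul_eq_right] at h1
        exact eq_one_of_sq_odd (Subtype.ext (D.base_sq _ (hVA hmem))) (hxodd.of_dvd_nat (orderOf_dvd_of_pow_eq_one h1))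
      rw [hv1, one_mul] at hxa
      have hxa' : Commute (x : G) (a : G) := congrArg Subtype.val (mul_inv_eq_iff_eq_mul.1 hxa)
      have haA : (a : G) ∈ A := by rw [hQ] at ha; exact ha
      obtain ⟨c, hca⟩ := D.exists_vec haA
      have hcV : ¬ (c = 0 ∨ c = pe p ∨ c = uu β ∨ c = uu β ^^^ pe p) := fun h => hp1
        ((QuotientGroup.eq_one_iff a).2 (show (a : G) ∈ (Span (pe p) (uu β)).map el from
          hca ▸ mem_map_of_mem el (show (⟨c, 0⟩ : T) ∈ Span (pe p) (uu β) from ⟨rfl, h⟩)))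
      push Not at hcV
      have h := coset_cls p hp β c hcV.1 hcV.2.1 hcV.2.2.1 hcV.2.2.2
      simp only [List.any_eq_true, Bool.and_eq_true, Bool.not_eq_true', bne_iff_ne] at h
      obtain ⟨v0, hv0, hnz, hne⟩ := h
      set d := c ^^^ v0
      have hd : Cls el d := (hsh d).2 ⟨hne, hnz⟩
      have hxb : Commute (x : G) b := mem_centralizer_singleton_iff.1 (x : L).2.1
      have hxw : Commute (x : G) w := mem_centralizer_singleton_iff.1 (x : L).2.2
      have hxwb : Commute (x : G) (el ⟨uu β ^^^ pe p, 0⟩) := by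
        rw [← vec_mul, map_mul]; exact hxw.mul_right hxb
      have hxd : Commute (x : G) (el ⟨d, 0⟩) := by
        rw [← vec_mul, map_mul, hca]
        refine hxa'.mul_right ?_
        simp only [List.mem_cons, List.not_mem_nil, or_false] at hv0
        rcases hv0 with e | e | e | e <;> rw [e]
        · rw [show (⟨0, 0⟩ : T) = 1 from rfl, map_one]; exact Commute.one_right _
        exacts [hxb, hxw, hxwb]
      obtain ⟨n, hn, hne'⟩ := D.cls_orb.1 hd
      set x' := n⁻¹ * (x : G) * n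
      have key : ∀ v : Fin 16, nz p β v = true → Commute (x : G) (el ⟨v, 0⟩) →
          ∃ y : Fin 16, el ⟨y, 0⟩ = n⁻¹ * el ⟨v, 0⟩ * n⁻¹⁻¹ ∧ Commute x' (el ⟨y, 0⟩) ∧ (y ≠ 0 → nz p β y = true) := by
        intro v hv hxv'
        obtain ⟨y, hy⟩ := D.exists_vec (conj_mem_of_normalizer (inv_mem hn) (D.mem_A v))
        refine ⟨y, hy, ?_, fun hy0 => ?_⟩
        · show x' * el ⟨y, 0⟩ = el ⟨y, 0⟩ * x'
          rw [hy]; simp only [x']
          calc n⁻¹ * (x : G) * n * (n⁻¹ * el ⟨v, 0⟩ * n⁻¹⁻¹) = n⁻¹ * ((x : G) * el ⟨v, 0⟩) * n := by group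
            _ = n⁻¹ * (el ⟨v, 0⟩ * x) * n := by rw [hxv'.eq]
            _ = _ := by group
        · by_contra h'
          refine hnu v hv ((D.cls_congr ⟨n⁻¹, inv_mem hn, hy.symm⟩).2 ((hsh y).2 ⟨hy0, ?_⟩))
          simpa using h'
      obtain ⟨y1, hy1, hc1, hn1⟩ := key _ nb hxb
      obtain ⟨y2, hy2, hc2, hn2⟩ := key _ nu hxw
      obtain ⟨y3, hy3, hc3, hn3⟩ := key _ nub hxwb
      have hy12 : y3 = y2 ^^^ y1 := D.vec_inj (by
        rw [← vec_mul y2, map_mul, hy1, hy2, hy3, ← vec_mul, map_mul]; group)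
      have hne0 : ∀ {v y : Fin 16}, el ⟨y, 0⟩ = n⁻¹ * el ⟨v, 0⟩ * n⁻¹⁻¹ → v ≠ 0 → y ≠ 0 := by
        intro v y e hv e0
        rw [e0, show (⟨0, 0⟩ : T) = 1 from rfl, map_one, eq_comm, conj_eq_one_iff, D.el_eq_one] at e
        exact hv (congrArg T.a e)
      obtain ⟨e1, e2⟩ := pure_four p hp β y2 y1 (hn2 (hne0 hy2 hu0)) (hn1 (hne0 hy1 (pe_six p hp).2.1))
        (hy12 ▸ hn3 (hne0 hy3 (xor_ne _ _ hup)))
      simp only [List.any_eq_true, Bool.not_eq_true'] at e1 e2
      obtain ⟨e, he, he6⟩ := e1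
      obtain ⟨e', he', he'o⟩ := e2
      have hall : ∀ v ∈ [y2, y1, y2 ^^^ y1], Commute x' (el ⟨v, 0⟩) := by
        simp only [List.mem_cons, List.not_mem_nil, or_false]
        rintro v (rfl | rfl | rfl)
        exacts [hc2, hc1, hy12 ▸ hc3]
      have hx'C : x' ∈ centralizer ({el zz} : Set G) := by
        refine mem_centralizer_singleton_iff.2 ?_
        have e0 : el zz = n⁻¹ * el ⟨d, 0⟩ * n := by
          rw [← hne', show (⟨15, 0⟩ : T) = zz from rfl]; group
        rw [e0]; simp only [x']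
        calc n⁻¹ * (x : G) * n * (n⁻¹ * el ⟨d, 0⟩ * n) = n⁻¹ * ((x : G) * el ⟨d, 0⟩) * n := by group
          _ = n⁻¹ * (el ⟨d, 0⟩ * x) * n := by rw [hxd.eq]
          _ = _ := by group
      have hx'o : Odd (orderOf x') := by
        have h := Invol.orderOf_conj_eq (G := G) n⁻¹ (x : G)
        rw [inv_inv] at h
        rwa [h, orderOf_coe]
      have h4 := conj_mem_Oc (g := n) (D.odd_vec_pair he6 he'o hx'C hx'o (hall e he).eq (hall e' he').eq)
      rw [show n * el zz * n⁻¹ = el ⟨d, 0⟩ from hne', show n * x' * n⁻¹ = (x : G) by simp only [x']; group] at h4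
      exact hWle d hd h4
    have hklein := klein_core (Q.mapSurjective hf) hK hY (by
      rw [Sylow.coe_mapSurjective, hQ]
      refine (map_mono fun x hx => ?_).trans (le_normalizer_map f)
      refine mem_normalizer_of_conj_mem fun y hy => ?_
      rw [mem_subgroupOf] at hy ⊢
      exact conj_mem_of_normalizer (hAW hx) hy) hC'
    have hcore : LocalBalance.core 2 L ≤ Oc b := by
      refine le_Oc_of_mod ((LocalBalance.core_le _).trans inf_le_left) (core_odd L) fun g hg => ?_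
      have hk' : ∀ k ∈ centralizer ({b} : Set G), k * w = w * k →
          k ∈ normalizer ((LocalBalance.core 2 L : Subgroup G) : Set G) := fun k hk hkw =>
        LocalBalance.normalizer_le_normalizer_core L (le_normalizer ⟨hk, mem_centralizer_singleton_iff.2 hkw⟩)
      obtain ⟨o, ho, k, hk, hkw, e | ⟨-, e⟩⟩ :=
        D.cb_split hp hP hu0 hup hshu (fun h => absurd h (by
          rw [u3]
          exact fun h' => (pe_six p hp).2.1 (by
            have : ∀ x y : Fin 16, x ^^^ y = x → y = 0 := by decide +kernel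
            exact this _ _ h'))) hst g hg
      · exact ⟨o, ho, k, hk' k hk hkw, mem_centralizer_singleton_iff.1 hk, e⟩
      · exact ⟨o, ho, _, mul_mem (inv_mem (LocalBalance.normalizer_le_normalizer_core L hτL)) (hk' k hk hkw),
          mem_centralizer_singleton_iff.1 (mul_mem (inv_mem hτC) hk), e⟩
    rintro y ⟨hyW, hyL⟩
    refine hcore ⟨⟨y, hyL⟩, core_mod_central hV2 hVcen ?_ ?_, rfl⟩
    · exact hklein (mem_map_of_mem f (show (⟨y, hyL⟩ : L) ∈ W.subgroupOf L from hyW))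
    · rw [← orderOf_coe]; exact odd_orderOf_of_mem hWodd hyW
  -- balance at the pair
  have hWb : W ⊓ centralizer ({b} : Set G) ≤ Oc b := by
    intro d hd
    obtain ⟨o, ho, k, hk, hku, rfl⟩ := D.iso_split hp hP hu0 hup hst d hd.2
    have hkW : k ∈ W := by
      have := mul_mem (inv_mem (hOb _ ho)) hd.1
      rwa [inv_mul_cancel_left] at this
    have hkb : k * b * k⁻¹ = b := by rw [mem_centralizer_singleton_iff.1 hk, mul_inv_cancel_right]
    have hk2 : k * k * w * (k * k)⁻¹ = w := by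
      rw [show k * k * w * (k * k)⁻¹ = k * (k * w * k⁻¹) * k⁻¹ by group]
      rcases hku with e | e
      · rw [e, e]
      · rw [← vec_mul, map_mul] at e
        rw [e, show k * (w * b) * k⁻¹ = k * w * k⁻¹ * (k * b * k⁻¹) by group, e, hkb]
        show w * b * b = w
        rw [mul_assoc, D.base_sq b (D.mem_A _), mul_one]
    obtain ⟨j, hj⟩ := odd_orderOf_of_mem hWodd hkW
    have hkk : k = (k * k) ^ (j + 1) := by
      rw [← sq, ← pow_mul, show 2 * (j + 1) = 2 * j + 1 + 1 by ring, pow_succ, ← hj, pow_orderOf_eq_one, one_mul]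
    have hkw : k * w = w * k := by
      rw [hkk]
      exact ((show Commute (k * k) w from mul_inv_eq_iff_eq_mul.1 hk2).pow_left _).eq
    exact mul_mem ho (hWL k ⟨hkW, hk, mem_centralizer_singleton_iff.2 hkw⟩)
  have hall : ∀ v : Fin 16, v ≠ 0 → W ⊓ centralizer ({el ⟨v, 0⟩} : Set G) ≤ Oc (el ⟨v, 0⟩) := by
    intro v hv
    rcases D.rep hN hv with h | ⟨r, hr, hR, n, hn, e⟩
    · exact hWa v h
    have hrp : r = p := by
      by_contra hrp
      exact hR ((hsh _).2 ⟨(pe_six r hr).2.1, nz_pairs p r hr hrp β hp⟩)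
    subst hrp
    intro d hd
    have hd' : n⁻¹ * d * n ∈ W ⊓ centralizer ({b} : Set G) := by
      refine ⟨?_, cent_conj.1 (e.symm ▸ hd.2)⟩
      have := conj_mem_of_normalizer (inv_mem (hNA hn)) hd.1
      rwa [inv_inv] at this
    have h1 := conj_mem_Oc (g := n) (hWb hd')
    rwa [e, show n * (n⁻¹ * d * n) * n⁻¹ = d by group] at h1
  refine ⟨W, hWodd, fun a _ => hOb _, hNA, hnormz, fun r hr hR => ?_⟩
  have hrp : r = p := by
    by_contra hrp
    exact hR ((hsh _).2 ⟨(pe_six r hr).2.1, nz_pairs p r hr hrp β hp⟩)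
  subst hrp
  -- `W` is generated by the cores on the four group of the pair
  set w' := el ⟨uu β ^^^ pe r, 0⟩
  have hZ : W ≤ Oc b ⊔ (Oc w ⊔ Oc w') := by
    refine Signalizer.le_of_forall_centralizer D.elementary
      (map_mono fun x hx => hx.1 : (Span (pe r) (uu β)).map el ≤ A) (le_of_eq ?_) ?_ hWodd.not_two_dvd_nat fun e he he1 => ?_
    · rw [card_map_of_injective D.inj, show (2 : ℕ) ^ 2 = 4 by norm_num,
        ← Span_count (pe r) (uu β) (pe_six r hp).2.1 hu0 hup, ← card_filter]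
      exact (Nat.card_congr (Equiv.subtypeEquivRight fun x => Iff.rfl)).symm
    · rintro _ ⟨x, hx, rfl⟩
      exact hAW (D.el_mem_base.2 hx.1)
    · obtain ⟨⟨a, t⟩, ⟨ht, ha⟩, rfl⟩ := he
      obtain rfl : t = 0 := ht
      rcases ha with e | e | e | e <;> change a = _ at e <;> subst e
      · exact absurd (map_one el) he1
      · exact (hall _ (pe_six r hp).2.1).trans le_sup_left
      · exact ((hall _ hu0).trans le_sup_left).trans le_sup_right
      · exact ((hall _ (xor_ne _ _ hup)).trans le_sup_right).trans le_sup_right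
  have hWeq : W = Oc b ⊔ (Oc w ⊔ Oc w') := le_antisymm hZ (sup_le (hOb _) (sup_le (hOb _) (hOb _)))
  intro g hg
  have hτA : el ⟨0, r⟩ ∈ normalizer (W : Set G) := hNA (D.S_le (D.mem_S _))
  have hkN : ∀ k ∈ centralizer ({b} : Set G), k * w = w * k → k ∈ normalizer (W : Set G) := by
    intro k hk hkw
    have h2 : k ∈ centralizer ({w'} : Set G) := mem_centralizer_singleton_iff.2 (by
      simp only [w']
      rw [← vec_mul, map_mul]
      exact ((show Commute k w from hkw).mul_right (show Commute k b from mem_centralizer_singleton_iff.1 hk)).eq)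
    rw [hWeq]
    exact join_normalized (cent_le_normalizer_Oc _ hk) (join_normalized
      (cent_le_normalizer_Oc _ (mem_centralizer_singleton_iff.2 hkw)) (cent_le_normalizer_Oc _ h2))
  obtain ⟨o, ho, k, hk, hkw, e | ⟨-, e⟩⟩ := D.cb_split hp hP hu0 hup hshu (fun h => absurd h (by
    rw [u3]
    exact fun h' => (pe_six r hp).2.1 (by
      have : ∀ x y : Fin 16, x ^^^ y = x → y = 0 := by decide +kernel
      exact this _ _ h'))) hst g hg
  · rw [e]; exact mul_mem (le_normalizer (hOb _ ho)) (hkN k hk hkw)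
  · rw [e]; exact mul_mem (le_normalizer (hOb _ ho)) (mul_mem (inv_mem hτA) (hkN k hk hkw))

end Rec

end CfsgLib.A8Rec
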