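import Cfsg.Agent.A8Rec.Cores

/-!
The signalizer closure on the base when at most one pair lies in the class of the centre.
-/

set_option autoImplicit false
set_option linter.unusedSectionVars false
set_option linter.style.haveILetI false
set_option maxRecDepth 100000

namespace CfsgLib.A8Rec

open Subgroup CfsgLib.SylL34
open CfsgLib.A8Three

theorem nz_pairs : ∀ p q : Fin 4, q ≠ 0 → q ≠ p → ∀ β : Bool, p ≠ 0 → nz p β (pe q) = false := by decide +kernel

theorem out_fix : ∀ y : T, ty y = 3 → ∀ a : Fin 16, a = 15 ∨ a = pe y.p ∨ a = pe y.p ^^^ 15 →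
    y * ⟨a, 0⟩ = ⟨a, 0⟩ * y := by decide +kernel

theorem six_pair : ∀ p : Fin 4, p ≠ 0 → six (pe p) = true ∧ six (pe p ^^^ 15) = true := by decide +kernel

variable {G : Type*} [Group G] [Finite G] {S : Sylow 2 G} {el : T →* G}

/-- A signalizer for the base with the properties needed for the fusion of the centralizers. -/
structure Sig {G : Type*} [Group G] [Finite G] (el : T →* G) (W : Subgroup G) : Prop where
  odd : Odd (Nat.card W)
  le : ∀ a : Fin 16, a ≠ 0 → Oc (el ⟨a, 0⟩) ≤ W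
  normA : normalizer (base.map el : Set G) ≤ normalizer (W : Set G)
  normz : centralizer ({el zz} : Set G) ≤ normalizer (W : Set G)
  normb : ∀ p : Fin 4, p ≠ 0 → ¬ Cls el (pe p) → centralizer ({el ⟨pe p, 0⟩} : Set G) ≤ normalizer (W : Set G)

namespace Rec

variable (D : Rec S el)
include D

theorem el_ne_one {a : Fin 16} (ha : a ≠ 0) : el ⟨a, 0⟩ ≠ 1 := fun h => ha (congrArg T.a (D.el_eq_one.1 h))

/-- With at most one pair in the class a signalizer exists. -/
theorem exists_sig_three (hN : Nrm el)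
    (H1 : ∀ q q' : Fin 4, q ≠ 0 → q' ≠ 0 → Cls el (pe q) → Cls el (pe q') → q = q') : ∃ W : Subgroup G, Sig el W := by
  haveI : Fact (Nat.Prime 2) := ⟨Nat.prime_two⟩
  set A := base.map el
  have hdata : ∀ p : Fin 4, p ≠ 0 → ¬ Cls el (pe p) → Bal el (pe p) ∧ Good A (el ⟨pe p, 0⟩) := by
    intro p hp hP
    obtain ⟨u, hu0, hup, hsh, hst, ⟨hu, -⟩ | ⟨β, rfl, hsh9⟩⟩ := D.stab hN hp hP
    · exact D.good_b hp hP hu hup hsh hst
    · exfalso
      obtain ⟨q, q', hq, hq', hqp, hq'p, hqq, -⟩ := others p hp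
      exact hqq (H1 q q' hq hq' ((hsh9 _).2 ⟨(pe_six q hq).2.1, nz_pairs p q hq hqp β hp⟩)
        ((hsh9 _).2 ⟨(pe_six q' hq').2.1, nz_pairs p q' hq' hq'p β hp⟩))
  have hbal : ∀ a : Fin 16, a ≠ 0 → Bal el a := by
    intro a ha
    rcases D.rep hN ha with h | ⟨p, hp, hP, ho⟩
    · exact D.bal_cls h
    · exact D.Bal_orb (hdata p hp hP).1 ho
  have hgood : ∀ a : Fin 16, six a = true → ¬ Cls el a → Good A (el ⟨a, 0⟩) := by
    intro a ha hA
    obtain ⟨p, hp, ho⟩ := D.six_orb ha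
    have hP : ¬ Cls el (pe p) := fun h => hA ((D.cls_congr ho).1 h)
    obtain ⟨n, hn, e⟩ := ho
    exact e ▸ (hdata p hp hP).2.conj hn
  -- the closure
  obtain ⟨W, hWodd, hWle, -, hWN, hgen⟩ := closure_props (V := A) D.base_sq (by rw [D.card_base]; norm_num) (by
    intro x hx hx1 y hy hy1 d hd hdy
    obtain ⟨a, rfl⟩ := D.exists_vec hx
    obtain ⟨b, rfl⟩ := D.exists_vec hy
    have hb : b ≠ 0 := fun e => hy1 (by rw [e]; exact map_one el)
    have hC : ∀ z ∈ A, ∀ w ∈ A, z ∈ centralizer ({w} : Set G) := fun z hz w hw =>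
      mem_centralizer_singleton_iff.2 (D.base_comm hz hw)
    exact hbal b hb (Oc (el ⟨a, 0⟩) ⊓ centralizer ({el ⟨b, 0⟩} : Set G)) inf_le_right
      (Odd.of_dvd_nat (Oc_odd _) (card_dvd_of_le inf_le_left))
      (fun z hz => inf_normalizer_le_normalizer_inf ⟨cent_le_normalizer_Oc _ (hC z hz _ hx), le_normalizer (hC z hz _ hy)⟩)
      ⟨hd, mem_centralizer_singleton_iff.2 hdy⟩)
  have hle : ∀ a : Fin 16, a ≠ 0 → Oc (el ⟨a, 0⟩) ≤ W := fun a ha => hWle _ (D.mem_A a) (D.el_ne_one ha)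
  -- cores of the centralizers of outside involutions
  have hout : ∀ y : T, ty y = 3 → Oc (el y) ≤ W := by
    intro y hy
    set q := y.p
    have hq : q ≠ 0 := (ty_out y hy).1
    have hc : ∀ a : Fin 16, a = 15 ∨ a = pe q ∨ a = pe q ^^^ 15 → el ⟨a, 0⟩ ∈ centralizer ({el y} : Set G) :=
      fun a ha => mem_centralizer_singleton_iff.2 (by rw [← map_mul, ← map_mul, out_fix y hy a ha])
    have hn : ∀ a : Fin 16, a = 15 ∨ a = pe q ∨ a = pe q ^^^ 15 →
        ∀ b : Fin 16, b = 15 ∨ b = pe q ∨ b = pe q ^^^ 15 →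
        el ⟨a, 0⟩ ∈ normalizer ((Oc (el y) ⊓ centralizer ({el ⟨b, 0⟩} : Set G) : Subgroup G) : Set G) :=
      fun a ha b _ => inf_normalizer_le_normalizer_inf ⟨cent_le_normalizer_Oc _ (hc a ha),
        le_normalizer (mem_centralizer_singleton_iff.2 (D.base_comm (D.mem_A a) (D.mem_A b)))⟩
    refine D.gen_four (pe_six q hq).2.1 (pe_six q hq).2.2 (Oc_odd _)
      (fun a ha => cent_le_normalizer_Oc _ (hc a ha)) fun a ha => ?_
    have hodd : Odd (Nat.card (Oc (el y) ⊓ centralizer ({el ⟨a, 0⟩} : Set G) : Subgroup G)) :=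
      Odd.of_dvd_nat (Oc_odd _) (card_dvd_of_le inf_le_left)
    by_cases h15 : a = 15
    · subst h15
      exact (D.le_of_six (six_pair q hq).1 inf_le_right hodd (hn _ (Or.inr (Or.inl rfl)) _ ha)).trans (hle 15 (by decide))
    have ha6 : six a = true := by
      rcases ha with e | e | e
      exacts [absurd e h15, e ▸ (six_pair q hq).1, e ▸ (six_pair q hq).2]
    have ha0 : a ≠ 0 := (six_big a ha6).2.2.1
    refine le_trans ?_ (hle a ha0)
    by_cases hA : Cls el a
    · obtain ⟨n, hnA, e⟩ := D.cls_orb.1 hA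
      obtain ⟨v, hv⟩ := D.exists_vec (conj_mem_of_normalizer (inv_mem hnA) (D.mem_A 15))
      have hv' : n * el ⟨v, 0⟩ * n⁻¹ = el ⟨15, 0⟩ := by rw [hv]; group
      obtain ⟨s, hs, ho⟩ := D.six_orb ha6
      have hcs : Cls el (pe s) := (D.cls_congr ho).2 hA
      have hshape := D.shape_one hs hcs fun t ht h => H1 t s ht hs h hcs
      have hv6 : six v = true := by
        rcases (hshape v).1 ((D.cls_congr ⟨n, hnA, hv'⟩).2 D.cls_15) with e' | e' | e'
        · subst e'; exact absurd (D.vec_inj (e.symm.trans hv')) h15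
        · exact e' ▸ (six_pair s hs).1
        · exact e' ▸ (six_pair s hs).2
      exact D.le_conj (x := el ⟨a, 0⟩) e hv6 inf_le_right hodd (hv' ▸ hn 15 (Or.inl rfl) a ha)
    · exact D.good_fix ha6 (hbal a ha0) (hgood a ha6 hA) inf_le_right hodd (hn 15 (Or.inl rfl) a ha)
  have hM : ∀ n ∈ centralizer ({el zz} : Set G), n ∈ normalizer (evens.map el : Set G) → cj n W ≤ W := by
    intro n hnC hnM
    obtain ⟨h36, h30, h315⟩ : six 3 = true ∧ (3 : Fin 16) ≠ 0 ∧ (3 : Fin 16) ≠ 15 := by decide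
    have hEA := D.four_le 3
    refine le_trans (map_mono (hgen ((Four 3).map el) hEA (D.card_four h30 h315).ge)) ?_
    rw [Subgroup.map_iSup]
    refine iSup_le fun e => ?_
    show cj n (Oc (e : G)) ≤ W
    rw [cj_Oc]
    obtain ⟨⟨a, p⟩, ⟨hp, ha⟩, he⟩ := e.2.1
    obtain rfl : p = 0 := hp
    have ha0 : a ≠ 0 := fun h => e.2.2 (by rw [← he, h]; exact map_one el)
    rw [← he]
    by_cases h15 : a = 15
    · subst h15
      rw [show (⟨15, 0⟩ : T) = zz from rfl, mem_centralizer_singleton_iff.1 hnC, mul_inv_cancel_right]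
      exact hle 15 (by decide)
    have hev : ev a = true := by
      rcases ha with e' | e' | e' | e'
      · exact absurd e' ha0
      · exact absurd e' h15
      all_goals (change a = _ at e'; rw [e']; decide)
    obtain ⟨y, -, hye⟩ := conj_mem_of_normalizer hnM (D.el_mem_evens.2 (show ev (⟨a, 0⟩ : T).a = true from hev))
    have hy : el y = n * el ⟨a, 0⟩ * n⁻¹ := hye
    rw [← hy]
    by_cases hy0 : y.p = 0
    · obtain ⟨c, q⟩ := y
      obtain rfl : q = 0 := hy0
      refine hle c fun h => ha0 ?_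
      rw [h, show (⟨0, 0⟩ : T) = 1 from rfl, map_one, eq_comm, conj_eq_one_iff, D.el_eq_one] at hy
      exact congrArg T.a hy
    · exact hout y (D.out_ty hy0 (D.inj (by rw [map_mul, map_one, hy]; exact conj_sq n _ (D.base_sq _ (D.mem_A a)))))
  refine ⟨W, hWodd, hle, hWN, fun g hg => ?_, fun p hp hP =>
    (hdata p hp hP).2.le ((hle _ (pe_six p hp).2.1).trans le_normalizer) hWN⟩
  obtain ⟨o, ho, n, hnC, hnM, rfl⟩ := D.cent_split g hg
  exact mul_mem (le_normalizer (hle 15 (by decide) ho))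
    (mem_normalizer_of_cj (eq_of_le_of_card_ge (hM n hnC hnM) (card_cj n W).ge))

end Rec

end CfsgLib.A8Rec
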